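import Mathlib.GroupTheory.PGroup
import Mathlib.GroupTheory.SpecificGroups.Quaternion
import Mathlib.GroupTheory.GroupAction.ConjAct
import Mathlib.GroupTheory.GroupAction.Quotient
import Mathlib.Algebra.Ring.GeomSum
import Mathlib.FieldTheory.Finite.Basic
import Mathlib.Tactic.LinearCombination

/-!
Finite `p`-groups with only one subgroup of order `p` are cyclic or generalized quaternion.
-/

set_option autoImplicit false
set_option linter.style.haveILetI false

namespace CfsgLib.UniqueInvol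

open Subgroup

variable {G : Type*} [Group G]

/-- A nontrivial normal subgroup of a finite `p`-group contains a nontrivial central element. -/
theorem exists_central [Finite G] {p : ℕ} [Fact p.Prime]
    (hP : IsPGroup p G) (B : Subgroup G) [B.Normal] (hB : B ≠ ⊥) :
    ∃ c ∈ B, c ≠ 1 ∧ c ∈ center G := by
  have hQ : IsPGroup p (ConjAct G) := hP.of_equiv ConjAct.toConjAct
  have hdvd : p ∣ Nat.card B :=
    (hP.to_subgroup B).card_eq_or_dvd.resolve_left fun h => hB (eq_bot_of_card_eq B h)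
  have h1 : (1 : B) ∈ MulAction.fixedPoints (ConjAct G) B := fun g => smul_one g
  obtain ⟨c, hc, hc1⟩ := hQ.exists_fixed_point_of_prime_dvd_card_of_fixed_point B hdvd h1
  refine ⟨c, c.2, fun h => hc1 (Subtype.ext h.symm), mem_center_iff.mpr fun g => ?_⟩
  have := congrArg Subtype.val (hc (ConjAct.toConjAct g))
  rw [ConjAct.Subgroup.val_conj_smul, ConjAct.toConjAct_smul] at this
  exact mul_inv_eq_iff_eq_mul.mp this

/-- A maximal normal abelian subgroup of a `p`-group is its own centralizer. -/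
theorem exists_self_centralizing [Finite G] {p : ℕ} [Fact p.Prime] (hP : IsPGroup p G) :
    ∃ A : Subgroup G, A.Normal ∧ (∀ x ∈ A, ∀ y ∈ A, x * y = y * x) ∧
      centralizer (A : Set G) ≤ A := by
  haveI : Finite (Subgroup G) := Finite.of_injective (fun H => (H : Set G)) SetLike.coe_injective
  obtain ⟨A, -, hA⟩ := Set.Finite.exists_le_maximal
    (Set.toFinite {A : Subgroup G | A.Normal ∧ ∀ x ∈ A, ∀ y ∈ A, x * y = y * x})
    (a := (⊥ : Subgroup G)) ⟨inferInstance, fun x hx y hy => by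
      rw [mem_bot.mp hx, mem_bot.mp hy]⟩
  obtain ⟨hAn, hAc⟩ := hA.prop
  refine ⟨A, hAn, hAc, ?_⟩
  by_contra hne
  haveI := hAn
  set C := centralizer (A : Set G)
  haveI : C.Normal := inferInstance
  let f := QuotientGroup.mk' A
  haveI : (C.map f).Normal := Subgroup.Normal.map inferInstance f (QuotientGroup.mk'_surjective A)
  have hne' : C.map f ≠ ⊥ := fun h => hne (by
    rw [Subgroup.map_eq_bot_iff, QuotientGroup.ker_mk'] at h; exact h)
  obtain ⟨c, ⟨b, hb, rfl⟩, hc1, hcc⟩ := exists_central (hP.to_quotient A) (C.map f) hne'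
  have hbA : b ∉ A := fun h => hc1 ((QuotientGroup.eq_one_iff b).mpr h)
  set B := closure ((A : Set G) ∪ {b})
  have hAB : A ≤ B := fun x hx => subset_closure (Or.inl hx)
  have hbB : b ∈ B := subset_closure (Or.inr rfl)
  have hcomm : ∀ x ∈ (A : Set G) ∪ {b}, ∀ y ∈ (A : Set G) ∪ {b}, x * y = y * x := by
    rintro x (hx | hx) y (hy | hy)
    · exact hAc x hx y hy
    · rw [Set.mem_singleton_iff.mp hy]; exact mem_centralizer_iff.mp hb x hx
    · rw [Set.mem_singleton_iff.mp hx]; exact (mem_centralizer_iff.mp hb y hy).symm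
    · rw [Set.mem_singleton_iff.mp hx, Set.mem_singleton_iff.mp hy]
  have hBn : B.Normal := by
    refine ⟨fun y hy g => ?_⟩
    refine Subgroup.closure_induction (p := fun y _ => g * y * g⁻¹ ∈ B) ?_ ?_ ?_ ?_ hy
    · rintro y (hy | hy)
      · exact hAB (hAn.conj_mem y hy g)
      · rw [Set.mem_singleton_iff.mp hy]
        have h := mem_center_iff.mp hcc (f g)
        rw [← map_mul, ← map_mul] at h
        have hmem : (g * b)⁻¹ * (b * g) ∈ A := QuotientGroup.eq.mp h
        have e : g * b * g⁻¹ = b * (g * ((g * b)⁻¹ * (b * g))⁻¹ * g⁻¹) := by group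
        rw [e]
        exact mul_mem hbB (hAB (hAn.conj_mem _ (inv_mem hmem) g))
    · simp
    · intro x y _ _ h1 h2
      rw [← conj_mul]
      exact mul_mem h1 h2
    · intro x _ h1
      rw [← conj_inv]
      exact inv_mem h1
  have hBc : ∀ x ∈ B, ∀ y ∈ B, x * y = y * x := by
    haveI : IsMulCommutative B := Subgroup.isMulCommutative_closure hcomm
    intro x hx y hy
    exact setLike_mul_comm hx hy
  exact hbA (hA.le_of_ge ⟨hBn, hBc⟩ hAB hbB)

theorem pow_conj {a g : G} {r : ℕ} (h : g * a * g⁻¹ = a ^ r) (i : ℤ) :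
    g * a ^ i * g⁻¹ = a ^ ((r : ℤ) * i) := by
  rw [← conj_zpow, h, ← zpow_natCast a r, ← zpow_mul]

theorem pow_conj_pow {a g : G} {r : ℕ} (h : g * a * g⁻¹ = a ^ r) (k : ℕ) :
    g ^ k * a * (g ^ k)⁻¹ = a ^ (r ^ k) := by
  induction k with
  | zero => simp
  | succ k ih =>
    calc g ^ (k + 1) * a * (g ^ (k + 1))⁻¹ = g * (g ^ k * a * (g ^ k)⁻¹) * g⁻¹ := by
          rw [pow_succ']; group
      _ = _ := by rw [ih, ← conj_pow, h, ← pow_mul, pow_succ']

theorem mul_pow_formula {a g : G} {r : ℕ} (h : g * a * g⁻¹ = a ^ r) (i : ℤ) (k : ℕ) :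
    (a ^ i * g) ^ k = a ^ (i * ∑ j ∈ Finset.range k, (r : ℤ) ^ j) * g ^ k := by
  induction k with
  | zero => simp
  | succ k ih =>
    rw [pow_succ, ih, Finset.sum_range_succ, mul_add, zpow_add]
    have hk : g ^ k * a ^ i * (g ^ k)⁻¹ = a ^ (((r ^ k : ℕ) : ℤ) * i) := pow_conj (pow_conj_pow h k) i
    calc a ^ (i * ∑ j ∈ Finset.range k, (r : ℤ) ^ j) * g ^ k * (a ^ i * g)
        = a ^ (i * ∑ j ∈ Finset.range k, (r : ℤ) ^ j) * (g ^ k * a ^ i * (g ^ k)⁻¹) * g ^ (k + 1) := by
          rw [pow_succ]; group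
      _ = _ := by rw [hk, Nat.cast_pow, mul_comm ((r : ℤ) ^ k) i]

section Rank1

variable [Finite G] {p : ℕ} [hp : Fact p.Prime]

/-- An abelian `p`-group with one subgroup of order `p` is cyclic. -/
theorem exists_generator_of_comm (hP : IsPGroup p G) {A : Subgroup G}
    (hc : ∀ x ∈ A, ∀ y ∈ A, x * y = y * x)
    (hu : ∀ x y : G, orderOf x = p → orderOf y = p → y ∈ zpowers x) :
    ∃ a : G, A = zpowers a := by
  classical
  haveI := Fintype.ofFinite A
  obtain ⟨⟨a, ha⟩, -, hmax⟩ := Finset.exists_max_image (Finset.univ : Finset A)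
    (fun x => orderOf (x : G)) ⟨1, Finset.mem_univ _⟩
  simp only [Finset.mem_univ, forall_const, Subtype.forall] at hmax
  refine ⟨a, le_antisymm ?_ (zpowers_le.mpr ha)⟩
  obtain ⟨n, hn⟩ := IsPGroup.iff_orderOf.mp hP a
  suffices ∀ k : ℕ, ∀ b ∈ A, orderOf b = p ^ k → b ∈ zpowers a by
    intro b hb
    obtain ⟨k, hk⟩ := IsPGroup.iff_orderOf.mp hP b
    exact this k b hb hk
  intro k
  induction k with
  | zero =>
    intro b _ hb
    rw [pow_zero, orderOf_eq_one_iff] at hb
    rw [hb]; exact one_mem _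
  | succ k ih =>
    intro b hb hbo
    have hkn : k + 1 ≤ n := by
      have := hmax b hb
      rw [hbo, hn] at this
      exact (Nat.pow_le_pow_iff_right hp.out.one_lt).mp this
    have hn1 : 1 ≤ n := by omega
    have hbp : orderOf (b ^ p) = p ^ k := by
      rw [orderOf_pow, hbo, Nat.gcd_eq_right (dvd_pow_self p (by omega)), pow_succ,
        Nat.mul_div_cancel _ hp.out.pos]
    obtain ⟨s, hs⟩ := mem_powers_iff_mem_zpowers.mpr (ih _ (pow_mem hb p) hbp)
    simp only at hs
    have hps : p ∣ s := by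
      have h1 : a ^ (s * p ^ k) = 1 := by rw [pow_mul, hs, ← hbp, pow_orderOf_eq_one]
      have h2 := orderOf_dvd_of_pow_eq_one h1
      rw [hn] at h2
      have h3 : p ^ (k + 1) ∣ s * p ^ k := (pow_dvd_pow p hkn).trans h2
      rw [pow_succ, mul_comm s] at h3
      exact (Nat.mul_dvd_mul_iff_left (pow_pos hp.out.pos k)).mp h3
    obtain ⟨t, rfl⟩ := hps
    have hat : a ^ t ∈ A := pow_mem ha t
    have he : (b * (a ^ t)⁻¹) ^ p = 1 := by
      rw [Commute.mul_pow (hc _ hb _ (inv_mem hat)), inv_pow, ← pow_mul, mul_comm t p, hs, mul_inv_cancel]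
    by_cases h1 : b * (a ^ t)⁻¹ = 1
    · rw [mul_inv_eq_one.mp h1]
      exact pow_mem (mem_zpowers a) t
    · have hz : orderOf (a ^ p ^ (n - 1)) = p := by
        have hp1 : p ^ n = p * p ^ (n - 1) := by rw [← pow_succ', Nat.sub_add_cancel hn1]
        rw [orderOf_pow, hn, Nat.gcd_eq_right (pow_dvd_pow p (Nat.sub_le n 1)), hp1,
          Nat.mul_div_cancel _ (pow_pos hp.out.pos _)]
      have hmem : b * (a ^ t)⁻¹ ∈ zpowers a :=
        zpowers_le.mpr (pow_mem (mem_zpowers a) _) (hu _ _ hz (orderOf_eq_prime he h1))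
      have := mul_mem hmem (pow_mem (mem_zpowers a) t)
      rwa [inv_mul_cancel_right] at this

/-- The action on a self-centralizing cyclic normal subgroup of an element whose `p`-th power lies in
it. -/
theorem local_step (hP : IsPGroup p G) (hu : ∀ x y : G, orderOf x = p → orderOf y = p → y ∈ zpowers x)
    {a : G} {n : ℕ} (hn : orderOf a = p ^ n) (hn1 : 1 ≤ n)
    (hC : centralizer (zpowers a : Set G) ≤ zpowers a) {g : G} (hg : g ∉ zpowers a)
    (hgp : g ^ p ∈ zpowers a) (hnorm : g * a * g⁻¹ ∈ zpowers a) :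
    p = 2 ∧ g * a * g⁻¹ = a⁻¹ ∧ g ^ 2 = a ^ 2 ^ (n - 1) := by
  obtain ⟨r, hr⟩ := mem_powers_iff_mem_zpowers.mpr hnorm
  simp only at hr
  obtain ⟨s, hs⟩ := mem_powers_iff_mem_zpowers.mpr hgp
  simp only at hs
  have hz : orderOf (a ^ p ^ (n - 1)) = p := by
    have hp1 : p ^ n = p * p ^ (n - 1) := by rw [← pow_succ', Nat.sub_add_cancel hn1]
    rw [orderOf_pow, hn, Nat.gcd_eq_right (pow_dvd_pow p (Nat.sub_le n 1)), hp1,
      Nat.mul_div_cancel _ (pow_pos hp.out.pos _)]
  -- no element of the coset has order `p`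
  have hno : ∀ i : ℤ, ¬ ((p ^ n : ℕ) : ℤ) ∣ i * (∑ j ∈ Finset.range p, (r : ℤ) ^ j) + s := by
    intro i hdvd
    apply hg
    have h1 : (a ^ i * g) ^ p = 1 := by
      rw [mul_pow_formula hr.symm, ← hs, ← zpow_natCast a s, ← zpow_add]
      rw [← hn] at hdvd
      exact orderOf_dvd_iff_zpow_eq_one.mp hdvd
    by_cases h2 : a ^ i * g = 1
    · rw [eq_inv_of_mul_eq_one_right h2]
      exact inv_mem (zpow_mem (mem_zpowers a) i)
    · have h3 := zpowers_le.mpr (pow_mem (mem_zpowers a) _) (hu _ _ hz (orderOf_eq_prime h1 h2))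
      have := mul_mem (inv_mem (zpow_mem (mem_zpowers a) i)) h3
      rwa [inv_mul_cancel_left] at this
  -- `g` fixes its `p`-th power
  have hfix : (s : ℤ) * r ≡ s [ZMOD ((p ^ n : ℕ) : ℤ)] := by
    rw [← hn, ← zpow_eq_zpow_iff_modEq, mul_comm, zpow_natCast]
    rw [← pow_conj hr.symm, zpow_natCast, hs]
    group
  -- `p` divides `s`
  have hps : p ∣ s := by
    by_contra hps
    apply hg
    refine hC (mem_centralizer_iff.mpr fun y hy => ?_)
    have hcop : Nat.Coprime s (orderOf a) := by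
      rw [hn]; exact ((hp.out.coprime_iff_not_dvd.mpr hps).symm).pow_right n
    have hmem : a ∈ zpowers (g ^ p) := by rw [← hs, mem_zpowers_pow_iff]; exact hcop
    obtain ⟨k, hk⟩ := hy
    simp only at hk
    rw [← hk]
    obtain ⟨l, hl⟩ := hmem
    simp only at hl
    rw [← hl]
    exact (((Commute.refl g).pow_left p).zpow_left l).zpow_left k |>.eq
  obtain ⟨s', rfl⟩ := hps
  have hrp : ((r : ℤ)) ^ p ≡ 1 [ZMOD ((p ^ n : ℕ) : ℤ)] := by
    rw [← hn, ← zpow_eq_zpow_iff_modEq, zpow_one, ← Nat.cast_pow, zpow_natCast,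
      ← pow_conj_pow hr.symm, ← hs]
    group
  have hr1 : (r : ℤ) ≡ 1 [ZMOD (p : ℤ)] := by
    have h1 : (r : ℤ) ^ p ≡ 1 [ZMOD (p : ℤ)] :=
      hrp.of_dvd (Int.natCast_dvd_natCast.mpr (dvd_pow_self p (by omega)))
    have h2 : ((r : ℤ) : ZMod p) ^ p = ((1 : ℤ) : ZMod p) := by
      rw [← Int.cast_pow]; exact (ZMod.intCast_eq_intCast_iff _ _ _).mpr h1
    rw [ZMod.pow_card] at h2
    exact (ZMod.intCast_eq_intCast_iff _ _ _).mp h2
  obtain ⟨t, ht⟩ : (p : ℤ) ∣ (r : ℤ) - 1 := Int.ModEq.dvd hr1.symm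
  -- if the sum is `p` times a unit there is a contradiction
  have hsolve : ∀ u : ℤ, (∑ j ∈ Finset.range p, (r : ℤ) ^ j) = p * u → ¬ IsCoprime u (p : ℤ) := by
    intro u hu' hcop
    obtain ⟨x, y, hxy⟩ := (IsCoprime.pow_right (n := n) hcop)
    refine hno (-(x * s')) ⟨p * (y * s'), ?_⟩
    rw [hu']
    push_cast
    linear_combination (-(p * s' : ℤ)) * hxy
  rcases hp.out.eq_two_or_odd' with rfl | hodd
  · refine ⟨rfl, ?_⟩
    rcases Int.even_or_odd t with ⟨l, hl⟩ | ⟨l, hl⟩
    · exfalso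
      refine hsolve (1 + 2 * l) ?_ ⟨1, -l, by push_cast; ring⟩
      simp only [Finset.sum_range_succ, Finset.sum_range_zero]
      push_cast at ht ⊢
      linear_combination ht + 2 * hl
    -- `r ≡ 3 mod 4`
    have hsum : (∑ j ∈ Finset.range 2, (r : ℤ) ^ j) = (r : ℤ) + 1 := by
      simp only [Finset.sum_range_succ, Finset.sum_range_zero]; ring
    set N : ℤ := 2 ^ (n - 1) with hN
    have h2N : ((2 ^ n : ℕ) : ℤ) = 2 * N := by
      rw [hN, ← pow_succ', Nat.sub_add_cancel hn1]; push_cast; rfl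
    have hcop : IsCoprime N (2 * l + 1) := IsCoprime.pow_left ⟨-l, 1, by ring⟩
    have hN1 : N ∣ (r : ℤ) + 1 := by
      have h1 := Int.ModEq.dvd hrp.symm
      rw [h2N, show (r : ℤ) ^ 2 - 1 = 2 * ((2 * l + 1) * ((r : ℤ) + 1)) by
        push_cast at ht; rw [hl] at ht; linear_combination ((r : ℤ) + 1) * ht] at h1
      exact hcop.dvd_of_dvd_mul_left ((mul_dvd_mul_iff_left (two_ne_zero' ℤ)).mp h1)
    have hNs : N ∣ ((2 * s' : ℕ) : ℤ) := by
      have h1 := Int.ModEq.dvd hfix.symm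
      rw [h2N, show ((2 * s' : ℕ) : ℤ) * r - ((2 * s' : ℕ) : ℤ)
          = 2 * ((2 * l + 1) * ((2 * s' : ℕ) : ℤ)) by
        push_cast at ht ⊢; rw [hl] at ht; linear_combination (2 * (s' : ℤ)) * ht] at h1
      exact hcop.dvd_of_dvd_mul_left ((mul_dvd_mul_iff_left (two_ne_zero' ℤ)).mp h1)
    obtain ⟨q, hq⟩ := hN1
    obtain ⟨v, hv⟩ := hNs
    rcases Int.even_or_odd q with ⟨q', hq'⟩ | ⟨q', hq'⟩
    · constructor
      · rw [← hr]
        refine eq_inv_of_mul_eq_one_left ?_
        rw [← pow_succ, ← orderOf_dvd_iff_pow_eq_one, hn, ← Int.natCast_dvd_natCast, h2N]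
        exact ⟨q', by push_cast; rw [hq, hq']; ring⟩
      · rcases Int.even_or_odd v with ⟨v', hv'⟩ | ⟨v', hv'⟩
        · exact absurd ⟨v', by rw [h2N, hv, hv']; ring⟩ (hno 0)
        · rw [← hs, ← zpow_natCast a (2 * s'), ← zpow_natCast a (2 ^ (n - 1)), zpow_eq_zpow_iff_modEq, hn]
          refine (Int.modEq_iff_dvd.mpr ⟨-v', ?_⟩)
          rw [h2N, hv, hv']
          push_cast
          rw [← hN]
          ring
    · exfalso
      rcases Int.even_or_odd v with ⟨v', hv'⟩ | ⟨v', hv'⟩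
      · exact hno 0 ⟨v', by rw [h2N, hv, hv']; ring⟩
      · exact hno 1 ⟨q' + v' + 1, by rw [h2N, hsum, hv, hq, hq', hv']; ring⟩
  · exfalso
    obtain ⟨m, hm⟩ := hodd
    have hm' : (p : ℤ) = 2 * m + 1 := by exact_mod_cast hm
    have key : ∀ k : ℕ, ∃ w : ℤ, 2 * (∑ j ∈ Finset.range k, (r : ℤ) ^ j)
        = 2 * k + p * t * (k * ((k : ℤ) - 1)) + 2 * (p * (p * w)) := by
      have hpw : ∀ j : ℕ, ∃ w : ℤ, (r : ℤ) ^ j = 1 + j * (p * t) + p * (p * w) := by
        intro j
        induction j with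
        | zero => exact ⟨0, by simp⟩
        | succ j ih =>
          obtain ⟨w, hw⟩ := ih
          refine ⟨w * (r : ℤ) + j * t * t, ?_⟩
          rw [pow_succ, hw]
          push_cast
          linear_combination (1 + (j : ℤ) * (p * t)) * ht
      intro k
      induction k with
      | zero => exact ⟨0, by simp⟩
      | succ k ih =>
        obtain ⟨w, hw⟩ := ih
        obtain ⟨w', hw'⟩ := hpw k
        refine ⟨w + w', ?_⟩
        rw [Finset.sum_range_succ, mul_add, hw, hw']
        push_cast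
        ring
    obtain ⟨w, hw⟩ := key p
    refine hsolve (1 + p * (t * m + w)) ?_ ⟨1, -(t * m + w), by ring⟩
    have : (2 : ℤ) * (∑ j ∈ Finset.range p, (r : ℤ) ^ j) = 2 * (p * (1 + p * (t * m + w))) := by
      linear_combination hw + (p * p * t : ℤ) * hm'
    exact mul_left_cancel₀ (two_ne_zero' ℤ) this

/-- A `p`-group with one subgroup of order `p` is cyclic, or `p = 2` and it has a cyclic subgroup of
index two whose outside elements invert it and square to the involution. -/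
theorem structure_thm (hP : IsPGroup p G)
    (hu : ∀ x y : G, orderOf x = p → orderOf y = p → y ∈ zpowers x) :
    IsCyclic G ∨ (p = 2 ∧ ∃ (a : G) (n : ℕ), 2 ≤ n ∧ orderOf a = 2 ^ n ∧ (zpowers a).index = 2 ∧
      ∀ g : G, g ∉ zpowers a → g * a * g⁻¹ = a⁻¹ ∧ g ^ 2 = a ^ 2 ^ (n - 1)) := by
  obtain ⟨A, hAn, hAc, hC⟩ := exists_self_centralizing hP
  obtain ⟨a, rfl⟩ := exists_generator_of_comm hP hAc hu
  haveI := hAn
  by_cases hall : ∀ g : G, g ∈ zpowers a
  · exact Or.inl ⟨a, hall⟩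
  push Not at hall
  obtain ⟨g₀, hg₀⟩ := hall
  obtain ⟨n, hn⟩ := IsPGroup.iff_orderOf.mp hP a
  have hn1 : 1 ≤ n := by
    by_contra hc
    obtain rfl : n = 0 := by omega
    rw [pow_zero, orderOf_eq_one_iff] at hn
    subst hn
    exact hg₀ (hC (mem_centralizer_iff.mpr fun y hy => by
      rw [zpowers_one_eq_bot, SetLike.mem_coe, mem_bot] at hy
      simp [hy]))
  have hstep := fun g hg hgp => local_step hP hu hn hn1 hC (g := g) hg hgp
    (hAn.conj_mem a (mem_zpowers a) g)
  -- every element outside squares into `⟨a⟩`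
  have hlast : ∀ k : ℕ, ∀ g : G, g ^ p ^ k ∈ zpowers a → g ∉ zpowers a → p = 2 ∧ g ^ p ∈ zpowers a := by
    intro k
    induction k with
    | zero => intro g h1 h2; exact absurd (by simpa using h1) h2
    | succ k ih =>
      intro g h1 h2
      by_cases hgp : g ^ p ∈ zpowers a
      · exact ⟨(hstep g h2 hgp).1, hgp⟩
      exfalso
      obtain ⟨rfl, hsq⟩ := ih (g ^ p) (by rw [← pow_mul, ← pow_succ']; exact h1) hgp
      obtain ⟨-, hinv, hsq2⟩ := hstep (g ^ 2) hgp hsq
      obtain ⟨r, hr⟩ := mem_powers_iff_mem_zpowers.mpr (hAn.conj_mem a (mem_zpowers a) g)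
      simp only at hr
      rw [pow_conj_pow hr.symm] at hinv
      have hn2 : 2 ≤ n := by
        by_contra hc
        obtain rfl : n = 1 := by omega
        apply h2
        refine hC (mem_centralizer_iff.mpr fun y hy => ?_)
        obtain ⟨i, hi⟩ := hy
        simp only at hi
        have hg1 : Commute g a := by
          have h2' : a * a = 1 := by rw [← sq, ← pow_one 2, ← hn, pow_orderOf_eq_one]
          rw [Commute, SemiconjBy, ← mul_inv_eq_iff_eq_mul, ← hr]
          rcases Nat.even_or_odd r with ⟨l, rfl⟩ | ⟨l, rfl⟩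
          · exfalso
            rw [← two_mul, pow_mul, sq, h2', one_pow, eq_comm, conj_eq_one_iff] at hr
            rw [hr, orderOf_one] at hn
            norm_num at hn
          · rw [pow_succ, pow_mul, sq, h2', one_pow, one_mul]
        rw [← hi]
        exact ((hg1.zpow_right i).eq).symm
      have h4 : a ^ (r ^ 2 + 1) = 1 := by rw [pow_succ, hinv, inv_mul_cancel]
      have hd : 4 ∣ r ^ 2 + 1 := by
        refine dvd_trans ?_ (orderOf_dvd_of_pow_eq_one h4)
        rw [hn]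
        exact pow_dvd_pow 2 hn2
      rcases Nat.even_or_odd r with ⟨l, rfl⟩ | ⟨l, rfl⟩
      · rw [show (l + l) ^ 2 + 1 = 4 * (l * l) + 1 by ring] at hd
        omega
      · rw [show (2 * l + 1) ^ 2 + 1 = 4 * (l * l + l) + 2 by ring] at hd
        omega
  have hout : ∀ g : G, g ∉ zpowers a → p = 2 ∧ g * a * g⁻¹ = a⁻¹ ∧ g ^ 2 = a ^ 2 ^ (n - 1) := by
    intro g hg
    obtain ⟨k, hk⟩ := hP g
    exact hstep g hg (hlast k g (by rw [hk]; exact one_mem _) hg).2
  obtain ⟨hp2, hinv₀, -⟩ := hout g₀ hg₀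
  subst hp2
  refine Or.inr ⟨rfl, a, n, ?_, hn, ?_, fun g hg => (hout g hg).2⟩
  · by_contra hc
    obtain rfl : n = 1 := by omega
    have ha : a⁻¹ = a := inv_eq_of_mul_eq_one_right (by rw [← sq, ← pow_one 2, ← hn, pow_orderOf_eq_one])
    rw [ha, mul_inv_eq_iff_eq_mul] at hinv₀
    exact hg₀ (hC (mem_centralizer_iff.mpr fun y hy => by
      obtain ⟨i, rfl⟩ := hy
      exact (((show Commute g₀ a from hinv₀).zpow_right i).eq).symm))
  · rw [index_eq_two_iff]
    refine ⟨g₀, fun b => ?_⟩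
    by_cases hb : b ∈ zpowers a
    · exact Or.inr ⟨hb, fun h => hg₀ ((mul_mem_cancel_left hb).mp h)⟩
    · refine Or.inl ⟨hC (mem_centralizer_iff.mpr fun y hy => ?_), hb⟩
      obtain ⟨i, rfl⟩ := hy
      have hc : Commute (b * g₀) a := by
        rw [Commute, SemiconjBy, ← mul_inv_eq_iff_eq_mul]
        calc b * g₀ * a * (b * g₀)⁻¹ = b * (g₀ * a * g₀⁻¹) * b⁻¹ := by group
          _ = (b * a * b⁻¹)⁻¹ := by rw [hinv₀, conj_inv]
          _ = a := by rw [(hout b hb).2.1, inv_inv]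
      exact ((hc.zpow_right i).eq).symm

end Rank1

/-- Recognition of the generalized quaternion group from a cyclic subgroup of index two. -/
theorem nonempty_quaternion_equiv [Finite G] {a : G} {n : ℕ} (hn : 1 ≤ n) (ha : orderOf a = 2 ^ n)
    (hidx : (zpowers a).index = 2) {g : G} (hg : g ∉ zpowers a) (hinv : g * a * g⁻¹ = a⁻¹)
    (hsq : g ^ 2 = a ^ 2 ^ (n - 1)) :
    Nonempty (G ≃* QuaternionGroup (2 ^ (n - 1))) := by
  set N := 2 ^ (n - 1) with hN
  have h2N : 2 * N = 2 ^ n := by rw [hN, ← pow_succ', Nat.sub_add_cancel hn]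
  have hNpos : 0 < N := Nat.two_pow_pos _
  haveI : NeZero N := ⟨hNpos.ne'⟩
  let e : ZMod (2 * N) → G := fun i => a ^ i.val
  have heq : ∀ k l : ℤ, (k : ZMod (2 * N)) = (l : ZMod (2 * N)) → a ^ k = a ^ l := by
    intro k l h
    rw [zpow_eq_zpow_iff_modEq, ha, ← h2N]
    exact (ZMod.intCast_eq_intCast_iff _ _ _).mp h
  have he : ∀ i : ZMod (2 * N), e i = a ^ ((i.val : ℕ) : ℤ) := fun i => (zpow_natCast a i.val).symm
  have hadd : ∀ i j, e i * e j = e (i + j) := by
    intro i j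
    rw [he, he, he, ← zpow_add]
    exact heq _ _ (by simp)
  have hcast : ∀ (i : ZMod (2 * N)) (k : ℤ), (k : ZMod (2 * N)) = i → e i = a ^ k := by
    intro i k hk
    rw [he]
    exact heq _ _ (by simp [hk])
  have hsw : ∀ i, e i * g = g * e (-i) := by
    intro i
    have hc : g * e (-i) * g⁻¹ = e i := by
      rw [hcast (-i) (-(i.val : ℤ)) (by simp), ← conj_zpow, hinv, inv_zpow,
        zpow_neg, inv_inv, he]
    exact (mul_inv_eq_iff_eq_mul.mp hc).symm
  have hgg : g * g = e (N : ZMod (2 * N)) := by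
    rw [← sq, hsq, hcast (N : ZMod (2 * N)) (N : ℤ) (by simp), zpow_natCast]
  let φ : QuaternionGroup N → G := fun x => match x with
    | .a i => e i
    | .xa i => g * e i
  have hmul : ∀ x y, φ (x * y) = φ x * φ y := by
    rintro (i | i) (j | j)
    · exact (hadd i j).symm
    · show g * e (j - i) = e i * (g * e j)
      rw [← mul_assoc, hsw, mul_assoc, hadd, neg_add_eq_sub]
    · show g * e (i + j) = g * e i * e j
      rw [mul_assoc, hadd]
    · show e ((N : ZMod (2 * N)) + j - i) = g * e i * (g * e j)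
      rw [show g * e i * (g * e j) = g * (e i * g) * e j by group, hsw, ← mul_assoc, hgg, hadd, hadd,
        ← sub_eq_add_neg, sub_add_eq_add_sub]
  have hsurj : Function.Surjective φ := by
    have hpow : ∀ y ∈ zpowers a, ∃ i, e i = y := by
      rintro _ ⟨k, rfl⟩
      exact ⟨(k : ZMod (2 * N)), hcast _ k rfl⟩
    intro y
    by_cases hy : y ∈ zpowers a
    · obtain ⟨i, hi⟩ := hpow y hy
      exact ⟨.a i, hi⟩
    · obtain ⟨i, hi⟩ := hpow (g⁻¹ * y) ((mul_mem_iff_of_index_two hidx).mpr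
        (iff_of_false (fun h => hg (inv_mem_iff.mp h)) hy))
      exact ⟨.xa i, show g * e i = y by rw [hi, mul_inv_cancel_left]⟩
  have hcard : Nat.card G = Nat.card (QuaternionGroup N) := by
    rw [← Subgroup.card_mul_index (zpowers a), hidx, Nat.card_zpowers, ha, Nat.card_eq_fintype_card,
      QuaternionGroup.card, ← h2N]
    ring
  have hbij := hsurj.bijective_of_nat_card_le hcard.ge
  exact ⟨(MulEquiv.ofBijective (MonoidHom.mk' φ hmul) hbij).symm⟩

/-- A finite `p`-group with one subgroup of order `p` is cyclic or generalized quaternion. -/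
theorem cyclic_or_quaternion [Finite G] {p : ℕ} [Fact p.Prime] (hP : IsPGroup p G)
    (hu : ∀ x y : G, orderOf x = p → orderOf y = p → y ∈ zpowers x) :
    IsCyclic G ∨ (p = 2 ∧ ∃ n : ℕ, 1 ≤ n ∧ Nonempty (G ≃* QuaternionGroup (2 ^ n))) := by
  refine (structure_thm hP hu).imp_right ?_
  rintro ⟨rfl, a, n, hn, ha, hidx, hout⟩
  obtain ⟨g, hg⟩ : ∃ g : G, g ∉ zpowers a := by
    by_contra h
    push Not at h
    rw [(eq_top_iff' _).mpr h, index_top] at hidx
    omega
  obtain ⟨h1, h2⟩ := hout g hg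
  exact ⟨rfl, n - 1, by omega, nonempty_quaternion_equiv (by omega) ha hidx hg h1 h2⟩

end CfsgLib.UniqueInvol
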