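import Cfsg.Agent.InvChar.ZStarApps
import Cfsg.Prelude.Def_TwoFusion
import Mathlib

/-!
A finite simple group has no Sylow 2-subgroup which is a direct product of a generalized quaternion group
and a group whose involutions are central (modulo the Z* theorem).
-/

namespace CfsgLib.InvChar

theorem quaternion_facts (m : ℕ) (hm : 1 ≤ m) :
    IsPGroup 2 (QuaternionGroup (2 ^ m)) ∧
    ∃ z : QuaternionGroup (2 ^ m), orderOf z = 2 ∧
      (∀ q, orderOf q = 2 → q = z) ∧ (∀ q, q * z = z * q) ∧
      (∃ u v : QuaternionGroup (2 ^ m), z = u * v * u⁻¹ * v⁻¹) := by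
  obtain ⟨N, hN⟩ : ∃ N, N = 2 ^ m := ⟨_, rfl⟩
  have hpos : 0 < N := by rw [hN]; positivity
  have hcard : Nat.card (QuaternionGroup (2 ^ m)) = 2 ^ (m + 2) := by
    haveI : NeZero (2 ^ m) := ⟨by positivity⟩
    rw [Nat.card_eq_fintype_card, QuaternionGroup.card]; ring
  rw [← hN] at hcard ⊢
  haveI : NeZero N := ⟨hpos.ne'⟩
  refine ⟨IsPGroup.of_card hcard, QuaternionGroup.a (N : ZMod (2 * N)), ?_, ?_, ?_, ?_⟩
  · refine orderOf_eq_prime ?_ ?_
    · rw [sq, QuaternionGroup.a_mul_a, QuaternionGroup.one_def]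
      congr 1
      rw [← Nat.cast_add, ← two_mul, ZMod.natCast_self]
    · rw [QuaternionGroup.one_def]
      intro h
      have h' : (N : ZMod (2 * N)) = 0 := QuaternionGroup.a.inj h
      rw [ZMod.natCast_eq_zero_iff] at h'
      have := Nat.le_of_dvd hpos h'
      omega
  · intro q hq
    have hq1 : q ≠ 1 := by rintro rfl; simp at hq
    have hq2 : q * q = 1 := by
      have := pow_orderOf_eq_one q
      rwa [hq, sq] at this
    cases q with
    | a i =>
      rw [QuaternionGroup.a_mul_a, QuaternionGroup.one_def] at hq2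
      have hi : i + i = 0 := QuaternionGroup.a.inj hq2
      have hi0 : i ≠ 0 := by rintro rfl; exact hq1 QuaternionGroup.one_def.symm
      congr 1
      haveI : NeZero (2 * N) := ⟨by omega⟩
      rw [← ZMod.natCast_zmod_val i] at hi ⊢
      rw [← Nat.cast_add, ZMod.natCast_eq_zero_iff] at hi
      congr 1
      have hlt := ZMod.val_lt i
      have hv : i.val ≠ 0 := by
        intro h; exact hi0 ((ZMod.val_eq_zero i).mp h)
      obtain ⟨c, hc⟩ := hi
      have : c = 1 := by
        rcases c with _ | _ | c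
        · omega
        · rfl
        · exfalso; nlinarith
      subst this
      omega
    | xa i =>
      rw [QuaternionGroup.xa_mul_xa, QuaternionGroup.one_def] at hq2
      have h' : (N : ZMod (2 * N)) + i - i = 0 := QuaternionGroup.a.inj hq2
      rw [add_sub_cancel_right, ZMod.natCast_eq_zero_iff] at h'
      exfalso
      have := Nat.le_of_dvd hpos h'
      omega
  · intro q
    have hneg : -(N : ZMod (2 * N)) = N := by
      rw [neg_eq_iff_add_eq_zero, ← Nat.cast_add, ← two_mul, ZMod.natCast_self]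
    cases q with
    | a i => simp [QuaternionGroup.a_mul_a, add_comm]
    | xa i =>
      rw [QuaternionGroup.xa_mul_a, QuaternionGroup.a_mul_xa]
      congr 1
      rw [sub_eq_add_neg, hneg]
  · obtain ⟨j, hj⟩ : 2 ∣ N := by rw [hN]; exact dvd_pow_self 2 (by omega)
    refine ⟨QuaternionGroup.a (j : ZMod (2 * N)), QuaternionGroup.xa 0, ?_⟩
    rw [eq_mul_inv_iff_mul_eq, eq_mul_inv_iff_mul_eq]
    simp only [QuaternionGroup.a_mul_xa, QuaternionGroup.xa_mul_a, mul_assoc]
    congr 1
    have : (N : ZMod (2 * N)) = j + j := by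
      rw [congrArg (fun k : ℕ => (k : ZMod (2 * N))) hj, Nat.cast_mul, Nat.cast_ofNat]
      ring
    rw [this]; ring

/-- An automorphism of a product moves the involution of a quaternion-like factor either to itself or
into the other factor. -/
theorem auto_moves_involution {Qt Rt : Type*} [Group Qt] [Group Rt] [Finite Qt]
    (h2 : IsPGroup 2 Qt) (z : Qt) (hz : orderOf z = 2) (huniq : ∀ q, orderOf q = 2 → q = z)
    (hcomm : ∃ u v : Qt, z = u * v * u⁻¹ * v⁻¹)
    (σ : Qt × Rt ≃* Qt × Rt) : (σ (z, 1)).1 = 1 ∨ σ (z, 1) = (z, 1) := by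
  have : Fact (Nat.Prime 2) := ⟨Nat.prime_two⟩
  let ι : Qt →* Qt × Rt := σ.toMonoidHom.comp (MonoidHom.inl Qt Rt)
  let f1 : Qt →* Qt := (MonoidHom.fst Qt Rt).comp ι
  let φ : Qt →* Rt := (MonoidHom.snd Qt Rt).comp ι
  rcases em (f1 z = 1) with h | h
  · exact Or.inl h
  right
  have hinj : Function.Injective f1 := by
    rw [← MonoidHom.ker_eq_bot_iff]
    by_contra hk
    obtain ⟨y, hy⟩ := exists_prime_orderOf_dvd_card' 2 (G := f1.ker)
      ((h2.to_subgroup f1.ker).card_eq_or_dvd.resolve_left fun h1 => hk (Subgroup.card_eq_one.mp h1))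
    have := huniq y.1 (by rw [Subgroup.orderOf_coe]; exact hy)
    exact h (this ▸ y.2)
  have hsurj : Function.Surjective f1 := Finite.surjective_of_injective hinj
  have hfz : f1 z = z := huniq _ (by rw [orderOf_injective f1 hinj z]; exact hz)
  have hcen : ∀ q' : Qt, ∀ r : Rt, φ q' * r = r * φ q' := by
    intro q' r
    obtain ⟨⟨q, b⟩, hqb⟩ := σ.surjective (1, r)
    obtain ⟨⟨a, c⟩, hac⟩ : ∃ p, p = σ (1, b) := ⟨_, rfl⟩
    have hcm : ∀ t : Qt, σ (t, 1) * σ (1, b) = σ (1, b) * σ (t, 1) := fun t => by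
      rw [← map_mul, ← map_mul]; simp
    have hsplit : σ (q, 1) * σ (1, b) = (1, r) := by rw [← map_mul, ← hqb]; simp
    have h1 : ∀ t, f1 t * a = a * f1 t := fun t => by
      have := congrArg Prod.fst (hcm t)
      rw [← hac] at this
      exact this
    have h2' : ∀ t, φ t * c = c * φ t := fun t => by
      have := congrArg Prod.snd (hcm t)
      rw [← hac] at this
      exact this
    have h3 : f1 q * a = 1 := by
      have := congrArg Prod.fst hsplit
      rw [← hac] at this
      exact this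
    have h4 : φ q * c = r := by
      have := congrArg Prod.snd hsplit
      rw [← hac] at this
      exact this
    have hqc : q' * q = q * q' := by
      apply hinj
      rw [map_mul, map_mul, eq_inv_of_mul_eq_one_left h3]
      exact (Commute.inv_right (h1 q'))
    rw [← h4, ← mul_assoc, ← map_mul, hqc, map_mul, mul_assoc, h2' q', ← mul_assoc]
  have hφz : φ z = 1 := by
    obtain ⟨u, v, huv⟩ := hcomm
    rw [huv]
    simp only [map_mul, map_inv]
    rw [hcen u (φ v)]
    group
  exact Prod.ext hfz hφz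

theorem not_simple_quaternion_factor {G : Type*} [Group G] [Finite G] (hZ : ZStarProperty G)
    (S : Sylow 2 G) (Q R : Subgroup G) (hQR : Cfsg.IsInternalDirectProduct Q R (S : Subgroup G))
    (n : ℕ) (hn : 1 ≤ n) (eQ : ↥Q ≃* QuaternionGroup (2 ^ n))
    (hR : ∀ r ∈ R, orderOf r = 2 → ∀ s ∈ R, r * s = s * r) :
    ¬ IsSimpleGroup G := by
  intro hsimp
  classical
  have : Fact (Nat.Prime 2) := ⟨Nat.prime_two⟩
  obtain ⟨hQS, hRS, hcomm, hdisj, hsup⟩ := hQR
  let m : Q × R →* G := MonoidHom.noncommCoprod Q.subtype R.subtype (fun a b => hcomm a.1 a.2 b.1 b.2)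
  have hmS : ∀ p, m p ∈ (S : Subgroup G) := fun p => mul_mem (hQS p.1.2) (hRS p.2.2)
  let m' : Q × R →* (S : Subgroup G) := m.codRestrict _ hmS
  have hbij : Function.Bijective m' := by
    constructor
    · rw [← MonoidHom.ker_eq_bot_iff, eq_bot_iff]
      rintro ⟨a, b⟩ hab
      have h : a.1 * b.1 = 1 := congrArg Subtype.val hab
      have ha : a.1 ∈ Q ⊓ R := ⟨a.2, by rw [eq_inv_of_mul_eq_one_left h]; exact R.inv_mem b.2⟩
      rw [hdisj, Subgroup.mem_bot] at ha
      rw [ha, one_mul] at h
      rw [Subgroup.mem_bot, Prod.ext_iff]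
      exact ⟨Subtype.ext ha, Subtype.ext h⟩
    · intro s
      have hle : Q ⊔ R ≤ m.range := sup_le
        (fun x hx => ⟨(⟨x, hx⟩, 1), by show x * (1 : G) = x; exact mul_one x⟩)
        (fun x hx => ⟨(1, ⟨x, hx⟩), by show (1 : G) * x = x; exact one_mul x⟩)
      obtain ⟨p, hp⟩ := hle (by rw [hsup]; exact s.2)
      exact ⟨p, Subtype.ext hp⟩
  let e : Q × R ≃* (S : Subgroup G) := MulEquiv.ofBijective m' hbij
  obtain ⟨h2, z', hz', huniq', hzc', hcm'⟩ := quaternion_facts n hn
  let z : Q := eQ.symm z'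
  have hz : orderOf z = 2 := (eQ.symm.orderOf_eq z').trans hz'
  have huniq : ∀ q : Q, orderOf q = 2 → q = z := fun q hq => eQ.injective
    (by rw [huniq' (eQ q) ((eQ.orderOf_eq q).trans hq)]; simp [z])
  have hzc : ∀ q : Q, q * z = z * q := fun q => eQ.injective (by simp [z, hzc'])
  have hcm : ∃ u v : Q, z = u * v * u⁻¹ * v⁻¹ := by
    obtain ⟨u, v, huv⟩ := hcm'
    exact ⟨eQ.symm u, eQ.symm v, by simp [z, huv]⟩
  -- involutions of S are central in S
  have hinvS : ∀ a : (S : Subgroup G), a * a = 1 → ∀ s : (S : Subgroup G), a * s = s * a := by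
    intro a ha s
    obtain ⟨⟨q, r⟩, rfl⟩ := e.surjective a
    obtain ⟨⟨q₁, r₁⟩, rfl⟩ := e.surjective s
    rw [← map_mul, ← map_one e] at ha
    have ha' := e.injective ha
    rw [← map_mul, ← map_mul]
    congr 1
    refine Prod.ext ?_ ?_
    · show q * q₁ = q₁ * q
      rcases em (q = 1) with rfl | hq
      · simp
      · rw [huniq q (orderOf_eq_prime (by rw [sq]; exact congrArg Prod.fst ha') hq), hzc]
    · show r * r₁ = r₁ * r
      rcases em (r = 1) with rfl | hr
      · simp
      · exact Subtype.ext (hR r.1 r.2 (by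
          rw [Subgroup.orderOf_coe]
          exact orderOf_eq_prime (by rw [sq]; exact congrArg Prod.snd ha') hr) r₁.1 r₁.2)
  let N := Subgroup.normalizer ((S : Subgroup G) : Set G)
  let act : N → ((S : Subgroup G) ≃* (S : Subgroup G)) := fun k =>
    { toFun := fun s => ⟨k.1 * s.1 * k.1⁻¹, (Subgroup.mem_normalizer_iff.mp k.2 _).mp s.2⟩
      invFun := fun s => ⟨k.1⁻¹ * s.1 * k.1, (Subgroup.mem_normalizer_iff.mp k.2 _).mpr (by simpa [mul_assoc] using s.2)⟩
      left_inv := fun s => Subtype.ext (by simp [mul_assoc])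
      right_inv := fun s => Subtype.ext (by simp [mul_assoc])
      map_mul' := fun a b => Subtype.ext (by simp [mul_assoc]) }
  let zS : (S : Subgroup G) := e (z, 1)
  have hzS2 : zS * zS = 1 := by
    rw [← map_mul, ← map_one e]
    congr 1
    refine Prod.ext ?_ (mul_one _)
    show z * z = 1
    exact mul_self_of_orderOf hz
  letI : CommGroup ↥(Subgroup.center ↥(S : Subgroup G)) :=
    { (inferInstance : Group ↥(Subgroup.center ↥(S : Subgroup G))) with
      mul_comm := fun a b => Subtype.ext ((Subgroup.mem_center_iff.mp b.2) a.1) }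
  let zA : ↥(Subgroup.center ↥(S : Subgroup G)) := ⟨zS, Subgroup.mem_center_iff.mpr fun s => (hinvS zS hzS2 s).symm⟩
  have hA2 : (Subgroup.center ↥(S : Subgroup G)).Characteristic := inferInstance
  let actA : N → (↥(Subgroup.center ↥(S : Subgroup G)) ≃* ↥(Subgroup.center ↥(S : Subgroup G))) := fun k =>
    { toFun := fun a => ⟨act k a.1, (SetLike.ext_iff.mp (hA2.fixed (act k)) a.1).mpr a.2⟩
      invFun := fun a => ⟨(act k).symm a.1, (SetLike.ext_iff.mp (hA2.fixed (act k).symm) a.1).mpr a.2⟩
      left_inv := fun a => Subtype.ext (by simp)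
      right_inv := fun a => Subtype.ext (by simp)
      map_mul' := fun a b => Subtype.ext (map_mul (act k) a.1 b.1) }
  let orb : Finset ↥(Subgroup.center ↥(S : Subgroup G)) := (Set.toFinite (Set.range fun k : N => actA k zA)).toFinset
  have horb : ∀ a, a ∈ orb ↔ ∃ k : N, actA k zA = a := fun a => by simp [orb]
  let w : ↥(Subgroup.center ↥(S : Subgroup G)) := ∏ a ∈ orb, a
  have horb2 : ∀ a ∈ orb, a * a = 1 := by
    intro a ha
    obtain ⟨k, rfl⟩ := (horb a).mp ha
    rw [← map_mul, show zA * zA = 1 from Subtype.ext hzS2, map_one]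
  have hw2 : w * w = 1 := by
    rw [← Finset.prod_mul_distrib]
    exact Finset.prod_eq_one horb2
  have hfix : ∀ k : N, actA k w = w := by
    intro k
    have hperm : orb.image (actA k) = orb := by
      refine Finset.eq_of_subset_of_card_le ?_ ?_
      · intro a ha
        obtain ⟨b, hb, rfl⟩ := Finset.mem_image.mp ha
        obtain ⟨l, rfl⟩ := (horb b).mp hb
        exact (horb _).mpr ⟨k * l, Subtype.ext (Subtype.ext (by simp [actA, act, mul_assoc]))⟩
      · rw [Finset.card_image_of_injective _ (actA k).injective]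
    show actA k w = w
    rw [map_prod]
    conv_rhs => rw [show w = ∏ a ∈ orb.image (actA k), a by rw [hperm]]
    rw [Finset.prod_image fun a _ b _ h => (actA k).injective h]
  let π : ↥(Subgroup.center ↥(S : Subgroup G)) → Q := fun a => (e.symm a.1).1
  have hπ : ∀ a ∈ orb, a = zA ∨ π a = 1 := by
    intro a ha
    obtain ⟨k, rfl⟩ := (horb a).mp ha
    rcases auto_moves_involution (h2.of_equiv eQ.symm) z hz huniq hcm
      (e.trans ((act k).trans e.symm)) with h | h
    · exact Or.inr h
    · refine Or.inl (Subtype.ext ?_)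
      have := congrArg e h
      simpa [actA, zS] using this
  have hπw : ∀ s : Finset ↥(Subgroup.center ↥(S : Subgroup G)), s ⊆ orb → π (∏ a ∈ s, a) = if zA ∈ s then z else 1 := by
    intro s
    induction s using Finset.induction with
    | empty => intro _; simp [π]
    | insert a s has ih =>
      intro hsub
      rw [Finset.insert_subset_iff] at hsub
      rw [Finset.prod_insert has]
      have hm : π (a * ∏ b ∈ s, b) = π a * π (∏ b ∈ s, b) := by simp [π]
      rw [hm, ih hsub.2]
      rcases hπ a hsub.1 with rfl | h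
      · simp [has, π, zA, zS]
      · have : a ≠ zA := by
          rintro rfl
          have : z = 1 := by simpa [π, zA, zS] using h
          rw [this, orderOf_one] at hz; omega
        simp [h, Ne.symm this]
  have hz1 : zA ∈ orb := (horb _).mpr ⟨1, Subtype.ext (Subtype.ext (by simp [actA, act]))⟩
  have hwne : w ≠ 1 := by
    intro h
    have := hπw orb subset_rfl
    rw [if_pos hz1, show (∏ a ∈ orb, a) = 1 from h] at this
    have : z = 1 := by rw [← this]; simp [π]
    rw [this, orderOf_one] at hz; omega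
  have hwo : orderOf w.1.1 = 2 := by
    rw [Subgroup.orderOf_coe, Subgroup.orderOf_coe]
    exact orderOf_eq_prime (by rw [sq]; exact hw2) hwne
  have hiso : ∀ g : G, g * w.1.1 * g⁻¹ ∈ (S : Subgroup G) → g * w.1.1 * g⁻¹ = w.1.1 := by
    intro g hg
    have hc : ∀ x : G, x ∈ (S : Subgroup G) → x * x = 1 →
        x ∈ Subgroup.centralizer ((S : Subgroup G) : Set G) := fun x hx hx2 =>
      Subgroup.mem_centralizer_iff.mpr fun s hs =>
        (congrArg Subtype.val (hinvS ⟨x, hx⟩ (Subtype.ext hx2) ⟨s, hs⟩)).symm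
    have hw2' : w.1.1 * w.1.1 = 1 := congrArg (fun a : ↥(Subgroup.center ↥(S : Subgroup G)) => a.1.1) hw2
    obtain ⟨k, hk, hke⟩ := S.conj_eq_normalizer_conj_of_mem_centralizer w.1.1 g⁻¹
      (hc _ w.1.2 hw2') (hc _ (by simpa using hg) (by
        rw [inv_inv]
        calc g * w.1.1 * g⁻¹ * (g * w.1.1 * g⁻¹) = g * (w.1.1 * w.1.1) * g⁻¹ := by group
          _ = 1 := by rw [hw2']; group))
    rw [inv_inv] at hke
    rw [hke]
    have := congrArg (fun a : ↥(Subgroup.center ↥(S : Subgroup G)) => a.1.1) (hfix ⟨k⁻¹, inv_mem hk⟩)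
    simpa [actA, act] using this
  obtain ⟨M, hM, hMo, hMc⟩ := hZ S w.1.1 hwo w.1.2 hiso
  have hMbot : M = ⊥ := hM.eq_bot_or_eq_top.resolve_right (by
    intro h
    rw [h, Subgroup.card_top] at hMo
    exact (Nat.not_even_iff_odd.mpr hMo) (even_iff_two_dvd.mpr (hwo ▸ orderOf_dvd_natCard _)))
  have hwc : w.1.1 ∈ Subgroup.center G := by
    rw [Subgroup.mem_center_iff]
    intro g
    have h := hMc g
    rw [hMbot, Subgroup.mem_bot, mul_inv_eq_one, mul_inv_eq_iff_eq_mul] at h
    exact h.symm
  have hct : Subgroup.center G = ⊤ :=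
    (Subgroup.center G).normal_of_characteristic.eq_bot_or_eq_top.resolve_left (by
      intro h
      rw [h, Subgroup.mem_bot] at hwc
      rw [hwc, orderOf_one] at hwo; omega)
  obtain ⟨u, v, huv⟩ := hcm
  have hu : (u : G) ∈ Subgroup.center G := hct ▸ Subgroup.mem_top (u : G)
  have huvc : (v : G) * u = u * v := Subgroup.mem_center_iff.mp hu v
  have : z = 1 := by
    rw [huv, show u * v = v * u from Subtype.ext huvc.symm]
    group
  rw [this, orderOf_one] at hz
  omega

end CfsgLib.InvChar
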