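import Cfsg.Agent.SmallSimple.Basic
import Cfsg.Agent.Dickson.Moebius
import Cfsg.Agent.Classical.LinearOrder

/-!
A simple group of order 168 is isomorphic to `PSL(2, 7)`.

The group is identified through its action on its eight Sylow 7-subgroups, which are labelled by
the projective line over `ZMod 7`.
-/

namespace CfsgLib.InvChar

open CfsgLib.SmallSimple Matrix OnePoint
open scoped Pointwise

instance : Fact (Nat.Prime 7) := ⟨by norm_num⟩

/-- Ring isomorphisms induce isomorphisms of projective special linear groups. -/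
theorem psl_congr {K L : Type*} [CommRing K] [CommRing L] (f : K ≃+* L) :
    Nonempty (Matrix.ProjectiveSpecialLinearGroup (Fin 2) K ≃*
      Matrix.ProjectiveSpecialLinearGroup (Fin 2) L) := by
  have hbij : Function.Bijective (SpecialLinearGroup.map (n := Fin 2) f.toRingHom) := by
    constructor
    · intro A B hAB
      ext i j
      exact f.injective (congrArg (fun C : SpecialLinearGroup (Fin 2) L => C i j) hAB)
    · intro A
      refine ⟨SpecialLinearGroup.map f.symm.toRingHom A, ?_⟩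
      ext i j
      exact f.apply_symm_apply _
  set e := MulEquiv.ofBijective (SpecialLinearGroup.map (n := Fin 2) f.toRingHom) hbij with he
  refine ⟨QuotientGroup.congr _ _ e (le_antisymm ?_ ?_)⟩
  · rintro _ ⟨x, hx, rfl⟩
    refine Subgroup.mem_center_iff.mpr fun g => ?_
    obtain ⟨y, rfl⟩ := e.surjective g
    change e y * e x = e x * e y
    rw [← map_mul, ← map_mul, Subgroup.mem_center_iff.mp hx y]
  · intro g hg
    obtain ⟨x, rfl⟩ := e.surjective g
    refine ⟨x, Subgroup.mem_center_iff.mpr fun y => e.injective ?_, rfl⟩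
    rw [map_mul, map_mul, Subgroup.mem_center_iff.mp hg (e y)]

/-- The action of `SL(2, F)` on the projective line. -/
noncomputable def slPerm (F : Type*) [Field F] [DecidableEq F] :
    SpecialLinearGroup (Fin 2) F →* Equiv.Perm (OnePoint F) :=
  (MulAction.toPermHom (GL (Fin 2) F) (OnePoint F)).comp SpecialLinearGroup.toGL

theorem center_le_ker_slPerm (F : Type*) [Field F] [DecidableEq F] :
    Subgroup.center (SpecialLinearGroup (Fin 2) F) ≤ (slPerm F).ker := by
  intro A hA
  rw [MonoidHom.mem_ker]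
  have h : SpecialLinearGroup.toGL A ∈ Subgroup.center (GL (Fin 2) F) := by
    rw [← SpecialLinearGroup.toPGL_ker] at hA
    exact ProjGenLinGroup.mk_eq_one.mp (MonoidHom.mem_ker.mp hA)
  rw [GeneralLinearGroup.center_eq_range_scalar] at h
  obtain ⟨u, hu⟩ := h
  refine Equiv.ext fun x => ?_
  change SpecialLinearGroup.toGL A • x = x
  rw [← hu]
  exact CfsgLib.Dickson.scalar_smul u x

theorem slPerm_coe {F : Type*} [Field F] [DecidableEq F] (A : SpecialLinearGroup (Fin 2) F)
    (x : F) : slPerm F A (x : OnePoint F) =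
      if A 1 0 * x + A 1 1 = 0 then ∞ else ↑((A 0 0 * x + A 0 1) / (A 1 0 * x + A 1 1)) :=
  smul_some_eq_ite (g := SpecialLinearGroup.toGL A)

theorem slPerm_infty {F : Type*} [Field F] [DecidableEq F] (A : SpecialLinearGroup (Fin 2) F) :
    slPerm F A ∞ = if A 1 0 = 0 then ∞ else ↑(A 0 0 / A 1 0) :=
  smul_infty_eq_ite (SpecialLinearGroup.toGL A)

variable {G : Type*} [Group G] [Finite G] [IsSimpleGroup G]

theorem index_ge_seven (h : Nat.card G = 168) (H : Subgroup G) (hH : H ≠ ⊤) : 7 ≤ H.index := by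
  have hd := card_dvd_factorial H hH
  rw [h] at hd
  by_contra hlt
  have h0 : H.index ≠ 0 := Subgroup.index_ne_zero_of_finite
  have h2 : H.index.factorial ∣ Nat.factorial 6 := Nat.factorial_dvd_factorial (by omega)
  have := hd.trans h2
  norm_num [Nat.factorial] at this

theorem iso_psl_zmod_seven (h : Nat.card G = 168) :
    Nonempty (G ≃* Matrix.ProjectiveSpecialLinearGroup (Fin 2) (ZMod 7)) := by
  classical
  haveI : Fact (Nat.Prime 2) := ⟨Nat.prime_two⟩
  haveI : Fact (Nat.Prime 3) := ⟨by norm_num⟩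
  obtain ⟨P⟩ : Nonempty (Sylow 7 G) := Sylow.nonempty
  have hcard7 : ∀ R : Sylow 7 G, Nat.card (R : Subgroup G) = 7 := fun R => by
    rw [card_sylow_eq R (k := 1) (m := 24) (by rw [h]; norm_num) (by norm_num)]; norm_num
  have hP := hcard7 P
  have hn7 : Nat.card (Sylow 7 G) = 8 := by
    have h1 := (P : Subgroup G).card_mul_index
    rw [hP, h] at h1
    have h2 : Nat.card (Sylow 7 G) ∣ 24 :=
      (show (P : Subgroup G).index = 24 by omega) ▸ P.card_dvd_index
    have h3 : Nat.card (Sylow 7 G) % 7 = 1 := card_sylow_modEq_one 7 G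
    have h4 := card_sylow_ne_one P (by rw [hP]; norm_num) (by rw [hP, h]; norm_num)
    have h5 := Nat.le_of_dvd (by norm_num) h2
    interval_cases hn : Nat.card (Sylow 7 G) <;> omega
  haveI := Fintype.ofFinite (Sylow 7 G)
  have h8 : Fintype.card (Sylow 7 G) = 8 := by rw [← Nat.card_eq_fintype_card, hn7]
  set N := Subgroup.normalizer ((P : Subgroup G) : Set G) with hN
  have hN21 : ∀ R : Sylow 7 G,
      Nat.card (Subgroup.normalizer ((R : Subgroup G) : Set G)) = 21 := fun R => by
    have h1 := card_sylow_mul R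
    rw [hn7, h] at h1
    omega
  have hdisj : ∀ R R' : Sylow 7 G, R ≠ R' → ∀ x ∈ (R : Subgroup G), x ∈ (R' : Subgroup G) → x = 1 := by
    intro R R' hne x hx hx'
    by_contra hx1
    have hxo : orderOf x = 7 := by
      have hd : orderOf x ∣ 7 := by
        rw [← hcard7 R, ← Subgroup.orderOf_mk x hx]; exact orderOf_dvd_natCard _
      exact ((Nat.dvd_prime (by norm_num)).mp hd).resolve_left fun he =>
        hx1 (orderOf_eq_one_iff.mp he)
    have hz : ∀ R'' : Sylow 7 G, x ∈ (R'' : Subgroup G) → (R'' : Subgroup G) = Subgroup.zpowers x :=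
      fun R'' hR => (Subgroup.eq_of_le_of_card_ge (Subgroup.zpowers_le.mpr hR)
        (by rw [hcard7, Nat.card_zpowers, hxo])).symm
    exact hne (Sylow.ext ((hz R hx).trans (hz R' hx').symm))
  -- generators
  obtain ⟨⟨g, hgP⟩, hg⟩ := exists_prime_orderOf_dvd_card' (G := (P : Subgroup G)) 7 (by rw [hP])
  rw [Subgroup.orderOf_mk] at hg
  have hPg : (P : Subgroup G) = Subgroup.zpowers g :=
    (Subgroup.eq_of_le_of_card_ge (Subgroup.zpowers_le.mpr hgP)
      (by rw [hP, Nat.card_zpowers, hg])).symm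
  obtain ⟨⟨c₀, hc₀N⟩, hc₀⟩ := exists_prime_orderOf_dvd_card' (G := N) 3 (by rw [hN21]; norm_num)
  rw [Subgroup.orderOf_mk] at hc₀
  obtain ⟨r, hr7, hr⟩ : ∃ r < 7, g ^ r = c₀ * g * c₀⁻¹ := by
    have hm : c₀ * g * c₀⁻¹ ∈ Subgroup.zpowers g :=
      hPg ▸ (Subgroup.mem_normalizer_iff.mp hc₀N g).mp hgP
    rw [mem_zpowers_iff_mem_range_orderOf, hg, Finset.mem_image] at hm
    obtain ⟨r, hr, hre⟩ := hm
    exact ⟨r, Finset.mem_range.mp hr, hre⟩
  have hr1 : r ≠ 1 := by
    rintro rfl
    rw [pow_one, eq_mul_inv_iff_mul_eq] at hr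
    refine not_le_centralizer P (by rw [hP]; norm_num) (by rw [hP, h]; norm_num) ?_
    have hgc : g ∈ Subgroup.centralizer ({g} : Set G) := Subgroup.mem_centralizer_singleton_iff.mpr rfl
    have hcc : c₀ ∈ Subgroup.centralizer ({g} : Set G) :=
      Subgroup.mem_centralizer_singleton_iff.mpr hr.symm
    have hle : N ≤ Subgroup.centralizer ({g} : Set G) := by
      set T := N ⊓ Subgroup.centralizer ({g} : Set G) with hT
      have hgT : g ∈ T := ⟨Subgroup.le_normalizer hgP, hgc⟩
      have h7 : 7 ∣ Nat.card T := by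
        rw [← hg, ← Subgroup.orderOf_mk g hgT]; exact orderOf_dvd_natCard _
      have h3 : 3 ∣ Nat.card T := by
        have hcT : c₀ ∈ T := ⟨hc₀N, hcc⟩
        rw [← hc₀, ← Subgroup.orderOf_mk c₀ hcT]; exact orderOf_dvd_natCard _
      have h21 : 21 ≤ Nat.card T :=
        Nat.le_of_dvd Nat.card_pos (Nat.lcm_dvd h7 h3)
      exact (Subgroup.eq_of_le_of_card_ge inf_le_left (by rw [hN21]; exact h21)).ge.trans inf_le_right
    intro x hx
    rw [Subgroup.mem_centralizer_iff]
    intro y hy
    obtain ⟨i, rfl⟩ := Subgroup.mem_zpowers_iff.mp (hPg ▸ hy)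
    exact (Commute.zpow_left (Subgroup.mem_centralizer_singleton_iff.mp (hle hx)).symm i).eq
  have hr3 : r ^ 3 % 7 = 1 := by
    have hconj : ∀ k : ℕ, c₀ * g ^ k * c₀⁻¹ = g ^ (r * k) := fun k => by
      rw [← conj_pow, ← hr, ← pow_mul]
    have h3 : g ^ (r ^ 3) = g ^ 1 := by
      calc g ^ (r ^ 3) = c₀ * (c₀ * (c₀ * g ^ 1 * c₀⁻¹) * c₀⁻¹) * c₀⁻¹ := by
            rw [hconj, hconj, hconj]; congr 1; ring
        _ = c₀ ^ 3 * g * (c₀ ^ 3)⁻¹ := by
            simp only [pow_succ, pow_zero, one_mul]; group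
        _ = g ^ 1 := by rw [← hc₀, pow_orderOf_eq_one]; simp
    simpa [hg] using pow_inj_mod.mp h3
  obtain ⟨c, hcN, hc, hcg⟩ : ∃ c ∈ N, orderOf c = 3 ∧ c * g * c⁻¹ = g ^ 2 := by
    rcases (by interval_cases r <;> simp_all : r = 2 ∨ r = 4) with rfl | rfl
    · exact ⟨c₀, hc₀N, hc₀, hr.symm⟩
    · refine ⟨c₀⁻¹, inv_mem hc₀N, by rw [orderOf_inv, hc₀], ?_⟩
      have h2 : c₀ * g ^ 2 * c₀⁻¹ = g := by
        rw [← conj_pow, ← hr, ← pow_mul]
        calc g ^ (4 * 2) = g ^ 7 * g := pow_succ g 7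
          _ = g := by rw [← hg, pow_orderOf_eq_one, one_mul]
      calc c₀⁻¹ * g * c₀⁻¹⁻¹ = c₀⁻¹ * (c₀ * g ^ 2 * c₀⁻¹) * c₀ := by rw [h2, inv_inv]
        _ = g ^ 2 := by group
  have hcP : c • P = P := Sylow.smul_eq_iff_mem_normalizer.mpr hcN
  -- the second fixed point of `c`
  obtain ⟨Q, hQP, hQ⟩ : ∃ Q : Sylow 7 G, Q ≠ P ∧ c • Q = Q := by
    set φ := MulAction.toPermHom G (Sylow 7 G)
    have hφ3 : φ c ^ 3 ^ 1 = 1 := by rw [pow_one, ← map_pow, ← hc, pow_orderOf_eq_one, map_one]
    have hmod : (φ c).supportᶜ.card % 3 = 2 := by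
      have h' := Equiv.Perm.card_compl_support_modEq hφ3
      rw [h8] at h'
      exact h'
    obtain ⟨Q, hQ, hQP⟩ := Finset.exists_mem_ne (s := (φ c).supportᶜ) (by omega) P
    rw [Finset.mem_compl, Equiv.Perm.mem_support, not_not] at hQ
    exact ⟨Q, hQP, hQ⟩
  -- labels
  let L : ZMod 7 → Sylow 7 G := fun x => g ^ x.val • Q
  have hgfix : g • P = P := Sylow.smul_eq_iff_mem_normalizer.mpr (Subgroup.le_normalizer hgP)
  have hpowP : ∀ k : ℕ, g ^ k • P = P := fun k => Sylow.smul_eq_iff_mem_normalizer.mpr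
    (Subgroup.le_normalizer (pow_mem hgP k))
  have hgpow : ∀ k : ℕ, g ^ k • Q = L (k : ZMod 7) := fun k => by
    simp only [L, ZMod.val_natCast, ← hg, pow_mod_orderOf]
  have hLne : ∀ x, L x ≠ P := fun x hx =>
    hQP (MulAction.injective _ (hx.trans (hpowP x.val).symm))
  have hLinj : Function.Injective L := by
    have key : ∀ x y : ZMod 7, x.val ≤ y.val → L x = L y → x = y := by
      intro x y hle he
      have h1 : g ^ (y.val - x.val) • Q = Q := by
        apply MulAction.injective (g ^ x.val)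
        simp only
        rw [← mul_smul, ← pow_add, Nat.add_sub_cancel' hle]
        exact he.symm
      have hg7 : g ^ 7 = 1 := orderOf_dvd_iff_pow_eq_one.mp hg.dvd
      have hm := mem_sylow_of_smul_eq (p := 7) (n := 1) (y := g ^ (y.val - x.val))
        (by rw [pow_one, ← pow_mul, mul_comm, pow_mul, hg7, one_pow]) Q h1
      have h2 := hdisj P Q (Ne.symm hQP) _ (pow_mem hgP _) hm
      rw [← orderOf_dvd_iff_pow_eq_one, hg] at h2
      have h3 := y.val_lt
      exact ZMod.val_injective _ (by omega)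
    intro x y he
    rcases le_total x.val y.val with hle | hle
    exacts [key x y hle he, (key y x hle he.symm).symm]
  let lab : OnePoint (ZMod 7) → Sylow 7 G := fun z => z.elim P L
  have hlab : Function.Bijective lab := by
    refine (Nat.bijective_iff_injective_and_card lab).mpr ⟨?_, ?_⟩
    · rintro (_ | x) (_ | y) he
      · rfl
      · exact absurd he.symm (hLne y)
      · exact absurd he (hLne x)
      · exact congrArg OnePoint.some (hLinj he)
    · rw [hn7]
      change Nat.card (Option (ZMod 7)) = 8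
      rw [Nat.card_eq_fintype_card, Fintype.card_option, ZMod.card]
  let e : OnePoint (ZMod 7) ≃ Sylow 7 G := Equiv.ofBijective lab hlab
  have hL0 : L 0 = Q := by simp [L]
  have hgL : ∀ x, g • L x = L (x + 1) := fun x => by
    rw [show g • L x = g ^ (x.val + 1) • Q by rw [pow_succ', mul_smul], hgpow]
    simp
  have hcL : ∀ x, c • L x = L (2 * x) := fun x => by
    have h1 : c * g ^ x.val * c⁻¹ = g ^ (2 * x.val) := by rw [← conj_pow, hcg, ← pow_mul]
    rw [show c • L x = (c * g ^ x.val * c⁻¹) • c • Q by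
      simp only [L, ← mul_smul]; group, hQ, h1, hgpow]
    simp
  have hsurj : ∀ R : Sylow 7 G, R = P ∨ ∃ x, R = L x := fun R => by
    obtain ⟨(_ | x), hz⟩ := hlab.surjective R
    · exact Or.inl hz.symm
    · exact Or.inr ⟨x, hz.symm⟩
  have hcfix : ∀ R : Sylow 7 G, c • R = R → R = P ∨ R = Q := fun R hR => by
    rcases hsurj R with hRP | ⟨x, rfl⟩
    · exact Or.inl hRP
    · rw [hcL] at hR
      have := hLinj hR
      rw [two_mul, add_eq_left] at this
      exact Or.inr (by rw [this, hL0])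
  -- the involution inverting `c`
  set R₃ := Subgroup.zpowers c with hR₃
  have hR₃c : Nat.card R₃ = 3 := by rw [hR₃, Nat.card_zpowers, hc]
  obtain ⟨S₃, hS₃⟩ := (IsPGroup.of_card (n := 1) (by rw [hR₃c]; norm_num) : IsPGroup 3 R₃).exists_le_sylow
  have hS₃c : Nat.card (S₃ : Subgroup G) = 3 := by
    rw [card_sylow_eq S₃ (k := 1) (m := 56) (by rw [h]; norm_num) (by norm_num)]; norm_num
  have hS₃e : (S₃ : Subgroup G) = R₃ :=
    (Subgroup.eq_of_le_of_card_ge hS₃ (by rw [hS₃c, hR₃c])).symm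
  set M := Subgroup.normalizer ((S₃ : Subgroup G) : Set G) with hM
  have hcM : ∀ m ∈ M, m * c * m⁻¹ = c ∨ m * c * m⁻¹ = c⁻¹ := by
    intro m hm
    have h1 := (Subgroup.mem_normalizer_iff.mp hm c).mp (hS₃e ▸ Subgroup.mem_zpowers c)
    rw [hS₃e, hR₃, mem_zpowers_iff_mem_range_orderOf, hc, Finset.mem_image] at h1
    obtain ⟨k, hk, hke⟩ := h1
    rw [Finset.mem_range] at hk
    rcases (by omega : k = 0 ∨ k = 1 ∨ k = 2) with rfl | rfl | rfl
    · rw [pow_zero, eq_comm, conj_eq_one_iff] at hke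
      rw [hke, orderOf_one] at hc; omega
    · exact Or.inl (by rw [← hke, pow_one])
    · refine Or.inr (hke.symm.trans ?_)
      rw [eq_inv_iff_mul_eq_one, ← pow_succ, show 2 + 1 = orderOf c by omega, pow_orderOf_eq_one]
  have hmcommP : ∀ m ∈ M, c • m • P = m • P := by
    intro m hm
    rcases hcM m⁻¹ (inv_mem hm) with h1 | h1 <;> rw [inv_inv] at h1
    · rw [← mul_smul, show c * m = m * (m⁻¹ * c * m) by group, h1, mul_smul, hcP]
    · rw [← mul_smul, show c * m = m * (m⁻¹ * c * m) by group, h1, mul_smul]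
      exact congrArg (m • ·) (inv_smul_eq_iff.mpr hcP.symm)
  have hn3 : Nat.card (Sylow 3 G) ∣ 56 := by
    have h' := (S₃ : Subgroup G).card_mul_index
    rw [hS₃c, h] at h'
    exact (show (S₃ : Subgroup G).index = 56 by omega) ▸ S₃.card_dvd_index
  have hM6 : Nat.card M = 6 := by
    have hmul := card_sylow_mul S₃
    rw [← hM, h] at hmul
    have hmod : Nat.card (Sylow 3 G) % 3 = 1 := card_sylow_modEq_one 3 G
    have hne1 := card_sylow_ne_one S₃ (by rw [hS₃c]; norm_num) (by rw [hS₃c, h]; norm_num)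
    have hge : 7 ≤ Nat.card (Sylow 3 G) := by
      rw [S₃.card_eq_index_normalizer]
      refine index_ge_seven h _ fun htop => hne1 ?_
      rw [S₃.card_eq_index_normalizer, htop, Subgroup.index_top]
    -- a stabilizer of order at most three in `M`, orbit inside `{P, Q}`
    have horb : (MulAction.orbit M P).ncard ≤ 2 := by
      refine (Set.ncard_le_ncard (t := {P, Q}) ?_ (Set.toFinite _)).trans
        ((Set.ncard_insert_le _ _).trans (by simp))
      rintro R ⟨⟨m, hm⟩, rfl⟩
      exact hcfix _ (hmcommP m hm)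
    have hstab : Nat.card (MulAction.stabilizer M P) ≤ 3 := by
      set T := (MulAction.stabilizer M P).map M.subtype with hT
      rw [← Subgroup.card_map_of_injective M.subtype_injective, ← hT]
      have hTd : Nat.card T ∣ 21 := by
        rw [← hN21 P]
        refine Subgroup.card_dvd_of_le ?_
        rintro _ ⟨⟨m, hm⟩, hms, rfl⟩
        exact Sylow.smul_eq_iff_mem_normalizer.mp hms
      have h7 : ¬ 7 ∣ Nat.card T := fun hd => by
        obtain ⟨⟨x, hxT⟩, hx⟩ := exists_prime_orderOf_dvd_card' 7 hd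
        rw [Subgroup.orderOf_mk] at hx
        obtain ⟨⟨y, hy⟩, hys, rfl⟩ := hxT
        change orderOf y = 7 at hx
        have hxP := mem_sylow_of_smul_eq (p := 7) (n := 1) (y := y)
          (by rw [pow_one, ← hx, pow_orderOf_eq_one]) P hys
        have hyg : Subgroup.zpowers y = Subgroup.zpowers g := by
          rw [← hPg]
          exact Subgroup.eq_of_le_of_card_ge (Subgroup.zpowers_le.mpr hxP)
            (by rw [hP, Nat.card_zpowers, hx])
        rcases hcM y hy with h1 | h1
        · have hyc : c * g * c⁻¹ = g := by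
            have hgy : g ∈ Subgroup.centralizer ({c} : Set G) := by
              refine (Subgroup.zpowers_le.mpr (Subgroup.mem_centralizer_singleton_iff.mpr
                (mul_inv_eq_iff_eq_mul.mp h1)) : Subgroup.zpowers y ≤ _) ?_
              rw [hyg]; exact Subgroup.mem_zpowers g
            rw [← Subgroup.mem_centralizer_singleton_iff.mp hgy, mul_inv_cancel_right]
          rw [hcg, sq, mul_eq_left] at hyc
          rw [hyc, orderOf_one] at hg; omega
        · have h2 : y ^ 7 * c * (y ^ 7)⁻¹ = c⁻¹ := by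
            have hstep : y * c⁻¹ * y⁻¹ = c := by rw [← conj_inv, h1, inv_inv]
            calc y ^ 7 * c * (y ^ 7)⁻¹
                = y * (y * (y * (y * (y * (y * (y * c * y⁻¹) * y⁻¹) * y⁻¹) * y⁻¹) * y⁻¹) * y⁻¹) * y⁻¹ := by
                  simp only [pow_succ, pow_zero, one_mul]; group
              _ = c⁻¹ := by simp only [h1, hstep]
          rw [← hx, pow_orderOf_eq_one, one_mul, inv_one, mul_one] at h2
          have : c * c = 1 := mul_eq_one_iff_eq_inv.mpr h2
          have h4 : orderOf c ∣ 2 := orderOf_dvd_of_pow_eq_one (by rw [sq, this])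
          rw [hc] at h4; norm_num at h4
      have hcop : (Nat.card T).Coprime 7 := ((Nat.Prime.coprime_iff_not_dvd (by norm_num)).mpr h7).symm
      exact Nat.le_of_dvd (by norm_num) (hcop.dvd_of_dvd_mul_left (show Nat.card T ∣ 7 * 3 from hTd))
    have hle6 : Nat.card M ≤ 6 := by
      rw [← (MulAction.stabilizer M P).card_mul_index, MulAction.index_stabilizer]
      exact Nat.mul_le_mul hstab horb
    have h56 : Nat.card (Sylow 3 G) ≤ 56 := Nat.le_of_dvd (by norm_num) hn3
    interval_cases hn : Nat.card (Sylow 3 G) <;> omega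
  obtain ⟨⟨w, hwM⟩, hw2⟩ := exists_prime_orderOf_dvd_card' (G := M) 2 (by rw [hM6]; norm_num)
  rw [Subgroup.orderOf_mk] at hw2
  have hww : w * w = 1 := by rw [← sq, ← hw2, pow_orderOf_eq_one]
  have hwnofix : ∀ R : Sylow 7 G, w • R ≠ R := fun R hR => by
    have h1 := Subgroup.orderOf_mk w (Sylow.smul_eq_iff_mem_normalizer.mp hR)
    have h2 := orderOf_dvd_natCard (⟨w, Sylow.smul_eq_iff_mem_normalizer.mp hR⟩ :
      Subgroup.normalizer ((R : Subgroup G) : Set G))
    rw [h1, hw2, hN21] at h2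
    norm_num at h2
  have hwwR : ∀ R : Sylow 7 G, w • w • R = R := fun R => by rw [← mul_smul, hww, one_smul]
  have hwc : w * c * w⁻¹ = c⁻¹ := by
    refine (hcM w hwM).resolve_left fun h1 => ?_
    refine not_le_centralizer S₃ (by rw [hS₃c]; norm_num) (by rw [hS₃c, h]; norm_num) ?_
    set T := M ⊓ Subgroup.centralizer ({c} : Set G) with hT
    have hcT : c ∈ T := ⟨Subgroup.le_normalizer (hS₃e ▸ Subgroup.mem_zpowers c),
      Subgroup.mem_centralizer_singleton_iff.mpr rfl⟩
    have hwT : w ∈ T := ⟨hwM, Subgroup.mem_centralizer_singleton_iff.mpr (mul_inv_eq_iff_eq_mul.mp h1)⟩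
    have h2 : 2 ∣ Nat.card T := by
      rw [← hw2, ← Subgroup.orderOf_mk w hwT]; exact orderOf_dvd_natCard _
    have h3 : 3 ∣ Nat.card T := by
      rw [← hc, ← Subgroup.orderOf_mk c hcT]; exact orderOf_dvd_natCard _
    have h6 : 6 ≤ Nat.card T := Nat.le_of_dvd Nat.card_pos (Nat.lcm_dvd h2 h3)
    have hle : M ≤ Subgroup.centralizer ({c} : Set G) :=
      (Subgroup.eq_of_le_of_card_ge inf_le_left (by rw [hM6]; exact h6)).ge.trans inf_le_right
    intro x hx
    rw [Subgroup.mem_centralizer_iff]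
    intro y hy
    obtain ⟨i, rfl⟩ := Subgroup.mem_zpowers_iff.mp (hS₃e ▸ hy : y ∈ R₃)
    exact (Commute.zpow_left (Subgroup.mem_centralizer_singleton_iff.mp (hle hx)).symm i).eq
  have hwP : w • P = Q := (hcfix _ (hmcommP w hwM)).resolve_left (hwnofix P)
  have hwQ : w • Q = P := by rw [← hwP, hwwR]
  obtain ⟨k, hk⟩ : ∃ k, w • L 1 = L k := by
    refine (hsurj _).resolve_left fun he => ?_
    have h1 : L 1 = Q := by rw [← hwP, ← he, hwwR]
    exact one_ne_zero (hLinj (h1.trans hL0.symm))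
  have hw_c : ∀ x y, w • L x = L y → w • L (2 * x) = L (4 * y) := by
    intro x y hxy
    rw [← hcL, ← mul_smul, show w * c = (w * c * w⁻¹) * w by group, hwc, mul_smul, hxy,
      inv_smul_eq_iff, hcL, ← mul_assoc, show (2 : ZMod 7) * 4 = 1 by decide, one_mul]
  have e2 := hw_c 1 k hk
  have e4 := hw_c _ _ e2
  have ek : w • L k = L 1 := by rw [← hk, hwwR]
  have e2k := hw_c k 1 ek
  have e4k := hw_c _ _ e2k
  rw [show (2 : ZMod 7) * 1 = 2 by decide] at e2
  rw [show (2 : ZMod 7) * (2 * 1) = 4 by decide] at e4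
  rw [show (4 : ZMod 7) * 1 = 4 by decide] at e2k
  rw [show (4 : ZMod 7) * (4 * 1) = 2 by decide] at e4k
  have hk' : k = 3 ∨ k = 5 ∨ k = 6 := by
    have hz : k ≠ 0 := fun h0 => by
      rw [h0, hL0] at hk
      exact hLne 1 (MulAction.injective w (hk.trans hwP.symm))
    have h1 : k ≠ 1 := fun h0 => hwnofix (L 1) (by rw [hk, h0])
    have h2 : k ≠ 2 := fun h0 => hwnofix (L 4) (by rw [e4, h0]; rfl)
    have h4 : k ≠ 4 := fun h0 => hwnofix (L 2) (by rw [e2, h0]; rfl)
    revert hz h1 h2 h4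
    clear * -
    revert k
    decide
  have hwall : ∀ x : ZMod 7, x ≠ 0 → ∃ y, w • L x = L y ∧ y * x = k := by
    intro x hx
    have hx' : x = 1 ∨ x = 2 ∨ x = 4 ∨ x = k ∨ x = 2 * k ∨ x = 2 * (2 * k) := by
      revert hk' hx
      clear * -
      revert k x
      decide
    have n42 : (4 : ZMod 7) * 2 = 1 := by decide
    have n444 : (4 : ZMod 7) * 4 * 4 = 1 := by decide
    have n222 : (2 : ZMod 7) * 2 * 2 = 1 := by decide
    rcases hx' with rfl | rfl | rfl | rfl | rfl | rfl
    · exact ⟨k, hk, mul_one k⟩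
    · exact ⟨4 * k, e2, by linear_combination k * n42⟩
    · exact ⟨4 * (4 * k), e4, by linear_combination k * n444⟩
    · exact ⟨1, ek, one_mul x⟩
    · exact ⟨4, e2k, by linear_combination k * n42⟩
    · exact ⟨2, e4k, by linear_combination k * n222⟩
  -- the permutations of the projective line
  let ψ : G →* Equiv.Perm (OnePoint (ZMod 7)) :=
    e.symm.permCongrHom.toMonoidHom.comp (MulAction.toPermHom G (Sylow 7 G))
  have hψ : ∀ (x : G) (z : OnePoint (ZMod 7)), e (ψ x z) = x • e z := fun x z => by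
    simp [ψ, Equiv.permCongr_apply]
  have heL : ∀ x : ZMod 7, e (x : OnePoint (ZMod 7)) = L x := fun x => rfl
  have heP : e ∞ = P := rfl
  set θ := QuotientGroup.lift _ (slPerm (ZMod 7)) (center_le_ker_slPerm (ZMod 7)) with hθ
  have hmk : ∀ (x : G) (A : SpecialLinearGroup (Fin 2) (ZMod 7)),
      (∀ z : OnePoint (ZMod 7), x • e z = e (slPerm (ZMod 7) A z)) → ψ x ∈ θ.range := by
    intro x A hA
    refine ⟨(A : Matrix.ProjectiveSpecialLinearGroup (Fin 2) (ZMod 7)), Equiv.ext fun z => ?_⟩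
    apply e.injective
    rw [hψ, hA]
    rfl
  have hg' : ψ g ∈ θ.range := by
    let Ag : SpecialLinearGroup (Fin 2) (ZMod 7) := ⟨!![1, 1; 0, 1], by simp⟩
    refine hmk g Ag ?_
    rintro (_ | x)
    · change g • e ∞ = e (slPerm _ _ ∞)
      rw [slPerm_infty, if_pos (by rfl), heP, hgfix]
    · change g • e (x : OnePoint (ZMod 7)) = e (slPerm _ _ (x : OnePoint (ZMod 7)))
      rw [slPerm_coe]
      simp [Ag, heL, hgL]
  have hc' : ψ c ∈ θ.range := by
    let Ac : SpecialLinearGroup (Fin 2) (ZMod 7) := ⟨!![4, 0; 0, 2], by rw [Matrix.det_fin_two_of]; decide⟩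
    refine hmk c Ac ?_
    rintro (_ | x)
    · change c • e ∞ = e (slPerm _ _ ∞)
      rw [slPerm_infty, if_pos (by rfl), heP, hcP]
    · change c • e (x : OnePoint (ZMod 7)) = e (slPerm _ _ (x : OnePoint (ZMod 7)))
      rw [slPerm_coe]
      have h2 : (2 : ZMod 7) ≠ 0 := by decide
      simp [Ac, heL, hcL, h2]
      congr 1
      rw [eq_div_iff h2]
      have n22 : (2 : ZMod 7) * 2 = 4 := by decide
      linear_combination x * n22
  have hw' : ψ w ∈ θ.range := by
    obtain ⟨s, hs, hs0⟩ : ∃ s : ZMod 7, -(s * k * s) = 1 ∧ s ≠ 0 := by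
      revert hk'
      clear * -
      revert k
      decide
    let Aw : SpecialLinearGroup (Fin 2) (ZMod 7) :=
      ⟨!![0, s * k; s, 0], by rw [Matrix.det_fin_two_of, zero_mul, zero_sub]; exact hs⟩
    refine hmk w Aw ?_
    rintro (_ | x)
    · change w • e ∞ = e (slPerm _ _ ∞)
      rw [slPerm_infty, if_neg (by simpa [Aw] using hs0), heP, hwP, heL]
      simp [Aw, hL0]
    · change w • e (x : OnePoint (ZMod 7)) = e (slPerm _ _ (x : OnePoint (ZMod 7)))
      rw [slPerm_coe]
      by_cases hx : x = 0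
      · subst hx
        simp [Aw, heL, hL0, hwQ, heP]
      · obtain ⟨y, hy, hyx⟩ := hwall x hx
        rw [if_neg (by simpa [Aw] using And.intro hs0 hx), heL, hy, heL]
        congr 1
        simp [Aw]
        rw [eq_div_iff (mul_ne_zero hs0 hx)]
        linear_combination s * hyx
  have htop : Subgroup.closure ({g, c, w} : Set G) = ⊤ := by
    by_contra hne
    have hge := index_ge_seven h _ hne
    set H := Subgroup.closure ({g, c, w} : Set G)
    have hd : ∀ (y : G) (n : ℕ), orderOf y = n → y ∈ ({g, c, w} : Set G) → n ∣ Nat.card H :=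
      fun y n hy hm => by
        rw [← hy, ← Subgroup.orderOf_mk y (Subgroup.subset_closure hm)]; exact orderOf_dvd_natCard _
    obtain ⟨m, hm⟩ := Nat.lcm_dvd (hd g 7 hg (by simp))
      (Nat.lcm_dvd (hd c 3 hc (by simp)) (hd w 2 hw2 (by simp)))
    have hmul := H.card_mul_index
    rw [show Nat.lcm 7 (Nat.lcm 3 2) = 42 from rfl] at hm
    rw [hm, h, mul_assoc] at hmul
    have : m * H.index = 4 := by omega
    rcases Nat.eq_zero_or_pos m with rfl | hm0
    · simp at this
    · have h1 := Nat.le_mul_of_pos_left H.index hm0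
      omega
  have hrange : ψ.range ≤ θ.range := by
    rw [MonoidHom.range_eq_map, ← htop, MonoidHom.map_closure, Subgroup.closure_le]
    rintro _ ⟨y, hy, rfl⟩
    simp only [Set.mem_insert_iff, Set.mem_singleton_iff] at hy
    rcases hy with rfl | rfl | rfl
    exacts [hg', hc', hw']
  have hψi : Function.Injective ψ := by
    refine (MonoidHom.ker_eq_bot_iff _).mp ?_
    refine (IsSimpleGroup.eq_bot_or_eq_top_of_normal ψ.ker inferInstance).resolve_right fun hk => ?_
    have h1 : ψ w = 1 := MonoidHom.mem_ker.mp (hk ▸ Subgroup.mem_top w)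
    have h2 := hψ w ∞
    rw [h1] at h2
    exact hwnofix _ h2.symm
  have hPSL : Nat.card (Matrix.ProjectiveSpecialLinearGroup (Fin 2) (ZMod 7)) = 168 := by
    have h1 := CfsgLib.Linear.card_PSL_mul (F := ZMod 7) (ZMod.card 7) 2 (by norm_num)
    rw [Fin.prod_univ_two] at h1
    norm_num [Fin.sum_univ_two] at h1 ⊢
    omega
  have hθi : Function.Injective θ := by
    have h1 : 168 ≤ Nat.card θ.range := by
      rw [← h, Nat.card_congr (MonoidHom.ofInjective hψi).toEquiv]
      exact Subgroup.card_le_of_le hrange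
    have h2 : θ.ker.index = Nat.card θ.range := Subgroup.index_ker θ
    have h3 := θ.ker.card_mul_index
    rw [h2, hPSL] at h3
    refine (MonoidHom.ker_eq_bot_iff _).mp (Subgroup.card_eq_one.mp ?_)
    have := Nat.card_pos (α := θ.ker)
    have h4 := Nat.mul_le_mul_left (Nat.card θ.ker) h1
    omega
  have heq : ψ.range = θ.range := Subgroup.eq_of_le_of_card_ge hrange (by
    rw [← Nat.card_congr (MonoidHom.ofInjective hψi).toEquiv,
      ← Nat.card_congr (MonoidHom.ofInjective hθi).toEquiv, hPSL, h])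
  exact ⟨(MonoidHom.ofInjective hψi).trans
    ((MulEquiv.subgroupCongr heq).trans (MonoidHom.ofInjective hθi).symm)⟩

theorem iso_psl_two_seven (h : Nat.card G = 168) {F : Type*} [Field F] [Fintype F]
    (hF : Fintype.card F = 7) : Nonempty (G ≃* Matrix.ProjectiveSpecialLinearGroup (Fin 2) F) := by
  obtain ⟨e⟩ := iso_psl_zmod_seven h
  obtain ⟨f⟩ := psl_congr (ZMod.ringEquivOfPrime F (by norm_num : Nat.Prime 7) hF)
  exact ⟨e.trans f⟩

end CfsgLib.InvChar
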