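import Cfsg.Agent.InvChar.DihedralEight
import Cfsg.Agent.SmallSimple.Basic
import Cfsg.Agent.Blocks.DefectZeroVanish
import Cfsg.Agent.S3377

/-!
A simple group of order 360 is isomorphic to the alternating group of degree six.

The centralizer of an involution is dihedral of order eight (action on the ten Sylow 3-subgroups);
a class multiplication constant then yields a subgroup isomorphic to `A₅`.
-/

namespace CfsgLib.InvChar

namespace Parity

variable {α : Type*} [Fintype α] [DecidableEq α]

/-- An involution on ten points with exactly four fixed points is odd. -/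
theorem sign_of_four_fixed (h10 : Fintype.card α = 10) (σ : Equiv.Perm α) (h2 : σ * σ = 1)
    (h4 : (Finset.univ.filter fun x => σ x = x).card = 4) : Equiv.Perm.sign σ = -1 := by
  have hsupp : σ.support.card = 6 := by
    have h := Finset.card_filter_add_card_filter_not (s := (Finset.univ : Finset α))
      (fun x => σ x = x)
    rw [h4, Finset.card_univ, h10] at h
    have he : σ.support = Finset.univ.filter fun x => ¬ σ x = x := by
      ext x; simp [Equiv.Perm.mem_support]
    rw [he]; omega
  have hrep : ∀ n ∈ σ.cycleType, n = 2 := fun n hn => by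
    have h1 := Equiv.Perm.two_le_of_mem_cycleType hn
    have h3 : n ∣ 2 := (Equiv.Perm.dvd_of_mem_cycleType hn).trans
      (orderOf_dvd_of_pow_eq_one (by rw [sq, h2]))
    have h5 := Nat.le_of_dvd two_pos h3
    omega
  have hsum := σ.sum_cycleType
  rw [Multiset.eq_replicate_card.mpr hrep, Multiset.sum_replicate, smul_eq_mul, hsupp] at hsum
  have hc : Multiset.card σ.cycleType = 3 := by omega
  rw [Equiv.Perm.sign_of_cycleType, σ.sum_cycleType, hsupp, hc]
  decide

/-- A fixed-point-free element of order four on ten points whose square fixes exactly two points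
is odd. -/
theorem sign_of_square_two_fixed (h10 : Fintype.card α = 10) (σ : Equiv.Perm α)
    (h4 : σ ^ 4 = 1) (hfix : ∀ x, σ x ≠ x)
    (h2 : (Finset.univ.filter fun x => σ (σ x) = x).card = 2) : Equiv.Perm.sign σ = -1 := by
  have hsupp : σ.support = Finset.univ := Finset.eq_univ_iff_forall.mpr fun x =>
    Equiv.Perm.mem_support.mpr (hfix x)
  have hmem : ∀ n ∈ σ.cycleType, n = 2 ∨ n = 4 := fun n hn => by
    have h1 := Equiv.Perm.two_le_of_mem_cycleType hn
    have h3 : n ∣ 4 := (Equiv.Perm.dvd_of_mem_cycleType hn).trans (orderOf_dvd_of_pow_eq_one h4)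
    have h5 := Nat.le_of_dvd (by norm_num) h3
    interval_cases n <;> simp_all
  -- at most one transposition occurs
  have hone : (σ.cycleFactorsFinset.filter fun c => c.support.card = 2).card ≤ 1 := by
    by_contra hlt
    obtain ⟨c, hc, d, hd, hcd⟩ := Finset.one_lt_card.mp (not_le.mp hlt)
    rw [Finset.mem_filter] at hc hd
    have hsub : ∀ e : Equiv.Perm α, e ∈ σ.cycleFactorsFinset → e.support.card = 2 →
        e.support ⊆ Finset.univ.filter fun x => σ (σ x) = x := by
      intro e he he2 x hx
      obtain ⟨hcyc, heq⟩ := Equiv.Perm.mem_cycleFactorsFinset_iff.mp he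
      have h22 : e * e = 1 := by rw [← sq, ← he2, ← hcyc.orderOf, pow_orderOf_eq_one]
      rw [Finset.mem_filter, ← heq x hx, ← heq (e x) (Equiv.Perm.apply_mem_support.mpr hx),
        ← Equiv.Perm.mul_apply, h22]
      exact ⟨Finset.mem_univ x, rfl⟩
    have hdis : _root_.Disjoint c.support d.support :=
      (σ.cycleFactorsFinset_pairwise_disjoint hc.1 hd.1 hcd).disjoint_support
    have h := Finset.card_le_card (Finset.union_subset (hsub c hc.1 hc.2) (hsub d hd.1 hd.2))
    rw [Finset.card_union_of_disjoint hdis, hc.2, hd.2, h2] at h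
    omega
  have hcount : σ.cycleType.count 2 ≤ 1 := by
    rw [Equiv.Perm.cycleType_def, Multiset.count_map]
    refine le_trans (le_of_eq ?_) hone
    rw [Finset.card_def, Finset.filter_val]
    congr 1
    refine Multiset.filter_congr fun c _ => ?_
    simp [eq_comm]
  have hdec : σ.cycleType = Multiset.replicate (σ.cycleType.count 2) 2 +
      Multiset.replicate (σ.cycleType.count 4) 4 := by
    ext n
    rw [Multiset.count_add, Multiset.count_replicate, Multiset.count_replicate]
    by_cases hn2 : n = 2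
    · subst hn2; simp
    by_cases hn4 : n = 4
    · subst hn4; simp
    rw [if_neg (Ne.symm hn2), if_neg (Ne.symm hn4), Multiset.count_eq_zero]
    exact fun hn => (hmem n hn).elim hn2 hn4
  have hsum : σ.cycleType.sum = 10 := by rw [σ.sum_cycleType, hsupp, Finset.card_univ, h10]
  rw [Equiv.Perm.sign_of_cycleType, hsum]
  rw [hdec, Multiset.sum_add, Multiset.sum_replicate, Multiset.sum_replicate, smul_eq_mul,
    smul_eq_mul] at hsum
  rw [hdec, Multiset.card_add, Multiset.card_replicate, Multiset.card_replicate,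
    show σ.cycleType.count 2 = 1 by omega, show σ.cycleType.count 4 = 2 by omega]
  rfl

end Parity

open CfsgLib.Char CfsgLib.SmallSimple
open scoped Pointwise

variable {G : Type*} [Group G] [Finite G] [IsSimpleGroup G]

theorem not_comm_of_card360 (h : Nat.card G = 360) : ¬ IsMulCommutative G := by
  haveI : Fact (Nat.Prime 5) := ⟨by norm_num⟩
  obtain ⟨P⟩ : Nonempty (Sylow 5 G) := Sylow.nonempty
  have hP := card_sylow_eq P (k := 1) (m := 72) (by rw [h]; norm_num) (by norm_num)
  exact not_comm_of_sylow P (by rw [hP]; norm_num) (by rw [hP, h]; norm_num)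

theorem index_ge_six (h : Nat.card G = 360) (H : Subgroup G) (hH : H ≠ ⊤) : 6 ≤ H.index := by
  have hd := card_dvd_factorial H hH
  rw [h] at hd
  by_contra hlt
  have h2 : H.index.factorial ∣ Nat.factorial 5 := Nat.factorial_dvd_factorial (by omega)
  have := Nat.le_of_dvd (Nat.factorial_pos 5) (hd.trans h2)
  norm_num [Nat.factorial] at this

theorem normal_eq_bot (h : Nat.card G = 360) {H : Subgroup G} (hn : H.Normal)
    (hc : Nat.card H ≠ 360) : H = ⊥ := by
  rcases IsSimpleGroup.eq_bot_or_eq_top_of_normal H hn with e | e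
  · exact e
  · exact absurd (by rw [e, Subgroup.card_top, h]) hc

theorem card_sylow_three (h : Nat.card G = 360) [Fact (Nat.Prime 3)] (P : Sylow 3 G) :
    Nat.card (P : Subgroup G) = 9 ∧ Nat.card (Sylow 3 G) = 10 ∧
      Nat.card (Subgroup.normalizer ((P : Subgroup G) : Set G)) = 36 := by
  have hP : Nat.card (P : Subgroup G) = 9 := by
    rw [card_sylow_eq P (k := 2) (m := 40) (by rw [h]; norm_num) (by norm_num)]; norm_num
  have h1 : Nat.card (Sylow 3 G) ∣ 40 := by
    have h' := (P : Subgroup G).card_mul_index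
    rw [hP, h] at h'
    exact (show (P : Subgroup G).index = 40 by omega) ▸ P.card_dvd_index
  have h2 : Nat.card (Sylow 3 G) % 3 = 1 := card_sylow_modEq_one 3 G
  have h3 := card_sylow_ne_one P (by rw [hP]; norm_num) (by rw [hP, h]; norm_num)
  have hN := card_sylow_mul P
  rw [h] at hN
  have h4 := Nat.le_of_dvd (by norm_num) h1
  have hidx : 6 ≤ Nat.card (Sylow 3 G) := by
    rw [P.card_eq_index_normalizer]
    refine index_ge_six h _ fun htop => h3 ?_
    rw [P.card_eq_index_normalizer, htop, Subgroup.index_top]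
  have h5 : Nat.card (Sylow 3 G) = 10 ∨ Nat.card (Sylow 3 G) = 40 := by
    interval_cases hn : Nat.card (Sylow 3 G) <;> omega
  refine ⟨hP, ?_⟩
  rcases h5 with h5 | h5 <;> rw [h5] at hN
  · exact ⟨h5, by omega⟩
  · exfalso
    haveI := IsPGroup.isMulCommutative_of_card_eq_prime_sq (p := 3) (G := (P : Subgroup G))
      (by rw [hP]; norm_num)
    have hle : Subgroup.normalizer ((P : Subgroup G) : Set G) ≤ (P : Subgroup G) :=
      (Subgroup.eq_of_le_of_card_ge Subgroup.le_normalizer (by rw [hP]; omega)).ge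
    exact not_le_centralizer P (by rw [hP]; norm_num) (by rw [hP, h]; norm_num)
      fun g hg => Subgroup.mem_centralizer_iff.mpr fun y hy =>
        setLike_mul_comm hy (hle hg)

/-- Two different Sylow 3-subgroups intersect trivially. -/
theorem eq_one_of_mem_two (h : Nat.card G = 360) [Fact (Nat.Prime 3)] {P Q : Sylow 3 G}
    (hPQ : P ≠ Q) {x : G} (hxP : x ∈ (P : Subgroup G)) (hxQ : x ∈ (Q : Subgroup G)) : x = 1 := by
  by_contra hx
  haveI : Fact (Nat.Prime 2) := ⟨Nat.prime_two⟩
  set C := Subgroup.centralizer ({x} : Set G) with hC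
  have hab : ∀ R : Sylow 3 G, x ∈ (R : Subgroup G) → (R : Subgroup G) ≤ C := by
    intro R hR y hy
    haveI := IsPGroup.isMulCommutative_of_card_eq_prime_sq (p := 3) (G := (R : Subgroup G))
      (by rw [(card_sylow_three h R).1]; norm_num)
    exact Subgroup.mem_centralizer_singleton_iff.mpr (setLike_mul_comm hy hR)
  have hCne : C ≠ ⊤ := by
    intro htop
    have hz : x ∈ Subgroup.center G := Subgroup.mem_center_iff.mpr fun g =>
      Subgroup.mem_centralizer_singleton_iff.mp (htop ▸ Subgroup.mem_top g : g ∈ C)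
    rcases IsSimpleGroup.eq_bot_or_eq_top_of_normal (Subgroup.center G) inferInstance with e | e
    · rw [e] at hz; exact hx (Subgroup.mem_bot.mp hz)
    · exact not_comm_of_card360 h ⟨⟨fun a b =>
        (Subgroup.mem_center_iff.mp (e ▸ Subgroup.mem_top a) b).symm⟩⟩
  have hidx := index_ge_six h C hCne
  have hmul := C.card_mul_index
  rw [h] at hmul
  obtain ⟨k, hk⟩ := Subgroup.card_dvd_of_le (hab P hxP)
  rw [(card_sylow_three h P).1] at hk
  set P' : Sylow 3 C := P.subtype (hab P hxP)
  set Q' : Sylow 3 C := Q.subtype (hab Q hxQ)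
  have hne : Nat.card (Sylow 3 C) ≠ 1 := fun h1 => by
    haveI := (Nat.card_eq_one_iff_unique.mp h1).1
    exact hPQ (Sylow.subtype_injective (Subsingleton.elim P' Q'))
  have hP' : Nat.card (P' : Subgroup C) = 9 := by
    rw [Sylow.coe_subtype, Nat.card_congr (Subgroup.subgroupOfEquivOfLe (hab P hxP)).toEquiv,
      (card_sylow_three h P).1]
  have hn : Nat.card (Sylow 3 C) ∣ k := by
    have h' := (P' : Subgroup C).card_mul_index
    rw [hP', hk] at h'
    exact (show (P' : Subgroup C).index = k by omega) ▸ P'.card_dvd_index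
  have hmod : Nat.card (Sylow 3 C) % 3 = 1 := card_sylow_modEq_one 3 C
  have hk40 : k * C.index = 40 := by
    rw [hk, mul_assoc] at hmul; omega
  have hk6 : k ≤ 6 := by
    by_contra hlt
    have : 7 * 6 ≤ k * C.index := Nat.mul_le_mul (by omega) hidx
    omega
  have hn4 : 4 ≤ Nat.card (Sylow 3 C) := by
    have := Nat.card_pos (α := Sylow 3 C); omega
  have hk0 : k ≠ 0 := fun h0 => by rw [h0] at hk40; omega
  have hnle := Nat.le_of_dvd (Nat.pos_of_ne_zero hk0) hn
  obtain ⟨hk4, hn4'⟩ : k = 4 ∧ Nat.card (Sylow 3 C) = 4 := by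
    interval_cases k <;> interval_cases hnn : Nat.card (Sylow 3 C) <;> omega
  -- a normal subgroup of order four of the centralizer
  have hN' : Nat.card (Subgroup.normalizer ((P' : Subgroup C) : Set C)) = 9 := by
    have h' := card_sylow_mul P'
    rw [hn4', hk, hk4] at h'
    omega
  haveI := IsPGroup.isMulCommutative_of_card_eq_prime_sq (p := 3) (G := (P' : Subgroup C))
    (by rw [hP']; norm_num)
  have hle' : Subgroup.normalizer ((P' : Subgroup C) : Set C) ≤
      Subgroup.centralizer ((P' : Subgroup C) : Set C) := by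
    rw [← Subgroup.eq_of_le_of_card_ge Subgroup.le_normalizer (by rw [hP', hN'])]
    exact fun g hg => Subgroup.mem_centralizer_iff.mpr fun y hy => setLike_mul_comm hy hg
  set K := (MonoidHom.transferSylow P' hle').ker with hK
  have hKc : Nat.card K = 4 := by
    have h' := (MonoidHom.ker_transferSylow_isComplement' P' hle').card_mul_card
    rw [← hK, hP', hk, hk4] at h'
    omega
  set V := K.map C.subtype with hV
  have hVc : Nat.card V = 4 := by
    rw [hV, Subgroup.card_map_of_injective C.subtype_injective, hKc]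
  have hVC : V ≤ C := Subgroup.map_subtype_le _
  have hCV : C ≤ Subgroup.normalizer (V : Set G) := by
    have he : V.subgroupOf C = K := Subgroup.comap_map_eq_self_of_injective C.subtype_injective K
    refine (Subgroup.normal_subgroupOf_iff_le_normalizer hVC).mp ?_
    rw [he, hK]
    exact MonoidHom.normal_ker _
  obtain ⟨S, hS⟩ := (IsPGroup.of_card (n := 2) (by rw [hVc]; norm_num) : IsPGroup 2 V).exists_le_sylow
  have hS8 : Nat.card (S : Subgroup G) = 8 := by
    rw [card_sylow_eq S (k := 3) (m := 45) (by rw [h]; norm_num) (by norm_num)]; norm_num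
  have hSV : (S : Subgroup G) ≤ Subgroup.normalizer (V : Set G) := by
    have hi : (V.subgroupOf (S : Subgroup G)).index = 2 := by
      have h' := (V.subgroupOf (S : Subgroup G)).card_mul_index
      rw [Nat.card_congr (Subgroup.subgroupOfEquivOfLe hS).toEquiv, hVc, hS8] at h'
      omega
    haveI := Subgroup.normal_of_index_eq_two hi
    exact (Subgroup.normal_subgroupOf_iff_le_normalizer hS).mp this
  have h8 := hS8 ▸ Subgroup.card_dvd_of_le hSV
  have h9 : 36 ∣ Nat.card (Subgroup.normalizer (V : Set G)) := by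
    have h' := Subgroup.card_dvd_of_le hCV
    rwa [hk, hk4] at h'
  have h72 : 72 ∣ Nat.card (Subgroup.normalizer (V : Set G)) := Nat.lcm_dvd h8 h9
  have htop : Subgroup.normalizer (V : Set G) = ⊤ := by
    by_contra hne'
    have hge := index_ge_six h _ hne'
    obtain ⟨m, hm⟩ := h72
    have h' := (Subgroup.normalizer (V : Set G)).card_mul_index
    rw [hm, h, mul_assoc] at h'
    have h5 : m * (Subgroup.normalizer (V : Set G)).index = 5 := by omega
    rcases Nat.eq_zero_or_pos m with rfl | hm0
    · simp at h5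
    · have h6 := Nat.le_mul_of_pos_left (Subgroup.normalizer (V : Set G)).index hm0
      omega
  have hbot := normal_eq_bot h (Subgroup.normalizer_eq_top_iff.mp htop) (by rw [hVc]; norm_num)
  rw [hbot, Subgroup.card_bot] at hVc
  omega

open Classical in
/-- An involution normalising a Sylow 3-subgroup `P` fixes exactly one further Sylow 3-subgroup
and inverts `P`. -/
theorem inverts_sylow (h : Nat.card G = 360) [Fact (Nat.Prime 3)] (P : Sylow 3 G) {u : G}
    (hu : u * u = 1) (hu1 : u ≠ 1) (huP : u • P = P) :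
    (∀ x ∈ (P : Subgroup G), u * x * u⁻¹ = x⁻¹) ∧
      ∃ Q : Sylow 3 G, Q ≠ P ∧ ∀ R : Sylow 3 G, u • R = R ↔ R = P ∨ R = Q := by
  haveI := Fintype.ofFinite (Sylow 3 G)
  haveI : Fact (Nat.Prime 2) := ⟨Nat.prime_two⟩
  obtain ⟨hP9, hn10, -⟩ := card_sylow_three h P
  have h10 : Fintype.card (Sylow 3 G) = 10 := by rw [← Nat.card_eq_fintype_card, hn10]
  set φ := MulAction.toPermHom G (Sylow 3 G) with hφ
  have huu : φ u * φ u = 1 := by rw [← map_mul, hu, map_one]
  -- a second fixed point
  obtain ⟨Q, hQ, hQP⟩ := Equiv.Perm.exists_fixed_point_of_prime' (p := 2) (n := 1)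
    (σ := φ u) (by rw [h10]; norm_num) (by rw [pow_one, sq, huu]) (a := P) huP
  change u • Q = Q at hQ
  have hnP : ∀ x ∈ (P : Subgroup G), u * x * u⁻¹ ∈ (P : Subgroup G) := fun x hx =>
    (Subgroup.mem_normalizer_iff.mp (Sylow.smul_eq_iff_mem_normalizer.mp huP) x).mp hx
  -- the orbit of `Q` under `P` consists of the nine points different from `P`
  have hmem : ∀ x ∈ (P : Subgroup G), x • Q ≠ P := fun x hx he => hQP (by
    rw [← inv_smul_smul x Q, he, Sylow.smul_eq_iff_mem_normalizer]
    exact Subgroup.le_normalizer (inv_mem hx))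
  let f : ↥(P : Subgroup G) → {R : Sylow 3 G // R ≠ P} := fun x => ⟨(x : G) • Q, hmem x x.2⟩
  have hf : Function.Bijective f := by
    have hinj : Function.Injective f := by
      intro x y hxy
      have h1 : ((y : G)⁻¹ * x) • Q = Q := by
        rw [mul_smul, show (x : G) • Q = (y : G) • Q from congrArg Subtype.val hxy, inv_smul_smul]
      have h2 := mem_sylow_of_smul_eq (p := 3) (n := 2) (y := (y : G)⁻¹ * x) (by
        have := pow_card_eq_one' (x := y⁻¹ * x)
        rw [hP9] at this
        exact congrArg Subtype.val this) Q h1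
      have h3 := eq_one_of_mem_two h (Ne.symm hQP) (mul_mem (inv_mem y.2) x.2) h2
      exact Subtype.ext (inv_mul_eq_one.mp h3).symm
    refine (Nat.bijective_iff_injective_and_card f).mpr ⟨hinj, ?_⟩
    rw [hP9, Nat.card_eq_fintype_card, Fintype.card_subtype_compl, Fintype.card_subtype_eq, h10]
  -- fixed points of `u` against elements of `P` centralised by `u`
  have hfix : ∀ x : (P : Subgroup G), u • ((x : G) • Q) = (x : G) • Q ↔ u * x * u⁻¹ = x := by
    intro x
    have he : u • ((x : G) • Q) = (u * x * u⁻¹) • Q := by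
      rw [mul_smul, inv_smul_eq_iff.mpr hQ.symm, mul_smul]
    constructor
    · intro hx
      exact congrArg Subtype.val (hf.injective (Subtype.ext (he.symm.trans hx) :
        f ⟨u * x * u⁻¹, hnP x x.2⟩ = f x))
    · intro hx; rw [he, hx]
  have hinv : ∀ x ∈ (P : Subgroup G), u * x * u⁻¹ = x → x = 1 := by
    intro x hx hfx
    by_contra hx1
    let T : Subgroup (P : Subgroup G) :=
      (Subgroup.centralizer ({u} : Set G)).subgroupOf (P : Subgroup G)
    have hT : ∀ y : (P : Subgroup G), y ∈ T ↔ u * y * u⁻¹ = y := fun y => by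
      rw [Subgroup.mem_subgroupOf, Subgroup.mem_centralizer_singleton_iff, mul_inv_eq_iff_eq_mul,
        eq_comm]
    have hTd : Nat.card T ∣ 3 ^ 2 := by
      rw [show 3 ^ 2 = Nat.card (P : Subgroup G) by rw [hP9]; norm_num]
      exact T.card_subgroup_dvd_card
    obtain ⟨j, hj, hTj⟩ := (Nat.dvd_prime_pow (by norm_num)).mp hTd
    have hT1 : Nat.card T ≠ 1 := fun h1 => by
      have hb := Subgroup.card_eq_one.mp h1
      have hxT : (⟨x, hx⟩ : (P : Subgroup G)) ∈ T := (hT _).mpr hfx
      rw [hb, Subgroup.mem_bot] at hxT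
      exact hx1 (congrArg Subtype.val hxT)
    haveI := Fintype.ofFinite T
    have hcard : (Finset.univ.filter fun R => φ u R = R).card = 1 + Nat.card T := by
      have hPmem : P ∈ Finset.univ.filter fun R => φ u R = R :=
        Finset.mem_filter.mpr ⟨Finset.mem_univ P, huP⟩
      rw [← Finset.card_erase_add_one hPmem, add_comm, Nat.card_eq_fintype_card, ← Finset.card_univ]
      congr 1
      refine (Finset.card_bij (fun (y : ↥T) _ => ((y : (P : Subgroup G)) : G) • Q) ?_ ?_ ?_).symm
      · intro y _
        exact Finset.mem_erase.mpr ⟨hmem _ y.1.2, Finset.mem_filter.mpr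
          ⟨Finset.mem_univ _, (hfix y.1).mpr ((hT y.1).mp y.2)⟩⟩
      · intro y _ z _ hyz
        exact Subtype.ext (hf.injective (Subtype.ext hyz))
      · intro R hR
        rw [Finset.mem_erase, Finset.mem_filter] at hR
        obtain ⟨y, hy⟩ := hf.surjective ⟨R, hR.1⟩
        have hy' : (y : G) • Q = R := congrArg Subtype.val hy
        exact ⟨⟨y, (hT y).mpr ((hfix y).mp (by rw [hy']; exact hR.2.2))⟩, Finset.mem_univ _, hy'⟩
    have hj1 : j = 1 := by
      rcases (by omega : j = 0 ∨ j = 1 ∨ j = 2) with rfl | rfl | rfl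
      · exact absurd (by simpa using hTj) hT1
      · rfl
      · exfalso
        rw [hTj] at hcard
        have hall : φ u = 1 := Equiv.ext fun R => by
          have hu' : (Finset.univ.filter fun R => φ u R = R) = Finset.univ :=
            Finset.eq_univ_of_card _ (by rw [hcard, h10]; norm_num)
          exact (Finset.mem_filter.mp (hu'.ge (Finset.mem_univ R))).2
        have hker : u ∈ φ.ker := hall
        have hne : φ.ker ≠ ⊤ := fun htop => hQP (by
          obtain ⟨g, hg⟩ := MulAction.exists_smul_eq G P Q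
          rw [← hg]
          have hgk : φ g = 1 := MonoidHom.mem_ker.mp (htop ▸ Subgroup.mem_top g)
          exact Equiv.congr_fun hgk P)
        rw [(IsSimpleGroup.eq_bot_or_eq_top_of_normal φ.ker inferInstance).resolve_right hne] at hker
        exact hu1 (Subgroup.mem_bot.mp hker)
    subst hj1
    rw [hTj] at hcard
    have hodd := Parity.sign_of_four_fixed h10 (φ u) huu (by rw [hcard]; norm_num)
    rw [sign_eq_one (not_comm_of_card360 h) φ u] at hodd
    exact absurd hodd (by decide)
  haveI := IsPGroup.isMulCommutative_of_card_eq_prime_sq (p := 3) (G := (P : Subgroup G))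
    (by rw [hP9]; norm_num)
  refine ⟨fun x hx => ?_, Q, hQP, fun R => ⟨fun hR => ?_, ?_⟩⟩
  · have h1 := hinv _ (mul_mem hx (hnP x hx)) (by
      calc u * (x * (u * x * u⁻¹)) * u⁻¹ = (u * x * u⁻¹) * ((u * u) * x * (u * u)⁻¹) := by group
        _ = _ := by rw [hu, one_mul, inv_one, mul_one]; exact setLike_mul_comm (hnP x hx) hx)
    exact (inv_eq_of_mul_eq_one_right h1).symm
  · by_cases hRP : R = P
    · exact Or.inl hRP
    · obtain ⟨x, hx⟩ := hf.surjective ⟨R, hRP⟩
      have hx' : (x : G) • Q = R := congrArg Subtype.val hx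
      rw [← hx'] at hR ⊢
      rw [hinv x x.2 ((hfix x).mp hR), one_smul]
      exact Or.inr rfl
  · rintro (rfl | rfl)
    exacts [huP, hQ]

/-- The centralizer of some involution is dihedral of order eight. -/
theorem exists_eightData360 (h : Nat.card G = 360) : ∃ t a b : G, EightData t a b := by
  classical
  haveI : Fact (Nat.Prime 3) := ⟨by norm_num⟩
  haveI : Fact (Nat.Prime 2) := ⟨Nat.prime_two⟩
  haveI := Fintype.ofFinite (Sylow 3 G)
  obtain ⟨P⟩ : Nonempty (Sylow 3 G) := Sylow.nonempty
  obtain ⟨hP9, hn10, hN36⟩ := card_sylow_three h P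
  have h10 : Fintype.card (Sylow 3 G) = 10 := by rw [← Nat.card_eq_fintype_card, hn10]
  set N := Subgroup.normalizer ((P : Subgroup G) : Set G) with hN
  obtain ⟨A⟩ : Nonempty (Sylow 2 N) := Sylow.nonempty
  have hA4 : Nat.card (A : Subgroup N) = 4 := by
    rw [card_sylow_eq A (k := 2) (m := 9) (by rw [hN36]; norm_num) (by norm_num)]; norm_num
  set A' := (A : Subgroup N).map N.subtype with hA'
  have hA'4 : Nat.card A' = 4 := by
    rw [hA', Subgroup.card_map_of_injective N.subtype_injective, hA4]
  have hAP : ∀ x ∈ A', x • P = P := fun x hx =>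
    Sylow.smul_eq_iff_mem_normalizer.mpr (Subgroup.map_subtype_le _ hx)
  obtain ⟨z, hzP, hz1⟩ : ∃ z ∈ (P : Subgroup G), z ≠ 1 := by
    by_contra hall
    push Not at hall
    rw [(Subgroup.eq_bot_iff_forall _).mpr hall, Subgroup.card_bot] at hP9
    omega
  have hz2 : z * z ≠ 1 := fun he => by
    have h1 : orderOf z ∣ 9 := by
      rw [← hP9, ← Subgroup.orderOf_mk z hzP]; exact orderOf_dvd_natCard _
    have h2 : orderOf z ∣ 2 := orderOf_dvd_of_pow_eq_one (by rw [sq, he])
    exact hz1 (orderOf_eq_one_iff.mp (Nat.eq_one_of_dvd_coprimes (by norm_num : Nat.Coprime 2 9) h2 h1))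
  have hpow4 : ∀ x ∈ A', x ^ 4 = 1 := fun x hx => by
    have := pow_card_eq_one' (x := (⟨x, hx⟩ : A'))
    rw [hA'4] at this
    exact congrArg Subtype.val this
  -- a cyclic subgroup of order four
  obtain ⟨a, ha, ha2⟩ : ∃ a ∈ A', a * a ≠ 1 := by
    by_contra hall
    push Not at hall
    obtain ⟨x, hx, hx1⟩ : ∃ x ∈ A', x ≠ 1 := by
      by_contra hall'
      push Not at hall'
      rw [(Subgroup.eq_bot_iff_forall _).mpr hall', Subgroup.card_bot] at hA'4
      omega
    obtain ⟨y, hy, hy1, hyx⟩ : ∃ y ∈ A', y ≠ 1 ∧ y ≠ x := by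
      by_contra hall'
      push Not at hall'
      have hsub : (A' : Set G) ⊆ {1, x} := fun y hy => by
        by_cases h1 : y = 1
        · exact Or.inl h1
        · exact Or.inr (hall' y hy h1)
      have := Set.ncard_le_ncard hsub (Set.toFinite _)
      rw [← Nat.card_coe_set_eq, SetLike.coe_sort_coe, hA'4] at this
      have h2 : ({1, x} : Set G).ncard ≤ 2 := (Set.ncard_insert_le _ _).trans (by simp)
      omega
    have hxy1 : x * y ≠ 1 := fun he => hyx ((eq_inv_of_mul_eq_one_right he).trans
      (inv_eq_of_mul_eq_one_right (hall x hx)))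
    have i1 := (inverts_sylow h P (hall x hx) hx1 (hAP x hx)).1
    have i2 := (inverts_sylow h P (hall y hy) hy1 (hAP y hy)).1
    have i3 := (inverts_sylow h P (hall _ (mul_mem hx hy)) hxy1 (hAP _ (mul_mem hx hy))).1 z hzP
    have i4 : x * y * z * (x * y)⁻¹ = z := by
      calc x * y * z * (x * y)⁻¹ = x * (y * z * y⁻¹) * x⁻¹ := by group
        _ = z := by rw [i2 z hzP, i1 _ (inv_mem hzP), inv_inv]
    exact hz2 (mul_eq_one_iff_eq_inv.mpr (i4.symm.trans i3))
  have ha4 : orderOf a = 4 := by
    have hd := orderOf_dvd_of_pow_eq_one (hpow4 a ha)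
    have hle := Nat.le_of_dvd (by norm_num) hd
    have hn : ¬ orderOf a ∣ 2 := fun he => ha2 (by
      rw [← sq]; exact orderOf_dvd_iff_pow_eq_one.mp he)
    have := orderOf_pos a
    interval_cases ho : orderOf a <;> simp_all
  set u := a * a with hu
  have huu : u * u = 1 := by
    rw [hu, ← pow_orderOf_eq_one a, ha4]
    simp [pow_succ, mul_assoc]
  have hu2 : orderOf u = 2 := orderOf_eq_prime (by rw [sq, huu]) ha2
  obtain ⟨-, Q, hQP, hfixu⟩ := inverts_sylow h P huu ha2 (hAP _ (mul_mem ha ha))
  set C := Subgroup.centralizer ({u} : Set G) with hC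
  have hstab : Nat.card (MulAction.stabilizer C P) ≤ 4 := by
    set T := (MulAction.stabilizer C P).map C.subtype with hT
    rw [← Subgroup.card_map_of_injective C.subtype_injective, ← hT]
    have hTfix : ∀ g ∈ T, g • P = P ∧ g • Q = Q := by
      rintro g ⟨⟨g, hg⟩, hgs, rfl⟩
      have hgP : g • P = P := hgs
      refine ⟨hgP, ?_⟩
      have h1 : u • g • Q = g • Q := by
        rw [← mul_smul, ← Subgroup.mem_centralizer_singleton_iff.mp hg, mul_smul,
          (hfixu Q).mpr (Or.inr rfl)]
      rcases (hfixu _).mp h1 with he | he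
      · exact absurd (MulAction.injective g (he.trans hgP.symm)) hQP
      · exact he
    have hTd : Nat.card T ∣ 36 := by
      rw [← hN36]
      exact Subgroup.card_dvd_of_le fun g hg => Sylow.smul_eq_iff_mem_normalizer.mp (hTfix g hg).1
    have h3 : ¬ 3 ∣ Nat.card T := fun hd => by
      obtain ⟨⟨g, hg⟩, hgo⟩ := exists_prime_orderOf_dvd_card' 3 hd
      rw [Subgroup.orderOf_mk] at hgo
      have hg3 : g ^ 3 ^ 1 = 1 := by rw [pow_one, ← hgo, pow_orderOf_eq_one]
      have := eq_one_of_mem_two h (Ne.symm hQP) (mem_sylow_of_smul_eq hg3 P (hTfix g hg).1)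
        (mem_sylow_of_smul_eq hg3 Q (hTfix g hg).2)
      rw [this, orderOf_one] at hgo
      omega
    have hcop : (Nat.card T).Coprime 9 := by
      rw [show 9 = 3 ^ 2 by norm_num]
      exact ((Nat.Prime.coprime_iff_not_dvd (by norm_num)).mpr h3).symm.pow_right 2
    exact Nat.le_of_dvd (by norm_num) (hcop.dvd_of_dvd_mul_left (show Nat.card T ∣ 9 * 4 from hTd))
  have hC8 : Nat.card C ≤ 8 := by
    rw [← (MulAction.stabilizer C P).card_mul_index, MulAction.index_stabilizer]
    have horb : (MulAction.orbit C P).ncard ≤ 2 := by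
      refine (Set.ncard_le_ncard (t := {P, Q}) ?_ (Set.toFinite _)).trans
        ((Set.ncard_insert_le _ _).trans (by simp))
      rintro R ⟨⟨g, hg⟩, rfl⟩
      refine (hfixu _).mp ?_
      change u • g • P = g • P
      rw [← mul_smul, ← Subgroup.mem_centralizer_singleton_iff.mp hg, mul_smul,
        (hfixu P).mpr (Or.inl rfl)]
    exact Nat.mul_le_mul hstab horb
  obtain ⟨S, hS⟩ := (IsPGroup.of_card (n := 2) (by rw [Nat.card_zpowers, ha4]; norm_num) :
    IsPGroup 2 (Subgroup.zpowers a)).exists_le_sylow
  have hS8 : Nat.card (S : Subgroup G) = 8 := by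
    rw [card_sylow_eq S (k := 3) (m := 45) (by rw [h]; norm_num) (by norm_num)]; norm_num
  have hidx : ((Subgroup.zpowers a).subgroupOf (S : Subgroup G)).index = 2 := by
    have h' := ((Subgroup.zpowers a).subgroupOf (S : Subgroup G)).card_mul_index
    rw [Nat.card_congr (Subgroup.subgroupOfEquivOfLe hS).toEquiv, Nat.card_zpowers, ha4, hS8] at h'
    omega
  have hsqmem : ∀ s ∈ (S : Subgroup G), s * s ∈ Subgroup.zpowers a := fun s hs =>
    Subgroup.mul_self_mem_of_index_two hidx ⟨s, hs⟩
  have hainv : ∀ x ∈ Subgroup.zpowers a, x * x = 1 → x ≠ 1 → x = u := by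
    intro x hx hx2 hx1
    rcases mem_zpowers_four ha4 hx with rfl | rfl | rfl | rfl
    · exact absurd rfl hx1
    · exact absurd hx2 ha2
    · rfl
    · rw [← mul_inv_rev, inv_eq_one] at hx2; exact absurd hx2 ha2
  have haS : a ∈ (S : Subgroup G) := hS (Subgroup.mem_zpowers a)
  have hsq : ∀ g : G, (∀ s ∈ (S : Subgroup G), g * s * g⁻¹ ∈ (S : Subgroup G)) → g ∈ C := by
    intro g hg
    rw [hC, Subgroup.mem_centralizer_singleton_iff, ← mul_inv_eq_iff_eq_mul]
    refine hainv _ ?_ ?_ fun he => ha2 (conj_eq_one_iff.mp he)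
    · rw [hu, ← conj_mul]; exact hsqmem _ (hg a haS)
    · rw [conj_mul, huu, mul_one, mul_inv_cancel]
  have hSC : (S : Subgroup G) = C := Subgroup.eq_of_le_of_card_ge
    (fun g hg => hsq g fun s hs => mul_mem (mul_mem hg hs) (inv_mem hg)) (by rw [hS8]; exact hC8)
  have hnc : ∃ x ∈ C, ∃ y ∈ C, x * y ≠ y * x := by
    by_contra hall
    push Not at hall
    refine not_le_centralizer S (by rw [hS8]; norm_num) (by rw [hS8, h]; norm_num) fun g hg => ?_
    have hgC : g ∈ C := hsq g fun s hs => (Subgroup.mem_normalizer_iff.mp hg s).mp hs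
    rw [Subgroup.mem_centralizer_iff]
    intro y hy
    exact hall y (hSC ▸ hy) g hgC
  -- an element moving `P`
  obtain ⟨s, hs, hsP⟩ : ∃ s ∈ C, s • P ≠ P := by
    by_contra hall
    push Not at hall
    have h1 : MulAction.stabilizer C P = ⊤ := eq_top_iff.mpr fun g _ => hall g g.2
    rw [h1, Subgroup.card_top, ← hSC, hS8] at hstab
    omega
  have hsz : s ∉ Subgroup.zpowers a := fun hsa =>
    hsP ((Subgroup.zpowers_le.mpr (MulAction.mem_stabilizer_iff.mpr (hAP a ha))) hsa)
  have hwu : s ≠ u := fun he =>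
    hsz (he ▸ mul_mem (Subgroup.mem_zpowers a) (Subgroup.mem_zpowers a))
  have hs2 := hsqmem s (hSC ▸ hs)
  have hscomm : Commute a s → False := by
    intro hca
    obtain ⟨x, hx, y, hy, hxy⟩ := hnc
    apply hxy
    have hdec : ∀ c ∈ C, ∃ (i : ℤ) (k : ℤ), c = a ^ i * s ^ k := by
      intro c hc
      by_cases hcz : c ∈ Subgroup.zpowers a
      · obtain ⟨i, rfl⟩ := hcz
        exact ⟨i, 0, by simp⟩
      · have h' := Subgroup.mul_mem_iff_of_index_two hidx (a := ⟨c, hSC ▸ hc⟩)
          (b := ⟨s, hSC ▸ hs⟩)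
        simp only [Subgroup.mem_subgroupOf, Subgroup.coe_mul] at h'
        obtain ⟨i, hi⟩ := Subgroup.mem_zpowers_iff.mp (h'.mpr (iff_of_false hcz hsz))
        exact ⟨i, -1, by rw [hi, zpow_neg_one, mul_inv_cancel_right]⟩
    obtain ⟨i, k, rfl⟩ := hdec x hx
    obtain ⟨i', k', rfl⟩ := hdec y hy
    exact ((((Commute.refl a).zpow_zpow i i').mul_right (hca.zpow_zpow i k')).mul_left
      ((hca.symm.zpow_zpow k i').mul_right ((Commute.refl s).zpow_zpow k k'))).eq
  have hss : s * s = 1 := by
    rcases mem_zpowers_four ha4 hs2 with he | he | he | he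
    · exact he
    · exact (hscomm (he ▸ (Commute.refl s).mul_left (Commute.refl s))).elim
    · exfalso
      set φ := MulAction.toPermHom G (Sylow 3 G) with hφ
      have hs4 : φ s ^ 4 = 1 := by
        rw [← map_pow, show s ^ 4 = (s * s) * (s * s) by rw [← sq, ← sq, ← pow_mul], he, huu, map_one]
      have hnofix : ∀ R, φ s R ≠ R := by
        intro R hR
        change s • R = R at hR
        have h1 : u • R = R := by rw [show u = s * s from he.symm, mul_smul, hR, hR]
        rcases (hfixu R).mp h1 with rfl | hRQ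
        · exact hsP hR
        · rw [hRQ] at hR
          have h2 : u • s • P = s • P := by
            rw [← mul_smul, ← Subgroup.mem_centralizer_singleton_iff.mp hs, mul_smul,
              (hfixu P).mpr (Or.inl rfl)]
          rcases (hfixu _).mp h2 with h3 | h3
          · exact hsP h3
          · exact hQP (MulAction.injective s (h3.trans hR.symm)).symm
      have htwo : (Finset.univ.filter fun R => φ s (φ s R) = R).card = 2 := by
        rw [show (Finset.univ.filter fun R => φ s (φ s R) = R) = {P, Q} by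
          ext R
          rw [Finset.mem_filter, Finset.mem_insert, Finset.mem_singleton, ← hfixu R,
            show u = s * s from he.symm, mul_smul]
          exact ⟨fun hh => hh.2, fun hh => ⟨Finset.mem_univ R, hh⟩⟩]
        exact Finset.card_pair (Ne.symm hQP)
      have hodd := Parity.sign_of_square_two_fixed h10 (φ s) hs4 hnofix htwo
      rw [sign_eq_one (not_comm_of_card360 h) φ s] at hodd
      exact absurd hodd (by decide)
    · refine (hscomm ?_).elim
      rw [← inv_inv a, ← he]
      exact ((Commute.refl s).mul_left (Commute.refl s)).inv_left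
  obtain ⟨a', b', hE⟩ := exists_eightData hu2 (by rw [← hC, ← hSC]; exact hS8) hnc hs hss
    (fun he => hsz (he ▸ one_mem _)) hwu
  exact ⟨u, a', b', hE⟩

universe u'

/-- A simple group of order 360 has a subgroup isomorphic to the alternating group of degree five,
hence is the alternating group of degree six. -/
theorem iso_alternatingSix {H : Type u'} [Group H] [Finite H] [IsSimpleGroup H]
    (h : Nat.card H = 360) : Nonempty (H ≃* alternatingGroup (Fin 6)) := by
  classical
  haveI := Fintype.ofFinite H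
  obtain ⟨t, a, b, E⟩ := exists_eightData360 h
  have hno2 : ∀ K : Subgroup H, K.index ≠ 2 := fun K hK => by
    have hne : K ≠ ⊤ := fun e => by rw [e, Subgroup.index_top] at hK; omega
    have := index_ge_six h K hne
    omega
  obtain ⟨-, hdeg⟩ := (E.card_and_degrees hno2).resolve_left (by omega)
  haveI : Fact (Nat.Prime 5) := ⟨by norm_num⟩
  haveI : Fact (Nat.Prime 3) := ⟨by norm_num⟩
  obtain ⟨s, hs⟩ := exists_prime_orderOf_dvd_card' (G := H) 5 (by rw [h]; norm_num)
  obtain ⟨c, hc⟩ := exists_prime_orderOf_dvd_card' (G := H) 3 (by rw [h]; norm_num)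
  have hsum : ∑ χ ∈ irrFinset H, χ t * χ s * starRingEnd ℂ (χ c) / χ 1 = 1 := by
    rw [Finset.sum_eq_single (fun _ => (1 : ℂ))]
    · simp
    · intro χ hχ hne
      by_cases ht0 : χ t = 0
      · simp [ht0]
      have hirr := mem_irrFinset.mp hχ
      have key : ∀ (p k : ℕ), p.Prime → χ 1 = (k : ℂ) → p ^ (Nat.card H).factorization p ∣ k →
          ∀ g : H, p ∣ orderOf g → χ g = 0 := by
        intro p k hp hk hdvd g hg
        refine CfsgLib.Block.eq_zero_of_defectZero hp ⟨χ, hirr⟩ ?_ hg
        change _ ∣ Cfsg.charDegree χ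
        rwa [Cfsg.charDegree, hk, Complex.natCast_re, Nat.floor_natCast]
      have hf5 : (Nat.card H).factorization 5 = 1 := by
        rw [h, show (360 : ℕ) = 5 * 72 by norm_num, Nat.factorization_mul (by norm_num) (by norm_num),
          Finsupp.add_apply, Nat.Prime.factorization_self (by norm_num),
          Nat.factorization_eq_zero_of_not_dvd (by norm_num)]
      have hf3 : (Nat.card H).factorization 3 = 2 := by
        rw [h, show (360 : ℕ) = 3 ^ 2 * 40 by norm_num, Nat.factorization_mul (by norm_num) (by norm_num),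
          Finsupp.add_apply, Nat.Prime.factorization_pow (by norm_num), Finsupp.single_eq_same,
          Nat.factorization_eq_zero_of_not_dvd (by norm_num)]
      rcases (hdeg χ hχ ht0).resolve_left hne with hd | hd | hd
      · simp [key 5 5 (by norm_num) (by simpa using hd) (by rw [hf5]; norm_num) s (by rw [hs])]
      · simp [key 3 9 (by norm_num) (by simpa using hd) (by rw [hf3]; norm_num) c (by rw [hc])]
      · simp [key 5 10 (by norm_num) (by simpa using hd) (by rw [hf5]; norm_num) s (by rw [hs])]
    · exact fun hn => absurd (mem_irrFinset.mpr isIrrCharacter_one) hn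
  have hcnt := card_class_products t s c
  rw [hsum, mul_one] at hcnt
  have hpos : ∀ g : H, (Nat.card {x : H // IsConj g x} : ℂ) ≠ 0 := fun g => by
    haveI : Nonempty {x : H // IsConj g x} := ⟨⟨g, IsConj.refl g⟩⟩
    exact_mod_cast Nat.card_pos.ne'
  have hne0 : Nat.card {p : H × H // IsConj t p.1 ∧ IsConj s p.2 ∧ p.1 * p.2 = c} ≠ 0 := fun h0 => by
    rw [h0, Nat.cast_zero] at hcnt
    exact div_ne_zero (mul_ne_zero (hpos t) (hpos s)) (by exact_mod_cast Nat.card_pos.ne') hcnt.symm
  obtain ⟨⟨⟨x, y⟩, hx, hy, hxy⟩⟩ := (Nat.card_ne_zero.mp hne0).1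
  obtain ⟨g₁, rfl⟩ := isConj_iff.mp hx
  obtain ⟨g₂, rfl⟩ := isConj_iff.mp hy
  simp only at hxy
  set x := g₁ * t * g₁⁻¹ with hxdef
  set y := g₂ * s * g₂⁻¹ with hydef
  have hyo : orderOf y = 5 := by rw [hydef, ← MulAut.conj_apply, MulEquiv.orderOf_eq, hs]
  have hxo : orderOf x = 2 := by rw [hxdef, ← MulAut.conj_apply, MulEquiv.orderOf_eq, E.orderOf_t]
  let gen : Fin 2 → H := ![c, y⁻¹]
  have hrel : ∀ r ∈ ({FreeGroup.of (0 : Fin 2) ^ 3, FreeGroup.of (1 : Fin 2) ^ 5,
      (FreeGroup.of (0 : Fin 2) * FreeGroup.of 1) ^ 2} : Set (FreeGroup (Fin 2))),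
      FreeGroup.lift gen r = 1 := by
    intro r hr
    simp only [Set.mem_insert_iff, Set.mem_singleton_iff] at hr
    rcases hr with rfl | rfl | rfl <;> simp only [map_pow, map_mul, FreeGroup.lift_apply_of, gen,
      Matrix.cons_val_zero, Matrix.cons_val_one]
    · rw [← hc, pow_orderOf_eq_one]
    · rw [inv_pow, ← hyo, pow_orderOf_eq_one, inv_one]
    · rw [← hxy, mul_inv_cancel_right, ← hxo, pow_orderOf_eq_one]
  obtain ⟨e⟩ := Cfsg.Agent.S3377.result
  let f : alternatingGroup (Fin 5) →* H :=
    (PresentedGroup.toGroup hrel).comp e.symm.toMonoidHom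
  haveI : IsSimpleGroup (alternatingGroup (Fin 5)) := alternatingGroup.isSimpleGroup (α := Fin 5) (by simp)
  have hcr : c ∈ f.range := ⟨e (PresentedGroup.of 0), by simp [f, gen]⟩
  have hfi : Function.Injective f := by
    refine (MonoidHom.ker_eq_bot_iff _).mp ?_
    rcases IsSimpleGroup.eq_bot_or_eq_top_of_normal f.ker inferInstance with hk | hk
    · exact hk
    · exfalso
      obtain ⟨g, hg⟩ := hcr
      have h1 : f g = 1 := MonoidHom.mem_ker.mp (hk ▸ Subgroup.mem_top g)
      rw [← hg, h1, orderOf_one] at hc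
      omega
  have hA5 : Nat.card (alternatingGroup (Fin 5)) = 60 := by
    rw [nat_card_alternatingGroup]; simp [Nat.factorial]
  have hidx : f.range.index = 6 := by
    have h' := f.range.card_mul_index
    rw [← Nat.card_congr (MonoidHom.ofInjective hfi).toEquiv, hA5, h] at h'
    omega
  have hne : f.range ≠ ⊤ := fun e' => by rw [e', Subgroup.index_top] at hidx; omega
  have key : ∀ n, f.range.index = n →
      ∃ j : H →* alternatingGroup (Fin n), Function.Injective j := by
    rintro n rfl
    exact exists_hom_alternating (not_comm_of_card360 h) f.range hne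
  obtain ⟨j, hj⟩ := key 6 hidx
  refine ⟨MulEquiv.ofBijective j ((Nat.bijective_iff_injective_and_card j).mpr ⟨hj, ?_⟩)⟩
  rw [h, nat_card_alternatingGroup]
  simp [Nat.factorial]

end CfsgLib.InvChar
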