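import Mathlib.GroupTheory.Sylow
import Mathlib.GroupTheory.Index
import Mathlib.Tactic.Group

/-!
Sylow subgroups of overgroups and fusion of normal subgroups (Burnside).
-/

namespace CfsgLib.InvChar

variable {G : Type*} [Group G] [Finite G] {p : ℕ} [Fact p.Prime]

omit [Finite G] in
theorem map_conj_map_conj (H : Subgroup G) (a b : G) :
    (H.map (MulAut.conj b).toMonoidHom).map (MulAut.conj a).toMonoidHom
      = H.map (MulAut.conj (a * b)).toMonoidHom := by
  rw [Subgroup.map_map]
  congr 1
  ext x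
  simp [mul_assoc]

omit [Finite G] in
theorem map_conj_eq_of_mem {H : Subgroup G} {a : G} (ha : a ∈ Subgroup.normalizer (H : Set G)) :
    H.map (MulAut.conj a).toMonoidHom = H := by
  ext x
  rw [Subgroup.mem_map]
  constructor
  · rintro ⟨h, hh, rfl⟩
    exact (Subgroup.mem_normalizer_iff.mp ha h).mp hh
  · intro hx
    refine ⟨a⁻¹ * x * a, ?_, by simp [mul_assoc]⟩
    have := (Subgroup.mem_normalizer_iff.mp (inv_mem ha) x).mp hx
    simpa using this

omit [Finite G] in
theorem mem_normalizer_of_map_conj_eq {H : Subgroup G} {a : G}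
    (ha : H.map (MulAut.conj a).toMonoidHom = H) : a ∈ Subgroup.normalizer (H : Set G) := by
  rw [Subgroup.mem_normalizer_iff]
  intro h
  constructor
  · intro hh
    rw [← ha]
    exact ⟨h, hh, rfl⟩
  · intro hh
    rw [← ha] at hh
    obtain ⟨k, hk, hkh⟩ := hh
    have : k = h := (MulAut.conj a).injective hkh
    exact this ▸ hk

/-- A `p`-subgroup of a subgroup `N` containing the Sylow subgroup `S` is conjugate into `S` by an
element of `N`. -/
theorem exists_conj_le_sylow (S : Sylow p G) {N P : Subgroup G} (hS : (S : Subgroup G) ≤ N)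
    (hP : P ≤ N) (h : IsPGroup p P) :
    ∃ n ∈ N, P.map (MulAut.conj n).toMonoidHom ≤ (S : Subgroup G) := by
  obtain ⟨Q, hQ⟩ := (h.comap_subtype (K := N)).exists_le_sylow
  obtain ⟨n, hn⟩ := MulAction.exists_smul_eq N Q (S.subtype hS)
  refine ⟨n, n.2, ?_⟩
  rintro _ ⟨x, hx, rfl⟩
  have hxQ : (⟨x, hP hx⟩ : N) ∈ (Q : Subgroup N) := hQ hx
  have h' : n * (⟨x, hP hx⟩ : N) * n⁻¹ ∈ ((n • Q : Sylow p N) : Subgroup N) := by
    exact ⟨_, hxQ, rfl⟩
  rw [hn] at h'
  exact h'

/-- Burnside: conjugate subgroups normal in a Sylow subgroup `S` are conjugate in the normalizer of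
`S`. -/
theorem exists_conj_normalizer (S : Sylow p G) {A B : Subgroup G}
    (hA : (S : Subgroup G) ≤ Subgroup.normalizer (A : Set G))
    (hB : (S : Subgroup G) ≤ Subgroup.normalizer (B : Set G)) {g : G}
    (hg : A.map (MulAut.conj g).toMonoidHom = B) :
    ∃ n ∈ Subgroup.normalizer ((S : Subgroup G) : Set G), A.map (MulAut.conj n).toMonoidHom = B := by
  have h1 : (S : Subgroup G).map (MulAut.conj g).toMonoidHom ≤ Subgroup.normalizer (B : Set G) := by
    rintro _ ⟨s, hs, rfl⟩
    apply mem_normalizer_of_map_conj_eq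
    have : (MulAut.conj g).toMonoidHom s * g = g * s := by simp
    calc B.map (MulAut.conj ((MulAut.conj g).toMonoidHom s)).toMonoidHom
        = A.map (MulAut.conj ((MulAut.conj g).toMonoidHom s * g)).toMonoidHom := by
          rw [← hg, map_conj_map_conj]
      _ = A.map (MulAut.conj (g * s)).toMonoidHom := by rw [this]
      _ = B := by rw [← map_conj_map_conj, map_conj_eq_of_mem (hA hs), hg]
  obtain ⟨h, hh, hle⟩ := exists_conj_le_sylow S hB h1 (S.isPGroup'.map _)
  refine ⟨h * g, mem_normalizer_of_map_conj_eq ?_, ?_⟩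
  · rw [map_conj_map_conj] at hle
    refine Subgroup.eq_of_le_of_card_ge hle (le_of_eq ?_)
    exact (Nat.card_congr (Subgroup.equivMapOfInjective _ _ (MulAut.conj _).injective).toEquiv)
  · rw [← map_conj_map_conj, hg, map_conj_eq_of_mem hh]

end CfsgLib.InvChar
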