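import Cfsg.Agent.InvChar.ModTwo
import Cfsg.Agent.Char.ClassProducts
import Cfsg.Agent.Char.Generalized
import Cfsg.Agent.Char.Induction
import Cfsg.Agent.Char.Linear
import Mathlib.GroupTheory.NoncommCoprod

/-!
A perfect group in which the centralizer `C` of an involution `v` is the direct product of a
Sylow four group and a group of odd order, with all involutions of the four group conjugate,
has `C.index ≤ 15`.

The proof lifts class functions of the odd complement `D` to class functions of `G` supported on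
the classes meeting `vD`, determines the three exceptional characters with congruences modulo two,
and counts the products of two conjugates of `v` lying in `vD`.
-/

namespace CfsgLib.InvChar

open CfsgLib.Char
open scoped ComplexConjugate

universe u

variable {G : Type u} [Group G]

/-- The hypotheses on a four group `V`, an odd complement `D` and the centralizer `C` of `v`. -/
structure FourData (V D C : Subgroup G) (v : G) : Prop where
  centralizer_eq : C = Subgroup.centralizer ({v} : Set G)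
  card_four : Nat.card V = 4
  sq_one : ∀ w ∈ V, w * w = 1
  mem_four : v ∈ V
  ne_one : v ≠ 1
  commutes : ∀ c ∈ C, ∀ w ∈ V, c * w = w * c
  complement_le : D ≤ C
  four_le : V ≤ C
  odd_complement : Odd (Nat.card D)
  decomp : ∀ c ∈ C, ∃ w ∈ V, ∃ d ∈ D, c = w * d
  fusion : ∀ w ∈ V, w ≠ 1 → IsConj v w
  odd_index : Odd V.index

variable {V D C : Subgroup G} {v : G}

namespace FourData

theorem v_sq (F : FourData V D C v) : v * v = 1 := F.sq_one v F.mem_four

theorem comm_v (F : FourData V D C v) {c : G} (hc : c ∈ C) : Commute v c :=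
  (F.commutes c hc v F.mem_four).symm

theorem mem_C_iff (F : FourData V D C v) {x : G} : x ∈ C ↔ x * v = v * x := by
  rw [F.centralizer_eq, Subgroup.mem_centralizer_singleton_iff]

theorem pow_odd_card (F : FourData V D C v) {w : G} (hw : w ∈ V) : w ^ Nat.card D = w := by
  obtain ⟨k, hk⟩ := F.odd_complement
  rw [hk, pow_succ, pow_mul, sq, F.sq_one w hw, one_pow, one_mul]

theorem pow_card_eq_one (_F : FourData V D C v) {d : G} (hd : d ∈ D) : d ^ Nat.card D = 1 := by
  exact congrArg Subtype.val (pow_card_eq_one' (x := (⟨d, hd⟩ : D)))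

theorem pow_mul_eq (F : FourData V D C v) {w d : G} (hw : w ∈ V) (hd : d ∈ D) :
    (w * d) ^ Nat.card D = w := by
  have hc : Commute w d := (F.commutes d (F.complement_le hd) w hw).symm
  rw [hc.mul_pow, F.pow_odd_card hw, F.pow_card_eq_one hd, mul_one]

theorem eq_one_of_mem_both (F : FourData V D C v) {w : G} (hw : w ∈ V) (hd : w ∈ D) : w = 1 := by
  rw [← F.pow_odd_card hw, F.pow_card_eq_one hd]

theorem v_notMem (F : FourData V D C v) : v ∉ D :=
  fun h => F.ne_one (F.eq_one_of_mem_both F.mem_four h)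

theorem odd_orderOf [Finite G] (_F : FourData V D C v) {d : G} (hd : d ∈ D) : Odd (orderOf d) := by
  have h : orderOf d ∣ Nat.card D := by
    rw [← Subgroup.orderOf_mk d hd]; exact orderOf_dvd_natCard _
  exact Odd.of_dvd_nat _F.odd_complement h

theorem mem_D_of_odd (F : FourData V D C v) {c : G} (hc : c ∈ C) (ho : Odd (orderOf c)) : c ∈ D := by
  obtain ⟨w, hw, d, hd, rfl⟩ := F.decomp c hc
  obtain ⟨k, hk⟩ := ho
  have h1 : ((w * d) ^ Nat.card D) ^ orderOf (w * d) = 1 := by
    rw [← pow_mul, mul_comm, pow_mul, pow_orderOf_eq_one, one_pow]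
  rw [F.pow_mul_eq hw hd] at h1
  rw [hk, pow_succ, pow_mul, sq, F.sq_one w hw, one_pow, one_mul] at h1
  rwa [h1, one_mul]

theorem mem_V_of_sq (F : FourData V D C v) {c : G} (hc : c ∈ C) (h : c * c = 1) : c ∈ V := by
  obtain ⟨w, hw, d, hd, rfl⟩ := F.decomp c hc
  have h1 := F.pow_mul_eq hw hd
  obtain ⟨k, hk⟩ := F.odd_complement
  rw [hk, pow_succ, pow_mul, sq, h, one_pow, one_mul] at h1
  rw [h1]; exact hw

theorem card_C [Finite G] (F : FourData V D C v) : Nat.card C = 4 * Nat.card D := by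
  rw [← F.card_four, ← Nat.card_prod]
  symm
  refine Nat.card_congr (Equiv.ofBijective
    (fun p : V × D => (⟨p.1 * p.2, mul_mem (F.four_le p.1.2) (F.complement_le p.2.2)⟩ : C))
    ⟨?_, fun c => ?_⟩)
  · intro p q h
    have h' : (p.1 : G) * p.2 = q.1 * q.2 := congrArg Subtype.val h
    have h1 : (p.1 : G) = q.1 := by
      rw [← F.pow_mul_eq p.1.2 p.2.2, h', F.pow_mul_eq q.1.2 q.2.2]
    exact Prod.ext (Subtype.ext h1) (Subtype.ext (mul_left_cancel (h1 ▸ h' : (q.1 : G) * p.2 = _)))
  · obtain ⟨w, hw, d, hd, he⟩ := F.decomp c c.2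
    exact ⟨(⟨w, hw⟩, ⟨d, hd⟩), Subtype.ext he.symm⟩

/-- Conjugation can only map `vD` into itself inside `C`. -/
theorem mem_C_of_singular (F : FourData V D C v) {x d d' : G} (hd : d ∈ D) (hd' : d' ∈ D)
    (h : x⁻¹ * (v * d) * x = v * d') : x ∈ C := by
  have h' : (x⁻¹ * (v * d) * x) ^ Nat.card D = (v * d') ^ Nat.card D := by rw [h]
  have hc := conj_pow (i := Nat.card D) (a := x⁻¹) (b := v * d)
  rw [inv_inv] at hc
  rw [hc, F.pow_mul_eq F.mem_four hd, F.pow_mul_eq F.mem_four hd'] at h'
  rw [F.mem_C_iff]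
  calc x * v = x * (x⁻¹ * v * x) := by rw [h']
    _ = v * x := by group

theorem sum_C [Fintype C] [Fintype D] (F : FourData V D C v) (f : D → ℂ) (g : C → ℂ) :
    ∑ c : C, Cfsg.extendByZero D f (v * c) * g c =
      ∑ d : D, f d * g ⟨v * d, mul_mem (F.four_le F.mem_four) (F.complement_le d.2)⟩ := by
  refine (Fintype.sum_of_injective
    (fun d : D => (⟨v * d, mul_mem (F.four_le F.mem_four) (F.complement_le d.2)⟩ : C))
    (fun d d' h => Subtype.ext (mul_left_cancel (congrArg Subtype.val h))) _ _ (fun c hc => ?_)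
    fun d => ?_).symm
  · rw [extendByZero_of_not_mem f fun hm => hc ⟨⟨_, hm⟩, Subtype.ext (by
      change v * (v * (c : G)) = c
      rw [← mul_assoc, F.v_sq, one_mul])⟩, zero_mul]
  · change _ = Cfsg.extendByZero D f (v * (v * (d : G))) * _
    rw [← mul_assoc, F.v_sq, one_mul, extendByZero_apply]

end FourData

/-- The function on `D` read off from the coset `vD`. -/
def shifted (D : Subgroup G) (v : G) (χ : G → ℂ) : D → ℂ := fun d => χ (v * d)

theorem shifted_isGeneralized [Finite G] (F : FourData V D C v) {χ : G → ℂ}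
    (hχ : Cfsg.IsCharacter G χ) : Cfsg.IsGeneralizedCharacter D (shifted D v χ) := by
  classical
  haveI := Fintype.ofFinite G
  have hcl : Cfsg.IsClassFunction D (shifted D v χ) := by
    intro g h
    simp only [shifted, Subgroup.coe_mul, Subgroup.coe_inv]
    rw [show v * ((h : G) * g * (h : G)⁻¹) = h * (v * g) * (h : G)⁻¹ by
      rw [← mul_assoc, ← mul_assoc, (F.comm_v (F.complement_le h.2)).eq, mul_assoc (h : G) v g]]
    exact IsCharacter.isClassFunction hχ _ _
  refine isGeneralized_of_classInner_int hcl fun θ hθ => ?_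
  let π : Subgroup.zpowers v × D →* G :=
    MonoidHom.noncommCoprod (Subgroup.zpowers v).subtype D.subtype fun z d => by
      obtain ⟨z, k, rfl⟩ := z
      exact (F.comm_v (F.complement_le d.2)).zpow_left k
  have hφ := IsCharacter.comp hχ π
  have hθ' := IsCharacter.comp (IsIrrCharacter.isCharacter hθ)
    (MonoidHom.snd (Subgroup.zpowers v) D)
  obtain ⟨n₁, hn₁⟩ := IsCharacter.exists_classInner_eq_natCast' hφ hθ'
  obtain ⟨n₂, hn₂⟩ := IsCharacter.exists_classInner_eq_natCast'
    (IsCharacter.restrict hχ D) (IsIrrCharacter.isCharacter hθ)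
  refine ⟨2 * n₁ - n₂, ?_⟩
  push_cast
  rw [← hn₁, ← hn₂, classInner_def, classInner_def, classInner_def]
  have hord : orderOf v = 2 := orderOf_eq_prime (by rw [sq, F.v_sq]) F.ne_one
  have hne : (1 : Subgroup.zpowers v) ≠ ⟨v, Subgroup.mem_zpowers v⟩ :=
    fun h => F.ne_one (congrArg Subtype.val h).symm
  have hcard2 : Fintype.card (Subgroup.zpowers v) = 2 := by
    rw [← Nat.card_eq_fintype_card, Nat.card_zpowers, hord]
  have huniv : (Finset.univ : Finset (Subgroup.zpowers v)) = {1, ⟨v, Subgroup.mem_zpowers v⟩} :=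
    (Finset.eq_univ_of_card _ (by rw [Finset.card_pair hne, hcard2])).symm
  have hD : (Nat.card D : ℂ) ≠ 0 := by exact_mod_cast Nat.card_pos.ne'
  rw [Fintype.sum_prod_type, huniv, Finset.sum_pair hne, Nat.card_prod, Nat.card_zpowers, hord]
  simp only [π, MonoidHom.noncommCoprod_apply, MonoidHom.coe_snd, Subgroup.coe_subtype,
    OneMemClass.coe_one, one_mul, shifted]
  push_cast
  field_simp
  ring

/-- The lift to `G` of a function on `D`. -/
noncomputable def lift [Fintype G] (C D : Subgroup G) (v : G) (θ : D → ℂ) : G → ℂ :=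
  Cfsg.indFun C fun c => 4 * Cfsg.extendByZero D θ (v * c)

namespace FourData

variable [Fintype G]

theorem lift_inner [Fintype D] (F : FourData V D C v) (θ : D → ℂ) {ψ : G → ℂ}
    (hψ : Cfsg.IsClassFunction G ψ) :
    Cfsg.classInner (lift C D v θ) ψ = Cfsg.classInner θ (shifted D v ψ) := by
  classical
  rw [lift, classInner_indFun _ hψ, classInner_def, classInner_def]
  simp only [mul_assoc, ← Finset.mul_sum]
  rw [F.sum_C θ (fun c => conj (ψ c)), F.card_C]
  simp only [shifted]
  push_cast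
  field_simp

theorem lift_apply (F : FourData V D C v) {θ : D → ℂ} (hθ : Cfsg.IsClassFunction D θ) (d : D) :
    lift C D v θ (v * d) = 4 * θ d := by
  classical
  rw [lift, indFun_def]
  have hterm : ∀ x : G, Cfsg.extendByZero C (fun c => 4 * Cfsg.extendByZero D θ (v * c))
      (x⁻¹ * (v * d) * x) = if x ∈ C then 4 * θ d else 0 := by
    intro x
    by_cases hx : x ∈ C
    · have hvd : v * (d : G) ∈ C := mul_mem (F.four_le F.mem_four) (F.complement_le d.2)
      rw [if_pos hx, extendByZero_of_mem _ (mul_mem (mul_mem (inv_mem hx) hvd) hx)]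
      obtain ⟨w, hw, d₀, hd₀, rfl⟩ := F.decomp x hx
      have hwd : Commute w (d : G) := (F.commutes _ (F.complement_le d.2) w hw).symm
      have key : v * ((w * d₀)⁻¹ * (v * d) * (w * d₀)) = d₀⁻¹ * d * d₀ := by
        have hcx := (F.comm_v (inv_mem hx)).eq
        calc v * ((w * d₀)⁻¹ * (v * d) * (w * d₀))
            = (v * (w * d₀)⁻¹) * v * d * (w * d₀) := by group
          _ = (w * d₀)⁻¹ * (v * v) * d * (w * d₀) := by rw [hcx]; group
          _ = d₀⁻¹ * (w⁻¹ * ((d : G) * w)) * d₀ := by rw [F.v_sq]; group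
          _ = d₀⁻¹ * d * d₀ := by rw [← hwd.eq, inv_mul_cancel_left]
      simp only [key]
      have hθc := hθ d (⟨d₀, hd₀⟩ : D)⁻¹
      rw [inv_inv] at hθc
      have he := extendByZero_apply θ ((⟨d₀, hd₀⟩ : D)⁻¹ * d * ⟨d₀, hd₀⟩)
      simp only [Subgroup.coe_mul, Subgroup.coe_inv] at he
      rw [he, hθc]
    · rw [if_neg hx]
      by_cases hm : x⁻¹ * (v * d) * x ∈ C
      · rw [extendByZero_of_mem _ hm, extendByZero_of_not_mem, mul_zero]
        intro hD'
        refine hx (F.mem_C_of_singular d.2 hD' ?_)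
        simp only
        rw [← mul_assoc v v, F.v_sq, one_mul]
      · exact extendByZero_of_not_mem _ hm
  rw [Finset.sum_congr rfl fun x _ => hterm x, Finset.sum_ite, Finset.sum_const_zero, add_zero,
    Finset.sum_const, nsmul_eq_mul,
    show ((Finset.univ.filter fun x : G => x ∈ C).card : ℂ) = (Nat.card C : ℂ) by
      rw [Nat.card_eq_fintype_card, Fintype.card_subtype],
    inv_mul_cancel_left₀ (by exact_mod_cast Nat.card_pos.ne')]

theorem lift_apply_one (F : FourData V D C v) (θ : D → ℂ) : lift C D v θ 1 = 0 := by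
  rw [lift, indFun_one]
  simp only [OneMemClass.coe_one, mul_one, extendByZero_of_not_mem θ F.v_notMem, mul_zero]

theorem lift_inner_lift [Fintype D] (F : FourData V D C v) {θ : D → ℂ}
    (hθ : Cfsg.IsClassFunction D θ) :
    Cfsg.classInner (lift C D v θ) (lift C D v θ) = 4 * Cfsg.classInner θ θ := by
  rw [F.lift_inner θ (show Cfsg.IsClassFunction G (lift C D v θ) from isClassFunction_indFun C _)]
  rw [show shifted D v (lift C D v θ) = (4 : ℂ) • θ from funext fun d => F.lift_apply hθ d,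
    classInner_smul_right, map_ofNat]

/-- The integral coordinates of a lift. -/
theorem exists_coeff [Fintype D] (F : FourData V D C v) {θ : D → ℂ}
    (hθ : Cfsg.IsGeneralizedCharacter D θ) :
    ∃ n : (G → ℂ) → ℤ, (∀ χ ∈ irrFinset G, Cfsg.classInner θ (shifted D v χ) = (n χ : ℂ)) ∧
      ∑ χ ∈ irrFinset G, ((n χ : ℂ) ^ 2) = 4 * Cfsg.classInner θ θ ∧
      ∑ χ ∈ irrFinset G, (n χ : ℂ) * χ 1 = 0 := by
  classical
  have hint : ∀ χ : G → ℂ, ∃ m : ℤ, χ ∈ irrFinset G →
      Cfsg.classInner θ (shifted D v χ) = (m : ℂ) := by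
    intro χ
    by_cases hχ : χ ∈ irrFinset G
    · obtain ⟨m, hm⟩ := IsGeneralized.exists_classInner_eq_int hθ
        (shifted_isGeneralized F (IsIrrCharacter.isCharacter (mem_irrFinset.mp hχ)))
      exact ⟨m, fun _ => hm⟩
    · exact ⟨0, fun h => absurd h hχ⟩
  choose n hn using hint
  have hcl : Cfsg.IsClassFunction G (lift C D v θ) := isClassFunction_indFun C _
  have hco : ∀ χ ∈ irrFinset G, Cfsg.classInner (lift C D v θ) χ = (n χ : ℂ) := fun χ hχ =>
    (F.lift_inner θ (IsIrrCharacter.isClassFunction (mem_irrFinset.mp hχ))).trans (hn χ hχ)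
  refine ⟨n, hn, ?_, ?_⟩
  · rw [← F.lift_inner_lift (IsGeneralized.isClassFunction hθ), classInner_eq_sum_irr hcl]
    refine Finset.sum_congr rfl fun χ hχ => ?_
    rw [hco χ hχ, map_intCast, sq]
  · have h1 := congrFun (eq_sum_irr hcl) 1
    rw [F.lift_apply_one, Finset.sum_apply] at h1
    rw [h1]
    exact Finset.sum_congr rfl fun χ hχ => by rw [Pi.smul_apply, smul_eq_mul, hco χ hχ]

end FourData

/-- A linear character of a perfect group is trivial. -/
theorem apply_eq_one_of_perfect (hperf : commutator G = ⊤) {χ : G → ℂ}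
    (hχ : Cfsg.IsCharacter G χ) (h1 : χ 1 = 1) : χ = fun _ => 1 := by
  obtain ⟨lam, rfl⟩ := IsCharacter.exists_hom hχ h1
  funext g
  have hg : g ∈ lam.ker := Abelianization.commutator_subset_ker lam (hperf ▸ Subgroup.mem_top g)
  rw [MonoidHom.mem_ker] at hg
  simp [hg]

namespace FourData

variable [Fintype G] [Fintype D]

omit [Fintype G] [Fintype D] in
open scoped Classical in
theorem sum_fixed_conj (F : FourData V D C v) (s : Finset G) (f : G → ModTwo)
    (hs : ∀ x ∈ s, v * x * v⁻¹ ∈ s) (hf : ∀ x ∈ s, f (v * x * v⁻¹) = f x) :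
    ∑ x ∈ s, f x = ∑ x ∈ s with x ∈ C, f x := by
  have hv := F.v_sq
  rw [sum_eq_sum_fixed s f (fun x => v * x * v⁻¹) hs (fun x _ => by
    rw [inv_eq_of_mul_eq_one_right hv]
    calc v * (v * x * v) * v = (v * v) * x * (v * v) := by group
      _ = x := by rw [hv, one_mul, mul_one]) hf]
  refine Finset.sum_congr (Finset.filter_congr fun x _ => ?_) fun _ _ => rfl
  rw [F.mem_C_iff, mul_inv_eq_iff_eq_mul, eq_comm]

/-- A character with odd `vD`-multiplicity has odd degree and is congruent to it on `vD`. -/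
theorem congruence (F : FourData V D C v) {χ : G → ℂ} (hχ : Cfsg.IsIrrCharacter G χ) {e : ℤ}
    (he : Odd e) (ha : ∑ d : D, χ (v * d) = (Nat.card D : ℂ) * e) :
    ∀ d : D, md (χ (v * d)) = 1 ∧ md (χ 1) = 1 := by
  classical
  have hch := IsIrrCharacter.isCharacter hχ
  have hcl := IsIrrCharacter.isClassFunction hχ
  have hint := IsCharacter.isIntegral hch
  have hmv : ∀ d : D, md (χ (v * d)) = md (χ d) := fun d =>
    md_char_mul_involution hch F.v_sq (F.odd_orderOf d.2) (F.comm_v (F.complement_le d.2))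
  have hsD : ∑ d : D, md (χ d) = 1 := by
    rw [← Finset.sum_congr rfl fun d _ => hmv d, ← md_sum _ _ fun d _ => hint _, ha,
      show (Nat.card D : ℂ) * e = (((Nat.card D : ℤ) * e : ℤ) : ℂ) by push_cast; ring, md_intCast]
    obtain ⟨k, hk⟩ := ((Int.odd_coe_nat _).mpr F.odd_complement).mul he
    rw [hk]
    push_cast
    rw [two_eq_zero, zero_mul, zero_add]
  set R : Finset G := Finset.univ.filter fun x => Odd (orderOf x)
  have hord : ∀ a x : G, orderOf (a * x * a⁻¹) = orderOf x := fun a x => by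
    rw [← MulAut.conj_apply, MulEquiv.orderOf_eq]
  have hRD : R.filter (fun x => x ∈ C) = (Finset.univ : Finset D).map ⟨Subtype.val, Subtype.val_injective⟩ := by
    ext x
    simp only [R, Finset.mem_filter, Finset.mem_univ, true_and, Finset.mem_map,
      Function.Embedding.coeFn_mk, Subtype.exists, exists_prop, exists_eq_right]
    exact ⟨fun h => F.mem_D_of_odd h.2 h.1, fun h => ⟨F.odd_orderOf h, F.complement_le h⟩⟩
  have hRsum : ∀ f : G → ModTwo, ∑ x ∈ R with x ∈ C, f x = ∑ d : D, f d := fun f => by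
    rw [hRD, Finset.sum_map]; rfl
  have hsR : md (∑ y ∈ R, χ y) = 1 := by
    rw [md_sum _ _ fun y _ => hint y, F.sum_fixed_conj R _ (fun x hx => by
      simpa [R, hord] using hx) (fun x _ => by rw [hcl]), hRsum, hsD]
  have main : ∀ d : D, md (χ d) = md (χ 1) := by
    intro d
    set K : Finset G := Finset.univ.filter fun x => IsConj (d : G) x
    have hK : K.card = Nat.card {x : G // IsConj (d : G) x} := by
      rw [Nat.card_eq_fintype_card, Fintype.card_subtype]
    have hKodd : Odd K.card := by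
      rw [hK, card_conj_class]
      refine Odd.of_dvd_nat F.odd_index (Subgroup.index_dvd_of_le ?_)
      intro w hw
      rw [Subgroup.mem_centralizer_singleton_iff]
      exact (F.commutes _ (F.complement_le d.2) w hw).symm
    have hKstab : ∀ x ∈ K, v * x * v⁻¹ ∈ K := fun x hx => by
      simp only [K, Finset.mem_filter, Finset.mem_univ, true_and] at hx ⊢
      exact hx.trans (isConj_iff.mpr ⟨v, rfl⟩)
    have hKC : ∀ x ∈ K, x ∈ C → x ∈ D := fun x hx hxC => by
      simp only [K, Finset.mem_filter, Finset.mem_univ, true_and] at hx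
      obtain ⟨a, rfl⟩ := isConj_iff.mp hx
      exact F.mem_D_of_odd hxC (by rw [hord]; exact F.odd_orderOf d.2)
    have hcardK : ((K.filter fun x => x ∈ C).card : ModTwo) = 1 := by
      have h := F.sum_fixed_conj K (fun _ => (1 : ModTwo)) hKstab (fun _ _ => rfl)
      rw [Finset.sum_const, Finset.sum_const, nsmul_one, nsmul_one, natCast_of_odd hKodd] at h
      exact h.symm
    have hT : md (∑ y ∈ R, ∑ x ∈ K, χ (x * y)) = 1 := by
      rw [md_sum _ _ fun y _ => isIntegral_sum _ _ fun x _ => hint _,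
        F.sum_fixed_conj R _ (fun x hx => by simpa [R, hord] using hx) (fun y _ => by
          refine congrArg md (Finset.sum_nbij' (fun x => v⁻¹ * x * v) (fun x => v * x * v⁻¹)
            (fun x hx => ?_) hKstab (fun x _ => by group) (fun x _ => by group) fun x _ => ?_)
          · have h := hKstab x hx
            rwa [show v⁻¹ = v from inv_eq_of_mul_eq_one_right F.v_sq] at h ⊢
          · rw [← hcl (v⁻¹ * x * v * y) v]
            exact congrArg χ (by group)),
        hRsum]
      have hinner : ∀ d' : D, md (∑ x ∈ K, χ (x * d')) =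
          ∑ x ∈ K with x ∈ C, md (χ (x * d')) := by
        intro d'
        rw [md_sum _ _ fun x _ => hint _, F.sum_fixed_conj K _ hKstab (fun x _ => by
          rw [← hcl (x * d') v]
          refine congrArg md (congrArg χ ?_)
          rw [show v * (x * (d' : G)) * v⁻¹ = v * x * ((d' : G) * v⁻¹) by group,
            ← ((F.comm_v (F.complement_le d'.2)).inv_left).eq, ← mul_assoc])]
      rw [Finset.sum_congr rfl fun d' _ => hinner d', Finset.sum_comm,
        Finset.sum_congr rfl fun x hx => ?_, Finset.sum_const, nsmul_eq_mul, hcardK, one_mul]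
      obtain ⟨hxK, hxC⟩ := Finset.mem_filter.mp hx
      calc ∑ d' : D, md (χ (x * d'))
          = ∑ d' : D, md (χ ((⟨x, hKC x hxK hxC⟩ * d' : D) : G)) := rfl
        _ = ∑ d' : D, md (χ d') :=
          Equiv.sum_comp (Equiv.mulLeft (⟨x, hKC x hxK hxC⟩ : D)) fun d' => md (χ d')
        _ = 1 := hsD
    have hid : χ 1 * ∑ y ∈ R, ∑ x ∈ K, χ (x * y) = (K.card : ℂ) * χ d * ∑ y ∈ R, χ y := by
      rw [Finset.sum_congr rfl fun y _ => IsIrrCharacter.sum_class_apply_mul hχ (d : G) y,
        ← hK, ← Finset.sum_div, ← Finset.mul_sum,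
        mul_div_cancel₀ _ (IsIrrCharacter.apply_one_ne_zero hχ)]
    have hKint : IsIntegral ℤ (K.card : ℂ) := by
      simpa using isIntegral_algebraMap (R := ℤ) (A := ℂ) (x := (K.card : ℤ))
    have hmd := congrArg md hid
    rw [md_mul (hint 1) (isIntegral_sum _ _ fun y _ => isIntegral_sum _ _ fun x _ => hint _),
      md_mul (hKint.mul (hint d)) (isIntegral_sum _ _ fun y _ => hint y), md_mul hKint (hint d),
      hT, hsR, md_natCast, natCast_of_odd hKodd, one_mul, mul_one, mul_one] at hmd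
    exact hmd.symm
  have hdeg : md (χ 1) = 1 := by
    rw [Finset.sum_congr rfl fun d _ => main d, Finset.sum_const, Finset.card_univ,
      nsmul_eq_mul, ← Nat.card_eq_fintype_card, natCast_of_odd F.odd_complement, one_mul] at hsD
    exact hsD
  exact fun d => ⟨by rw [hmv, main d, hdeg], hdeg⟩

end FourData

private theorem recip_bound_aux {p q r : ℚ} (hq : 3 ≤ q) (hr : 3 ≤ r) (h : p + 1 = q + r) :
    1 / q + 1 / r - 1 / p ≤ 7 / 15 := by
  obtain rfl : p = q + r - 1 := by linarith
  have h0 : (0 : ℚ) < q + r - 1 := by linarith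
  rw [← sub_nonneg]
  have key : 7 / 15 - (1 / q + 1 / r - 1 / (q + r - 1)) =
      (7 * q * r * (q + r - 1) - 15 * (r * (q + r - 1) + q * (q + r - 1) - q * r)) /
        (15 * q * r * (q + r - 1)) := by
    field_simp
  rw [key]
  refine div_nonneg ?_ (by positivity)
  obtain ⟨a, ha, rfl⟩ : ∃ a, 0 ≤ a ∧ q = 3 + a := ⟨q - 3, by linarith, by ring⟩
  obtain ⟨b, hb, rfl⟩ : ∃ b, 0 ≤ b ∧ r = 3 + b := ⟨r - 3, by linarith, by ring⟩
  nlinarith [mul_nonneg ha hb, mul_nonneg (mul_nonneg ha ha) hb, mul_nonneg (mul_nonneg ha hb) hb,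
    mul_nonneg ha ha, mul_nonneg hb hb]

/-- Three numbers of absolute value at least three with sum `-1` have reciprocal sum at least
`-7/15`. -/
theorem recip_bound {x y z : ℚ} (hx : 3 ≤ x ∨ x ≤ -3) (hy : 3 ≤ y ∨ y ≤ -3) (hz : 3 ≤ z ∨ z ≤ -3)
    (h : x + y + z = -1) : -7 / 15 ≤ 1 / x + 1 / y + 1 / z := by
  have pos2 : ∀ a b c : ℚ, 3 ≤ a → 3 ≤ b → c ≤ -3 → a + b + c = -1 →
      -7 / 15 ≤ 1 / a + 1 / b + 1 / c := by
    intro a b c ha hb hc hs
    have h1 := one_div_le_one_div_of_le (by linarith : (0 : ℚ) < a) (by linarith : a ≤ -c)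
    rw [one_div_neg_eq_neg_one_div] at h1
    have hb' : 0 < 1 / b := by positivity
    linarith
  have pos1 : ∀ a b c : ℚ, 3 ≤ a → b ≤ -3 → c ≤ -3 → a + b + c = -1 →
      -7 / 15 ≤ 1 / a + 1 / b + 1 / c := by
    intro a b c _ hb hc hs
    have h1 := recip_bound_aux (p := a) (q := -b) (r := -c) (by linarith) (by linarith) (by linarith)
    rw [one_div_neg_eq_neg_one_div, one_div_neg_eq_neg_one_div] at h1
    linarith
  rcases hx with hx | hx <;> rcases hy with hy | hy <;> rcases hz with hz | hz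
  · linarith
  · linarith [pos2 x y z hx hy hz h]
  · linarith [pos2 x z y hx hz hy (by linarith)]
  · linarith [pos1 x y z hx hy hz h]
  · linarith [pos2 y z x hy hz hx (by linarith)]
  · linarith [pos1 y x z hy hx hz (by linarith)]
  · linarith [pos1 z x y hz hx hy (by linarith)]
  · linarith

namespace FourData

variable [Fintype G] [Fintype D]

omit [Fintype G] in
theorem sum_conj_shifted (_F : FourData V D C v) {χ : G → ℂ} {e : ℂ}
    (h : Cfsg.classInner (fun _ : D => (1 : ℂ)) (shifted D v χ) = e) :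
    ∑ d : D, conj (χ (v * d)) = (Nat.card D : ℂ) * e := by
  rw [← h, ← sum_eq_card_mul_classInner]
  simp only [shifted, one_mul]

/-- An exceptional character takes its multiplicity as its value at `v`. -/
theorem exceptional_value (F : FourData V D C v) {χ : G → ℂ} (hχ : Cfsg.IsIrrCharacter G χ)
    {e : ℤ} (he : Odd e)
    (h : Cfsg.classInner (fun _ : D => (1 : ℂ)) (shifted D v χ) = (e : ℂ)) :
    χ v = (e : ℂ) ∧ md (χ 1) = 1 := by
  classical
  have hch := IsIrrCharacter.isCharacter hχ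
  have ha : ∑ d : D, χ (v * d) = (Nat.card D : ℂ) * e := by
    have h1 := congrArg conj (F.sum_conj_shifted h)
    simpa [map_sum] using h1
  have hc := F.congruence hχ he ha
  refine ⟨?_, (hc 1).2⟩
  set g : D → ℂ := shifted D v χ - (e : ℂ) • (fun _ => 1) with hg
  have hgg : Cfsg.IsGeneralizedCharacter D g :=
    IsGeneralized.sub (shifted_isGeneralized F hch) (IsGeneralized.intCast_smul isGeneralized_one e)
  have hg1 : Cfsg.classInner g (fun _ => 1) = 0 := by
    rw [hg, classInner_sub_left, classInner_smul_left, classInner_one_one,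
      ← classInner_conj, h, map_intCast, mul_one, sub_self]
  have hgd : ∀ d, md (g d) = 0 := by
    intro d
    have h1 : g d + e = χ (v * d) := by simp [hg, shifted]
    have h2 := congrArg md h1
    rw [md_add (IsGeneralized.isIntegral hgg d) (by simpa using isIntegral_algebraMap (R := ℤ) (A := ℂ) (x := e)),
      md_intCast, (hc d).1] at h2
    obtain ⟨k, rfl⟩ := he
    push_cast at h2
    rw [two_eq_zero, zero_mul, zero_add] at h2
    simpa using h2
  have hm : ∀ θ : D → ℂ, ∃ m : ℤ, θ ∈ irrFinset D → Cfsg.classInner g θ = (m : ℂ) ∧ 2 ∣ m := by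
    intro θ
    by_cases hθ : θ ∈ irrFinset D
    swap
    · exact ⟨0, fun h => absurd h hθ⟩
    have hθ' := IsCharacter.conj (IsIrrCharacter.isCharacter (mem_irrFinset.mp hθ))
    obtain ⟨m, hm⟩ := IsGeneralized.exists_classInner_eq_int hgg
      (IsIrrCharacter.isGeneralized (mem_irrFinset.mp hθ))
    refine ⟨m, fun _ => ⟨hm, ?_⟩⟩
    have h0 := congrArg md (sum_eq_card_mul_classInner g θ)
    rw [md_sum _ _ fun d _ => (IsGeneralized.isIntegral hgg d).mul (IsCharacter.isIntegral hθ' d),
      Finset.sum_eq_zero fun d _ => by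
        rw [md_mul (IsGeneralized.isIntegral hgg d) (IsCharacter.isIntegral hθ' d), hgd, zero_mul],
      hm, show (Nat.card D : ℂ) * (m : ℂ) = (((Nat.card D : ℤ) * m : ℤ) : ℂ) by push_cast; ring,
      md_intCast] at h0
    rcases Int.prime_two.dvd_or_dvd (intCast_dvd_of_eq_zero h0.symm) with h' | h'
    · exact absurd (Int.natCast_dvd_natCast.mp h') (Nat.two_dvd_ne_zero.mpr (Nat.odd_iff.mp F.odd_complement))
    · exact h'
  choose m hm using hm
  set N : ℤ := ∑ θ ∈ irrFinset D, m θ ^ 2 with hN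
  have hgN : Cfsg.classInner g g = (N : ℂ) := by
    rw [classInner_eq_sum_irr (IsGeneralized.isClassFunction hgg), hN]
    push_cast
    exact Finset.sum_congr rfl fun θ hθ => by rw [(hm θ hθ).1, map_intCast, sq]
  obtain ⟨n, hn, hsq, hdeg⟩ := F.exists_coeff hgg
  have hmem : χ ∈ irrFinset G := mem_irrFinset.mpr hχ
  have hnχ : n χ = N := by
    have h1 := hn χ hmem
    rw [show shifted D v χ = g + (e : ℂ) • (fun _ => 1) by rw [hg, sub_add_cancel],
      classInner_add_right, classInner_smul_right, hg1, mul_zero, add_zero, hgN] at h1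
    exact_mod_cast h1.symm
  have hsq' : ∑ ψ ∈ irrFinset G, n ψ ^ 2 = 4 * N := by
    rw [hgN] at hsq
    exact_mod_cast hsq
  rw [← Finset.add_sum_erase _ _ hmem, hnχ] at hsq'
  have hrest : 0 ≤ ∑ ψ ∈ (irrFinset G).erase χ, n ψ ^ 2 := Finset.sum_nonneg fun ψ _ => sq_nonneg _
  have hN0 : 0 ≤ N := Finset.sum_nonneg fun θ _ => sq_nonneg _
  obtain ⟨k, hk⟩ : (4 : ℤ) ∣ N := Finset.dvd_sum fun θ hθ => by
    obtain ⟨j, hj⟩ := (hm θ hθ).2
    exact ⟨j * j, by rw [hj]; ring⟩
  have hN' : N = 0 := by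
    by_contra hne
    have hN4 : N = 4 := le_antisymm (by nlinarith) (by omega)
    rw [hN4] at hsq'
    have hz := (Finset.sum_eq_zero_iff_of_nonneg fun ψ _ => sq_nonneg (n ψ)).mp
      (by linarith : ∑ ψ ∈ (irrFinset G).erase χ, n ψ ^ 2 = 0)
    rw [← Finset.add_sum_erase _ _ hmem, hnχ, Finset.sum_eq_zero fun ψ hψ => by
      rw [sq_eq_zero_iff.mp (hz ψ hψ), Int.cast_zero, zero_mul], add_zero, hN4] at hdeg
    exact IsIrrCharacter.apply_one_ne_zero hχ (by simpa using hdeg)
  have hg0 : g = 0 := classInner_self_eq_zero (by rw [hgN, hN', Int.cast_zero])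
  have h1 := congrFun hg0 1
  simp [hg, shifted, sub_eq_zero] at h1
  exact h1

omit [Fintype D] in
open scoped Classical in
/-- The only element of `vD` which is a product of two conjugates of `v` is `v`, in two ways. -/
theorem card_products (F : FourData V D C v) (d : D) :
    Nat.card {p : G × G // IsConj v p.1 ∧ IsConj v p.2 ∧ p.1 * p.2 = v * d} =
      if d = 1 then 2 else 0 := by
  classical
  have hsq : ∀ {x : G}, IsConj v x → x * x = 1 := by
    intro x hx
    obtain ⟨a, rfl⟩ := isConj_iff.mp hx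
    calc a * v * a⁻¹ * (a * v * a⁻¹) = a * (v * v) * a⁻¹ := by group
      _ = 1 := by rw [F.v_sq, mul_one, mul_inv_cancel]
  have hvd : ∀ d : D, v * (d : G) ∈ C := fun d =>
    mul_mem (F.four_le F.mem_four) (F.complement_le d.2)
  have key : ∀ {p q : G}, IsConj v p → IsConj v q → p * q = v * d → p ∈ V ∧ q ∈ V ∧ d = 1 := by
    intro p q hp hq h
    have hpp := inv_eq_of_mul_eq_one_right (hsq hp)
    have hqq := inv_eq_of_mul_eq_one_right (hsq hq)
    have h1 : p⁻¹ * (v * d) * p = v * (d⁻¹ : D) := by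
      rw [← h, inv_mul_cancel_left, Subgroup.coe_inv]
      have h2 : q * p = (v * d)⁻¹ := by rw [← h, mul_inv_rev, hpp, hqq]
      rw [h2, mul_inv_rev, inv_eq_of_mul_eq_one_right F.v_sq,
        ← (F.comm_v (inv_mem (F.complement_le d.2))).eq]
    have hpC := F.mem_C_of_singular d.2 (d⁻¹ : D).2 h1
    have hqC : q ∈ C := by
      rw [show q = p⁻¹ * (v * d) by rw [← h, inv_mul_cancel_left]]
      exact mul_mem (inv_mem hpC) (hvd d)
    have hpV := F.mem_V_of_sq hpC (hsq hp)
    have hqV := F.mem_V_of_sq hqC (hsq hq)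
    refine ⟨hpV, hqV, Subtype.ext (F.eq_one_of_mem_both ?_ d.2)⟩
    rw [show (d : G) = v⁻¹ * (p * q) by rw [h, inv_mul_cancel_left]]
    exact mul_mem (inv_mem F.mem_four) (mul_mem hpV hqV)
  split_ifs with hd
  · subst hd
    have hne : ∀ {x : G}, IsConj v x → x ≠ 1 := fun {x} hx hx1 =>
      F.ne_one (isConj_one_left.mp (hx1 ▸ hx))
    have hto : ∀ p : {p : G × G // IsConj v p.1 ∧ IsConj v p.2 ∧ p.1 * p.2 = v * ((1 : D) : G)},
        p.1.1 ∈ (V : Set G) \ {1, v} := by
      rintro ⟨⟨p, q⟩, hp, hq, hpq⟩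
      refine ⟨(key hp hq hpq).1, ?_⟩
      rintro (h | h)
      · exact hne hp h
      · rw [Set.mem_singleton_iff] at h
        simp only at h hpq
        rw [h, OneMemClass.coe_one, mul_right_inj] at hpq
        exact hne hq hpq
    rw [Nat.card_congr (Equiv.ofBijective (fun p => (⟨p.1.1, hto p⟩ : ((V : Set G) \ {1, v} : Set G)))
      ⟨?_, ?_⟩), Nat.card_coe_set_eq, Set.ncard_sdiff (by simp [Set.insert_subset_iff, F.mem_four]),
      Set.ncard_pair F.ne_one.symm, ← Nat.card_coe_set_eq]
    · exact (congrArg (· - 2) F.card_four)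
    · rintro ⟨⟨p, q⟩, hp, hq, hpq⟩ ⟨⟨p', q'⟩, hp', hq', hpq'⟩ h
      obtain rfl : p = p' := congrArg Subtype.val h
      obtain rfl : q = q' := mul_left_cancel (hpq.trans hpq'.symm)
      rfl
    · rintro ⟨w, hw, hw'⟩
      simp only [Set.mem_insert_iff, Set.mem_singleton_iff, not_or] at hw'
      refine ⟨⟨(w, w * v), F.fusion w hw hw'.1, F.fusion _ (mul_mem hw F.mem_four) ?_, ?_⟩, rfl⟩
      · intro h
        exact hw'.2 ((eq_inv_of_mul_eq_one_left h).trans (inv_eq_of_mul_eq_one_right F.v_sq))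
      · simp only [OneMemClass.coe_one, mul_one]
        rw [← mul_assoc, F.sq_one w hw, one_mul]
  · rw [Nat.card_eq_zero]
    exact Or.inl ⟨fun p => hd (key p.2.1 p.2.2.1 p.2.2.2).2.2⟩

/-- The centralizer of `v` has index at most fifteen. -/
theorem index_le (F : FourData V D C v) (hperf : commutator G = ⊤) : C.index ≤ 15 := by
  classical
  obtain ⟨n, hn, hsq, hdeg⟩ := F.exists_coeff (θ := fun _ : D => (1 : ℂ)) isGeneralized_one
  set triv : G → ℂ := fun _ => 1 with htriv
  have htm : triv ∈ irrFinset G := mem_irrFinset.mpr isIrrCharacter_one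
  have hn1 : n triv = 1 := by
    have h1 := hn triv htm
    rw [show shifted D v triv = fun _ => 1 from rfl, classInner_one_one] at h1
    exact_mod_cast h1.symm
  rw [classInner_one_one, mul_one] at hsq
  have hsq' : ∑ χ ∈ irrFinset G, n χ ^ 2 = 4 := by exact_mod_cast hsq
  rw [← Finset.add_sum_erase _ _ htm, hn1] at hsq'
  set T := ((irrFinset G).erase triv).filter fun χ => n χ ≠ 0 with hT
  have hTsum : ∀ F' : (G → ℂ) → ℂ, (∀ χ, n χ = 0 → F' χ = 0) →
      ∑ χ ∈ irrFinset G, F' χ = F' triv + ∑ χ ∈ T, F' χ := by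
    intro F' hF'
    rw [← Finset.add_sum_erase _ _ htm, hT,
      Finset.sum_filter_of_ne (p := fun χ => n χ ≠ 0) fun χ _ hne h0 => hne (hF' χ h0)]
  have hT3 : ∑ χ ∈ T, n χ ^ 2 = 3 := by
    rw [hT, Finset.sum_filter_of_ne (p := fun χ => n χ ≠ 0) fun χ _ hne h0 => hne (by rw [h0]; norm_num)]
    linarith
  have hpm : ∀ χ ∈ T, n χ = 1 ∨ n χ = -1 := by
    intro χ hχ
    have h1 := Finset.single_le_sum (fun ψ _ => sq_nonneg (n ψ)) hχ
    rw [hT3] at h1
    have h0 := (Finset.mem_filter.mp hχ).2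
    have : -1 ≤ n χ ∧ n χ ≤ 1 := ⟨by nlinarith, by nlinarith⟩
    omega
  have hcard : T.card = 3 := by
    rw [Finset.sum_congr rfl fun χ hχ => show n χ ^ 2 = 1 by
      rcases hpm χ hχ with h | h <;> rw [h] <;> norm_num, Finset.sum_const, nsmul_one] at hT3
    exact_mod_cast hT3
  have hprop : ∀ χ ∈ T, ∃ x : ℤ, (3 ≤ x ∨ x ≤ -3) ∧ (n χ : ℂ) * χ 1 = (x : ℂ) ∧
      (n χ : ℂ) * χ v * χ v / χ 1 = 1 / (x : ℂ) := by
    intro χ hχ
    have hmemT := Finset.mem_filter.mp hχ
    obtain ⟨hne, hmem⟩ := Finset.mem_erase.mp hmemT.1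
    have hirr := mem_irrFinset.mp hmem
    have hodd : Odd (n χ) := by
      rcases hpm χ hχ with h | h <;> rw [h]
      exacts [odd_one, odd_neg_one]
    obtain ⟨hval, hmd⟩ := F.exceptional_value hirr hodd (hn χ hmem)
    obtain ⟨k, hk⟩ := IsCharacter.exists_degree (IsIrrCharacter.isCharacter hirr)
    have hkodd : k % 2 = 1 := by
      rcases Nat.even_or_odd k with he | ho
      · rw [hk, md_natCast, natCast_of_even he] at hmd
        exact absurd hmd.symm natCast_one_ne_zero
      · exact Nat.odd_iff.mp ho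
    have hk1 : k ≠ 1 := fun h1 =>
      hne (apply_eq_one_of_perfect hperf (IsIrrCharacter.isCharacter hirr) (by rw [hk, h1, Nat.cast_one]))
    have hk0 : (k : ℂ) ≠ 0 := by exact_mod_cast (by omega : k ≠ 0)
    refine ⟨n χ * k, ?_, by rw [hk]; push_cast; ring, ?_⟩
    · rcases hpm χ hχ with h | h <;> rw [h] <;> omega
    · rw [hval, hk]
      push_cast
      rcases hpm χ hχ with h | h <;> rw [h] <;> push_cast <;> field_simp
  obtain ⟨a, b, c, hab, hac, hbc, hTeq⟩ := Finset.card_eq_three.mp hcard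
  obtain ⟨x, hx3, hxd, hxv⟩ := hprop a (by rw [hTeq]; simp)
  obtain ⟨y, hy3, hyd, hyv⟩ := hprop b (by rw [hTeq]; simp)
  obtain ⟨z, hz3, hzd, hzv⟩ := hprop c (by rw [hTeq]; simp)
  have hsum3 : ∀ F' : (G → ℂ) → ℂ, ∑ χ ∈ T, F' χ = F' a + F' b + F' c := fun F' => by
    rw [hTeq, Finset.sum_insert (by simp [hab, hac]), Finset.sum_pair hbc, add_assoc]
  rw [hTsum _ (fun χ h => by simp [h]), hsum3, hxd, hyd, hzd, hn1] at hdeg
  have hxyz : x + y + z = -1 := by
    have : ((1 + (x + y + z) : ℤ) : ℂ) = ((0 : ℤ) : ℂ) := by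
      rw [Int.cast_one, one_mul, show triv 1 = 1 from rfl] at hdeg
      push_cast
      linear_combination hdeg
    have := Int.cast_injective this
    omega
  -- the class multiplication count
  have hcount : ∑ d : D, (Nat.card {p : G × G // IsConj v p.1 ∧ IsConj v p.2 ∧ p.1 * p.2 = v * d} : ℂ)
      = 2 := by
    rw [Finset.sum_congr rfl fun d _ => by rw [F.card_products d]]
    simp
  rw [Finset.sum_congr rfl fun (d : D) _ => card_class_products v v (v * (d : G)), ← Finset.mul_sum,
    Finset.sum_comm] at hcount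
  have hin : ∀ χ ∈ irrFinset G, ∑ d : D, χ v * χ v * conj (χ (v * d)) / χ 1 =
      (Nat.card D : ℂ) * ((n χ : ℂ) * χ v * χ v / χ 1) := by
    intro χ hχ
    rw [← Finset.sum_div, ← Finset.mul_sum, F.sum_conj_shifted (hn χ hχ)]
    ring
  rw [Finset.sum_congr rfl hin, ← Finset.mul_sum,
    hTsum _ (fun χ h => by simp [h]), hsum3, hxv, hyv, hzv, hn1] at hcount
  have hK : Nat.card {x : G // IsConj v x} = C.index := by rw [card_conj_class, F.centralizer_eq]
  have hGcard : (Nat.card G : ℂ) = (C.index : ℂ) * (4 * (Nat.card D : ℂ)) := by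
    rw [← Subgroup.index_mul_card C, F.card_C]
    push_cast
    rfl
  have hD0 : (Nat.card D : ℂ) ≠ 0 := by exact_mod_cast Nat.card_pos.ne'
  have hI0 : (C.index : ℂ) ≠ 0 := by exact_mod_cast Subgroup.index_ne_zero_of_finite
  rw [hK, hGcard] at hcount
  simp only [htriv, Int.cast_one, mul_one, div_one] at hcount
  have hfinal : (C.index : ℂ) * (1 + (1 / (x : ℂ) + 1 / (y : ℂ) + 1 / (z : ℂ))) = 8 := by
    field_simp at hcount ⊢
    linear_combination hcount
  have hQ : (C.index : ℚ) * (1 + (1 / (x : ℚ) + 1 / (y : ℚ) + 1 / (z : ℚ))) = 8 := by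
    apply (Rat.cast_injective (α := ℂ))
    push_cast
    exact hfinal
  have hb := recip_bound (x := (x : ℚ)) (y := y) (z := z) (by exact_mod_cast hx3)
    (by exact_mod_cast hy3) (by exact_mod_cast hz3) (by exact_mod_cast hxyz)
  have h15 : (C.index : ℚ) ≤ 15 := by nlinarith [(Nat.cast_nonneg C.index : (0 : ℚ) ≤ _)]
  exact_mod_cast h15

end FourData

end CfsgLib.InvChar
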