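import Cfsg.Agent.Char.ClassProducts
import Cfsg.Agent.Char.Galois
import Cfsg.Agent.S3225
import Mathlib.GroupTheory.IndexNormal
import Mathlib.RingTheory.Coprime.Basic

/-!
A finite group without subgroups of index two in which the centralizer of an involution is
dihedral of order eight is simple of order 168 or 360.

Only column orthogonality and two class multiplication constants are needed.
-/

namespace CfsgLib.InvChar

open CfsgLib.Char
open scoped ComplexConjugate

universe u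

variable {G : Type u} [Group G]

/-- The centralizer of the involution `t` is the dihedral group `⟨a, b⟩` of order eight. -/
structure EightData (t a b : G) : Prop where
  invol : t * t = 1
  ne_one : t ≠ 1
  ord_four : orderOf a = 4
  sq_eq : a * a = t
  inverts : b * a * b⁻¹ = a⁻¹
  b_sq : b * b = 1
  b_notMem : b ∉ Subgroup.zpowers a
  card_centralizer : Nat.card (Subgroup.centralizer ({t} : Set G)) = 8
  b_mem : b ∈ Subgroup.centralizer ({t} : Set G)

variable [Finite G] {t a b : G}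

/-- The elements of a cyclic group of order four. -/
theorem mem_zpowers_four (h : orderOf a = 4) {x : G} (hx : x ∈ Subgroup.zpowers a) :
    x = 1 ∨ x = a ∨ x = a * a ∨ x = a⁻¹ := by
  classical
  rw [mem_zpowers_iff_mem_range_orderOf, h, Finset.mem_image] at hx
  obtain ⟨k, hk, rfl⟩ := hx
  rw [Finset.mem_range] at hk
  have hinv : a ^ 3 = a⁻¹ := by
    rw [eq_inv_iff_mul_eq_one, ← pow_succ, show 3 + 1 = orderOf a by omega, pow_orderOf_eq_one]
  rcases (by omega : k = 0 ∨ k = 1 ∨ k = 2 ∨ k = 3) with rfl | rfl | rfl | rfl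
  · exact Or.inl (pow_zero a)
  · exact Or.inr (Or.inl (pow_one a))
  · exact Or.inr (Or.inr (Or.inl (sq a)))
  · exact Or.inr (Or.inr (Or.inr hinv))

/-- Recognition of the hypotheses from a nonabelian centralizer of order eight with two
involutions. -/
theorem exists_eightData (ht : orderOf t = 2)
    (h8 : Nat.card (Subgroup.centralizer ({t} : Set G)) = 8)
    (hnc : ∃ x ∈ Subgroup.centralizer ({t} : Set G), ∃ y ∈ Subgroup.centralizer ({t} : Set G),
      x * y ≠ y * x)
    {w : G} (hw : w ∈ Subgroup.centralizer ({t} : Set G)) (hw2 : w * w = 1) (hw1 : w ≠ 1)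
    (hwt : w ≠ t) : ∃ a b : G, EightData t a b := by
  classical
  set C := Subgroup.centralizer ({t} : Set G) with hC
  have htt : t * t = 1 := by rw [← sq, ← ht, pow_orderOf_eq_one]
  have ht1 : t ≠ 1 := fun h => by rw [h, orderOf_one] at ht; omega
  have hcomm : ∀ c ∈ C, c * t = t * c := fun c hc => Subgroup.mem_centralizer_singleton_iff.mp hc
  obtain ⟨x, hx, y, hy, hxy⟩ := hnc
  -- an element of order four
  obtain ⟨a, ha, ha2⟩ : ∃ a ∈ C, a * a ≠ 1 := by
    by_contra hall
    push Not at hall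
    apply hxy
    have h1 := inv_eq_of_mul_eq_one_right (hall _ (mul_mem hx hy))
    rwa [mul_inv_rev, inv_eq_of_mul_eq_one_right (hall x hx),
      inv_eq_of_mul_eq_one_right (hall y hy), eq_comm] at h1
  have hdvd : orderOf a ∣ 2 ^ 3 := by
    rw [← Subgroup.orderOf_mk a ha, show 2 ^ 3 = Nat.card C by rw [h8]; norm_num]
    exact orderOf_dvd_natCard _
  obtain ⟨j, hj, hja⟩ := (Nat.dvd_prime_pow Nat.prime_two).mp hdvd
  have hle : Subgroup.zpowers a ≤ C := Subgroup.zpowers_le.mpr ha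
  have ha4 : orderOf a = 4 := by
    have hj2 : 2 ≤ j := by
      by_contra hc
      apply ha2
      rw [← sq]
      exact orderOf_dvd_iff_pow_eq_one.mp (hja ▸ pow_dvd_pow 2 (by omega : j ≤ 1))
    rcases (by omega : j = 2 ∨ j = 3) with rfl | rfl
    · simpa using hja
    · exfalso
      have heq : Subgroup.zpowers a = C := Subgroup.eq_of_le_of_card_ge hle (by
        rw [Nat.card_zpowers, hja, h8]; norm_num)
      rw [← heq] at hx hy
      obtain ⟨i, rfl⟩ := hx
      obtain ⟨k, rfl⟩ := hy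
      exact hxy ((Commute.refl a).zpow_zpow i k).eq
  have hidx : ((Subgroup.zpowers a).subgroupOf C).index = 2 := by
    have h := ((Subgroup.zpowers a).subgroupOf C).card_mul_index
    rw [Nat.card_congr (Subgroup.subgroupOfEquivOfLe hle).toEquiv, Nat.card_zpowers, ha4, h8] at h
    omega
  have hsplit : ∀ u ∈ C, u ∉ Subgroup.zpowers a → ∀ c ∈ C,
      c ∈ Subgroup.zpowers a ∨ c * u ∈ Subgroup.zpowers a := by
    intro u hu hun c hc
    by_cases hcz : c ∈ Subgroup.zpowers a
    · exact Or.inl hcz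
    · have h := Subgroup.mul_mem_iff_of_index_two hidx (a := ⟨c, hc⟩) (b := ⟨u, hu⟩)
      simp only [Subgroup.mem_subgroupOf, Subgroup.coe_mul] at h
      exact Or.inr (h.mpr (iff_of_false hcz hun))
  have hgen : ∀ u ∈ C, u ∉ Subgroup.zpowers a → Commute u a → False := by
    intro u hu hun huc
    apply hxy
    have hdec : ∀ c ∈ C, ∃ (i : ℤ) (k : ℤ), c = a ^ i * u ^ k := by
      intro c hc
      rcases hsplit u hu hun c hc with h | h
      · obtain ⟨i, rfl⟩ := h
        exact ⟨i, 0, by simp⟩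
      · obtain ⟨i, hi⟩ := Subgroup.mem_zpowers_iff.mp h
        exact ⟨i, -1, by rw [hi, zpow_neg_one, mul_inv_cancel_right]⟩
    obtain ⟨i, k, rfl⟩ := hdec x hx
    obtain ⟨i', k', rfl⟩ := hdec y hy
    exact ((((Commute.refl a).zpow_zpow i i').mul_right (huc.symm.zpow_zpow i k')).mul_left
      ((huc.zpow_zpow k i').mul_right ((Commute.refl u).zpow_zpow k k'))).eq
  have hinvol : ∀ u ∈ Subgroup.zpowers a, u * u = 1 → u ≠ 1 → u = a * a := by
    intro u hu h1 h2
    rcases mem_zpowers_four ha4 hu with rfl | rfl | rfl | rfl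
    · exact absurd rfl h2
    · exact absurd h1 ha2
    · rfl
    · exact absurd (by rw [← mul_inv_rev, inv_eq_one] at h1; exact h1) ha2
  have htmem : t ∈ Subgroup.zpowers a := by
    by_contra htn
    exact hgen t (Subgroup.mem_centralizer_singleton_iff.mpr rfl) htn (hcomm a ha).symm
  have hta : a * a = t := (hinvol t htmem htt ht1).symm
  have hwn : w ∉ Subgroup.zpowers a := fun h => hwt ((hinvol w h hw2 hw1).trans hta)
  have hn : ((Subgroup.zpowers a).subgroupOf C).Normal := Subgroup.normal_of_index_eq_two hidx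
  have hconj : w * a * w⁻¹ ∈ Subgroup.zpowers a :=
    hn.conj_mem ⟨a, ha⟩ (Subgroup.mem_zpowers a) ⟨w, hw⟩
  have hord : orderOf (w * a * w⁻¹) = 4 := by rw [← MulAut.conj_apply, MulEquiv.orderOf_eq, ha4]
  refine ⟨a, w, htt, ht1, ha4, hta, ?_, hw2, hwn, h8, hw⟩
  rcases mem_zpowers_four ha4 hconj with h | h | h | h
  · rw [h, orderOf_one] at hord; omega
  · exact absurd (mul_inv_eq_iff_eq_mul.mp h) fun h' => hgen w hw hwn h'
  · rw [h, hta, ht] at hord; omega
  · exact h

namespace EightData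

variable (E : EightData t a b)
include E

theorem orderOf_t : orderOf t = 2 := orderOf_eq_prime (by rw [sq, E.invol]) E.ne_one

theorem a_mem : a ∈ Subgroup.centralizer ({t} : Set G) := by
  rw [Subgroup.mem_centralizer_singleton_iff, ← E.sq_eq, mul_assoc]

theorem zpowers_le : Subgroup.zpowers a ≤ Subgroup.centralizer ({t} : Set G) :=
  Subgroup.zpowers_le.mpr E.a_mem

theorem index_zpowers :
    ((Subgroup.zpowers a).subgroupOf (Subgroup.centralizer ({t} : Set G))).index = 2 := by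
  have h := ((Subgroup.zpowers a).subgroupOf (Subgroup.centralizer ({t} : Set G))).card_mul_index
  rw [Nat.card_congr (Subgroup.subgroupOfEquivOfLe E.zpowers_le).toEquiv, Nat.card_zpowers,
    E.ord_four, E.card_centralizer] at h
  omega

theorem mem_or {c : G} (hc : c ∈ Subgroup.centralizer ({t} : Set G)) :
    c ∈ Subgroup.zpowers a ∨ c * b ∈ Subgroup.zpowers a := by
  by_cases hcz : c ∈ Subgroup.zpowers a
  · exact Or.inl hcz
  · have h := Subgroup.mul_mem_iff_of_index_two E.index_zpowers (a := ⟨c, hc⟩) (b := ⟨b, E.b_mem⟩)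
    simp only [Subgroup.mem_subgroupOf, Subgroup.coe_mul] at h
    exact Or.inr (h.mpr (iff_of_false hcz E.b_notMem))

/-- The elements of the coset `⟨a⟩b` are involutions inverting `a`. -/
theorem outside {c : G} (hc : c ∈ Subgroup.centralizer ({t} : Set G))
    (hcz : c ∉ Subgroup.zpowers a) : c * c = 1 ∧ c * a * c⁻¹ = a⁻¹ := by
  obtain ⟨i, hi⟩ := Subgroup.mem_zpowers_iff.mp ((E.mem_or hc).resolve_left hcz)
  have hb : b⁻¹ = b := inv_eq_of_mul_eq_one_right E.b_sq
  have hce : c = a ^ i * b := by rw [hi, mul_assoc, E.b_sq, mul_one]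
  have hbi : b * a ^ i * b⁻¹ = (a ^ i)⁻¹ := by
    rw [← conj_zpow, E.inverts, inv_zpow]
  subst hce
  refine ⟨?_, ?_⟩
  · calc a ^ i * b * (a ^ i * b) = a ^ i * (b * a ^ i * b⁻¹) * (b * b) := by group
      _ = 1 := by rw [hbi, mul_inv_cancel, E.b_sq, mul_one]
  · calc a ^ i * b * a * (a ^ i * b)⁻¹ = a ^ i * (b * a * b⁻¹) * (a ^ i)⁻¹ := by group
      _ = a⁻¹ := by rw [E.inverts]; group

theorem invol_eq {c : G} (hc : c ∈ Subgroup.zpowers a) (h1 : c * c = 1) (h2 : c ≠ 1) : c = t := by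
  have ha2 : a * a ≠ 1 := E.sq_eq ▸ E.ne_one
  rcases mem_zpowers_four E.ord_four hc with rfl | rfl | rfl | rfl
  · exact absurd rfl h2
  · exact absurd h1 ha2
  · exact E.sq_eq
  · rw [← mul_inv_rev, inv_eq_one] at h1
    exact absurd h1 ha2

theorem isConj_inv : IsConj a a⁻¹ := isConj_iff.mpr ⟨b, E.inverts⟩

theorem centralizer_le : Subgroup.centralizer ({a} : Set G) ≤ Subgroup.centralizer ({t} : Set G) := by
  intro c hc
  rw [Subgroup.mem_centralizer_singleton_iff] at hc ⊢
  rw [← E.sq_eq, ← mul_assoc, hc, mul_assoc, hc, ← mul_assoc]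

theorem centralizer_a : Subgroup.centralizer ({a} : Set G) = Subgroup.zpowers a := by
  refine le_antisymm (fun c hc => ?_) (Subgroup.zpowers_le.mpr
    (Subgroup.mem_centralizer_singleton_iff.mpr rfl))
  by_contra hcz
  have h := (E.outside (E.centralizer_le hc) hcz).2
  rw [Subgroup.mem_centralizer_singleton_iff.mp hc, mul_inv_cancel_right] at h
  have h2 : a * a = 1 := mul_eq_one_iff_eq_inv.mpr h
  exact E.ne_one (E.sq_eq ▸ h2)

theorem not_isConj : ¬ IsConj t a := fun h => by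
  obtain ⟨g, hg⟩ := isConj_iff.mp h
  have : orderOf a = 2 := by
    rw [← hg, ← MulAut.conj_apply, MulEquiv.orderOf_eq, E.orderOf_t]
  rw [E.ord_four] at this
  omega

/-- The centralizer is a Sylow subgroup. -/
theorem exists_sylow : ∃ S : Sylow 2 G, (S : Subgroup G) = Subgroup.centralizer ({t} : Set G) := by
  haveI : Fact (Nat.Prime 2) := ⟨Nat.prime_two⟩
  set C := Subgroup.centralizer ({t} : Set G) with hC
  have hp : IsPGroup 2 C := IsPGroup.of_card (n := 3) (by rw [E.card_centralizer]; norm_num)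
  obtain ⟨S, hS⟩ := hp.exists_le_sylow
  refine ⟨S, le_antisymm ?_ hS⟩
  haveI : Nontrivial (S : Subgroup G) :=
    ⟨⟨t, hS (Subgroup.mem_centralizer_singleton_iff.mpr rfl)⟩, 1, fun h =>
      E.ne_one (congrArg Subtype.val h)⟩
  haveI := S.isPGroup'.center_nontrivial
  have hd : 2 ∣ Nat.card (Subgroup.center (S : Subgroup G)) :=
    (S.isPGroup'.to_subgroup _).card_eq_or_dvd.resolve_left Finite.one_lt_card.ne'
  obtain ⟨⟨⟨z, hzS⟩, hzc⟩, hz⟩ := exists_prime_orderOf_dvd_card' 2 hd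
  have hzord : orderOf z = 2 := by simpa [← Subgroup.orderOf_coe] using hz
  have hzall : ∀ s ∈ (S : Subgroup G), s * z = z * s := fun s hs =>
    congrArg Subtype.val (Subgroup.mem_center_iff.mp hzc ⟨s, hs⟩)
  have htS : t ∈ (S : Subgroup G) := hS (Subgroup.mem_centralizer_singleton_iff.mpr rfl)
  have hzC : z ∈ C := Subgroup.mem_centralizer_singleton_iff.mpr (hzall t htS).symm
  have hzt : z = t := by
    have hza : z ∈ Subgroup.zpowers a := by
      by_contra hcz
      have h := (E.outside hzC hcz).2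
      rw [← hzall a (hS E.a_mem), mul_inv_cancel_right] at h
      exact E.ne_one (E.sq_eq ▸ mul_eq_one_iff_eq_inv.mpr h)
    refine E.invol_eq hza (by rw [← sq, ← hzord, pow_orderOf_eq_one]) fun h => ?_
    rw [h, orderOf_one] at hzord; omega
  intro s hs
  rw [hC, Subgroup.mem_centralizer_singleton_iff, ← hzt]
  exact hzall s hs

theorem odd_index : Odd (Subgroup.centralizer ({t} : Set G)).index := by
  haveI : Fact (Nat.Prime 2) := ⟨Nat.prime_two⟩
  obtain ⟨S, hS⟩ := E.exists_sylow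
  rw [← hS]
  exact Nat.odd_iff.mpr (Nat.two_dvd_ne_zero.mp S.not_dvd_index)

/-- Without subgroups of index two all involutions are conjugate. -/
theorem isConj_of_invol (hno2 : ∀ H : Subgroup G, H.index ≠ 2) {u : G} (hu : u * u = 1)
    (hu1 : u ≠ 1) : IsConj t u := by
  haveI : Fact (Nat.Prime 2) := ⟨Nat.prime_two⟩
  obtain ⟨S, hS⟩ := E.exists_sylow
  have hu2 : orderOf u = 2 := orderOf_eq_prime (by rw [sq, hu]) hu1
  obtain ⟨S', hS'⟩ := (IsPGroup.of_card (n := 1) (by rw [Nat.card_zpowers, hu2, pow_one]) :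
    IsPGroup 2 (Subgroup.zpowers u)).exists_le_sylow
  obtain ⟨g, hg⟩ := MulAction.exists_smul_eq G S' S
  have hgu : g * u * g⁻¹ ∈ (S : Subgroup G) := by
    rw [← hg, Sylow.coe_subgroup_smul]
    exact Subgroup.mem_map.mpr ⟨u, hS' (Subgroup.mem_zpowers u), rfl⟩
  set u' := g * u * g⁻¹
  have hu' : orderOf u' = 2 := by simp only [u']; rw [← MulAut.conj_apply, MulEquiv.orderOf_eq, hu2]
  have hev : Even (Nat.card G) := even_iff_two_dvd.mpr (hu2 ▸ orderOf_dvd_natCard u)
  obtain ⟨g', hg'⟩ := Cfsg.Agent.S3225.result hev hno2 S (Subgroup.zpowers a) (hS ▸ E.zpowers_le)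
    (by rw [Subgroup.relIndex, hS, E.index_zpowers]) 1 le_rfl (fun y hy hya => by
      rw [Nat.sub_self, pow_zero]
      have h1 : orderOf y ≠ 1 := fun h => hya (by rw [orderOf_eq_one_iff.mp h]; exact one_mem _)
      have := orderOf_pos y
      omega) u' hgu (by rw [hu', pow_one])
  have h2 : orderOf (g' * u' * g'⁻¹) = 2 := by rw [← MulAut.conj_apply, MulEquiv.orderOf_eq, hu']
  have heq : g' * u' * g'⁻¹ = t := by
    refine E.invol_eq hg' (by rw [← sq, ← h2, pow_orderOf_eq_one]) fun h => ?_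
    rw [h, orderOf_one] at h2; omega
  exact (isConj_iff.mpr ⟨g' * g, by rw [← heq]; simp only [u']; group⟩ : IsConj u t).symm

/-- Products of two involutions equal to `c ∈ {a, t}`. -/
theorem card_products (hno2 : ∀ H : Subgroup G, H.index ≠ 2) {c : G} (hc : c = a ∨ c = t) :
    Nat.card {p : G × G // IsConj t p.1 ∧ IsConj t p.2 ∧ p.1 * p.2 = c} = 4 := by
  classical
  set C := Subgroup.centralizer ({t} : Set G) with hC
  have hsq : ∀ {x : G}, IsConj t x → x * x = 1 ∧ x ≠ 1 := by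
    intro x hx
    obtain ⟨g, rfl⟩ := isConj_iff.mp hx
    refine ⟨?_, fun h => E.ne_one (conj_eq_one_iff.mp h)⟩
    calc g * t * g⁻¹ * (g * t * g⁻¹) = g * (t * t) * g⁻¹ := by group
      _ = 1 := by rw [E.invol, mul_one, mul_inv_cancel]
  have hcC : c ∈ Subgroup.zpowers a := by
    rcases hc with hca | hct
    · rw [hca]; exact Subgroup.mem_zpowers a
    · rw [hct, ← E.sq_eq]; exact mul_mem (Subgroup.mem_zpowers a) (Subgroup.mem_zpowers a)
  have hto : ∀ p : {p : G × G // IsConj t p.1 ∧ IsConj t p.2 ∧ p.1 * p.2 = c},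
      p.1.1 ∈ (C : Set G) \ (Subgroup.zpowers a : Set G) := by
    rintro ⟨⟨p, q⟩, hp, hq, hpq⟩
    obtain ⟨hp2, hp1⟩ := hsq hp
    obtain ⟨hq2, hq1⟩ := hsq hq
    have hpp := inv_eq_of_mul_eq_one_right hp2
    have hqq := inv_eq_of_mul_eq_one_right hq2
    simp only at hpq hp2 hp1 hq2 hq1 hpp hqq
    have hinv : p * c * p⁻¹ = c⁻¹ := by
      rw [← hpq, mul_inv_rev, ← mul_assoc, hp2, one_mul, hqq]
    refine ⟨?_, ?_⟩
    · change p ∈ Subgroup.centralizer ({t} : Set G)
      rw [Subgroup.mem_centralizer_singleton_iff, ← mul_inv_eq_iff_eq_mul]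
      rcases hc with hca | hct
      · rw [hca] at hinv
        rw [← E.sq_eq, ← conj_mul, hinv, ← mul_inv_rev, E.sq_eq,
          inv_eq_of_mul_eq_one_right E.invol]
      · rw [hct] at hinv
        rw [hinv, inv_eq_of_mul_eq_one_right E.invol]
    · intro hpz
      change p ∈ Subgroup.zpowers a at hpz
      have hqz : q ∈ Subgroup.zpowers a := by
        rw [show q = p⁻¹ * c by rw [← hpq, inv_mul_cancel_left]]
        exact mul_mem (inv_mem hpz) hcC
      have h1 := E.invol_eq hpz hp2 hp1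
      have h2 := E.invol_eq hqz hq2 hq1
      rw [h1, h2, E.invol] at hpq
      rcases hc with hca | hct
      · have h := E.ord_four
        rw [← hca, ← hpq, orderOf_one] at h
        omega
      · exact E.ne_one (hpq.trans hct).symm
  rw [Nat.card_congr (Equiv.ofBijective
    (fun p => (⟨p.1.1, hto p⟩ : ((C : Set G) \ (Subgroup.zpowers a : Set G) : Set G))) ⟨?_, ?_⟩),
    Nat.card_coe_set_eq, Set.ncard_sdiff E.zpowers_le, ← Nat.card_coe_set_eq,
    ← Nat.card_coe_set_eq, SetLike.coe_sort_coe, SetLike.coe_sort_coe, E.card_centralizer,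
    Nat.card_zpowers, E.ord_four]
  · rintro ⟨⟨p, q⟩, hp, hq, hpq⟩ ⟨⟨p', q'⟩, hp', hq', hpq'⟩ h
    obtain rfl : p = p' := congrArg Subtype.val h
    obtain rfl : q = q' := mul_left_cancel (hpq.trans hpq'.symm)
    rfl
  · rintro ⟨w, hw, hwz⟩
    obtain ⟨hw2, hwa⟩ := E.outside hw hwz
    have hw1 : w ≠ 1 := fun h => hwz (h ▸ one_mem (Subgroup.zpowers a))
    have hwc : w * c * w⁻¹ = c⁻¹ := by
      rcases hc with hca | hct
      · rw [hca]; exact hwa
      · rw [hct, inv_eq_of_mul_eq_one_right E.invol, mul_inv_eq_iff_eq_mul]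
        exact Subgroup.mem_centralizer_singleton_iff.mp hw
    refine ⟨⟨(w, w * c), E.isConj_of_invol hno2 hw2 hw1, E.isConj_of_invol hno2 ?_ ?_, ?_⟩, rfl⟩
    · calc w * c * (w * c) = (w * c * w⁻¹) * (w * w) * c := by group
        _ = 1 := by rw [hwc, hw2, mul_one, inv_mul_cancel]
    · intro h
      apply hwz
      change w ∈ Subgroup.zpowers a
      rw [show w = c⁻¹ from eq_inv_of_mul_eq_one_left h]
      exact inv_mem hcC
    · rw [← mul_assoc, hw2, one_mul]

theorem card_centralizer_a : Nat.card (Subgroup.centralizer ({a} : Set G)) = 4 := by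
  rw [E.centralizer_a, Nat.card_zpowers, E.ord_four]

/-- The values of a character at `a` and `t` are rational integers of the same parity. -/
theorem values {χ : G → ℂ} (hχ : Cfsg.IsCharacter G χ) :
    ∃ p q : ℤ, χ a = p ∧ χ t = q ∧ 2 ∣ p + q := by
  classical
  obtain ⟨s, -, hs, hk⟩ := IsCharacter.exists_roots hχ a
  rw [E.ord_four] at hs
  set roots : Finset ℂ := {1, -1, Complex.I, -Complex.I} with hroots
  have hsub : ∀ z ∈ s, z ∈ roots := by
    intro z hz
    have h4 : (z ^ 2) ^ 2 = 1 := by rw [← pow_mul]; exact hs z hz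
    simp only [hroots, Finset.mem_insert, Finset.mem_singleton]
    rcases mul_self_eq_one_iff.mp ((sq (z ^ 2)).symm.trans h4) with h | h
    · rcases mul_self_eq_one_iff.mp ((sq z).symm.trans h) with h' | h'
      · exact Or.inl h'
      · exact Or.inr (Or.inl h')
    · have hI : (z - Complex.I) * (z + Complex.I) = 0 := by
        linear_combination h - Complex.I_sq
      rcases mul_eq_zero.mp hI with h' | h'
      · exact Or.inr (Or.inr (Or.inl (sub_eq_zero.mp h')))
      · exact Or.inr (Or.inr (Or.inr (add_eq_zero_iff_eq_neg.mp h')))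
  have hval : ∀ k : ℕ, χ (a ^ k) = (s.count 1 : ℂ) + (s.count (-1) : ℂ) * (-1) ^ k +
      ((s.count Complex.I : ℂ) * Complex.I ^ k + (s.count (-Complex.I) : ℂ) * (-Complex.I) ^ k) := by
    intro k
    rw [hk k, Finset.sum_multiset_map_count]
    rw [Finset.sum_subset (s₂ := roots) (fun z hz => hsub z (Multiset.mem_toFinset.mp hz))
      (fun z _ hz => by rw [Multiset.count_eq_zero.mpr (by simpa using hz), zero_smul])]
    have h1 : (1 : ℂ) ≠ -1 := by norm_num
    have h2 : (1 : ℂ) ≠ Complex.I := fun h => by simpa using congrArg Complex.im h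
    have h3 : (1 : ℂ) ≠ -Complex.I := fun h => by simpa using congrArg Complex.im h
    have h4 : (-1 : ℂ) ≠ Complex.I := fun h => by simpa using congrArg Complex.im h
    have h5 : (-1 : ℂ) ≠ -Complex.I := fun h => by simpa using congrArg Complex.im h
    have h6 : Complex.I ≠ -Complex.I := fun h => by
      have h' := congrArg Complex.im h
      norm_num at h'
    rw [hroots, Finset.sum_insert (by simp [h1, h2, h3]), Finset.sum_insert (by simp [h4, h5]),
      Finset.sum_pair h6]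
    simp only [nsmul_eq_mul, one_pow, mul_one]
    ring
  have ha1 := hval 1
  have ha2 := hval 2
  have ha3 := hval 3
  have hinv : a ^ 3 = a⁻¹ := by
    rw [eq_inv_iff_mul_eq_one, ← pow_succ, show 3 + 1 = orderOf a by rw [E.ord_four],
      pow_orderOf_eq_one]
  rw [pow_one] at ha1
  rw [sq, E.sq_eq, neg_sq, Complex.I_sq, neg_sq, one_pow] at ha2
  rw [hinv, ← IsClassFunction.apply_eq_of_isConj (IsCharacter.isClassFunction hχ) E.isConj_inv,
    ha1, Complex.I_pow_three] at ha3
  norm_num at ha3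
  rw [show (-Complex.I) ^ 3 = Complex.I by linear_combination (-Complex.I) * Complex.I_sq] at ha3
  have hnn : (s.count Complex.I : ℂ) = (s.count (-Complex.I) : ℂ) := by
    have h : (2 * Complex.I) * ((s.count Complex.I : ℂ) - (s.count (-Complex.I) : ℂ)) = 0 := by
      linear_combination ha3
    rcases mul_eq_zero.mp h with h' | h'
    · simp at h'
    · exact sub_eq_zero.mp h'
  refine ⟨(s.count 1 : ℤ) - s.count (-1), (s.count 1 : ℤ) + s.count (-1) - 2 * s.count Complex.I,
    ?_, ?_, ⟨(s.count 1 : ℤ) - s.count Complex.I, by ring⟩⟩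
  · rw [ha1]; push_cast; linear_combination Complex.I * hnn
  · rw [ha2]; push_cast
    linear_combination hnn + (s.count (-Complex.I) : ℂ) * Complex.I_sq

/-- The arithmetic of the signed degrees and the two class multiplication constants. -/
theorem card_of_equations {x z w y : ℤ} (hx0 : x ≠ 0) (hz0 : z ≠ 0) (hw0 : w ≠ 0) (hy0 : y ≠ 0)
    (e1 : 1 + x + z + w = 0) (e2 : 1 + x - z - w + 2 * y = 0)
    (h1 : (4 : ℚ) * 64 = (Nat.card G : ℚ) * (1 + 1 / x + 1 / z + 1 / w))
    (h2 : (4 : ℚ) * 64 = (Nat.card G : ℚ) * (1 + 1 / x - 1 / z - 1 / w + 8 / y)) :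
    Nat.card G = 168 ∨ (Nat.card G = 360 ∧ x = 9 ∧ z = -5 ∧ w = -5 ∧ y = -10) := by
  obtain ⟨m, hm⟩ : ∃ m : ℕ, Nat.card G = 8 * m ∧ m % 2 = 1 := by
    refine ⟨(Subgroup.centralizer ({t} : Set G)).index, ?_, Nat.odd_iff.mp E.odd_index⟩
    rw [← E.card_centralizer, Subgroup.card_mul_index]
  have hxq : (x : ℚ) ≠ 0 := Int.cast_ne_zero.mpr hx0
  have hzq : (z : ℚ) ≠ 0 := Int.cast_ne_zero.mpr hz0
  have hwq : (w : ℚ) ≠ 0 := Int.cast_ne_zero.mpr hw0
  have hyq : (y : ℚ) ≠ 0 := Int.cast_ne_zero.mpr hy0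
  have hGq : (Nat.card G : ℚ) ≠ 0 := by exact_mod_cast Nat.card_pos.ne'
  have h3 : 1 + 1 / (x : ℚ) + 1 / z + 1 / w = 1 + 1 / x - 1 / z - 1 / w + 8 / y :=
    mul_left_cancel₀ hGq (h1.symm.trans h2)
  have h3' : 2 / (z : ℚ) + 2 / w = 8 / y := by linear_combination h3
  field_simp at h3'
  obtain rfl : y = z + w := by omega
  have hzw : z = w := by
    have h4 : ((z - w) ^ 2 : ℚ) = 0 := by
      push_cast at h3'
      linear_combination (1 / 2 : ℚ) * h3'
    exact_mod_cast sub_eq_zero.mp (sq_eq_zero_iff.mp h4)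
  subst hzw
  obtain rfl : x = -1 - 2 * z := by omega
  have h5 : (Nat.card G : ℤ) * (z + 1) ^ 2 = 128 * (z * (2 * z + 1)) := by
    have h6 : (((Nat.card G : ℤ) * (z + 1) ^ 2 : ℤ) : ℚ) = ((128 * (z * (2 * z + 1)) : ℤ) : ℚ) := by
      push_cast at h1 hxq ⊢
      field_simp at h1
      linear_combination (1 / 2 : ℚ) * h1
    exact_mod_cast h6
  have hcop : IsCoprime ((z + 1) ^ 2) (z * (2 * z + 1)) :=
    (IsCoprime.mul_right (⟨1, -1, by ring⟩ : IsCoprime (z + 1) z)
      (⟨2, -1, by ring⟩ : IsCoprime (z + 1) (2 * z + 1))).pow_left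
  have hdvd : (z + 1) ^ 2 ∣ 128 :=
    hcop.dvd_of_dvd_mul_right ⟨(Nat.card G : ℤ), by rw [← h5]; ring⟩
  have hle := Int.le_of_dvd (by norm_num) hdvd
  have hzlo : -12 ≤ z := by nlinarith
  have hzhi : z ≤ 10 := by nlinarith
  rw [hm.1] at h5 ⊢
  push_cast at h5
  interval_cases z <;> omega

/-- The order of the group is 168 or 360, and in the second case the non-trivial irreducible
characters not vanishing at `t` have degree 5, 9 or 10. -/
theorem card_and_degrees [Fintype G] (hno2 : ∀ H : Subgroup G, H.index ≠ 2) :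
    Nat.card G = 168 ∨ (Nat.card G = 360 ∧ ∀ χ ∈ irrFinset G, χ t ≠ 0 →
      χ = (fun _ => 1) ∨ χ 1 = 5 ∨ χ 1 = 9 ∨ χ 1 = 10) := by
  classical
  have hvals : ∀ χ : G → ℂ, ∃ p q d : ℤ, χ ∈ irrFinset G →
      χ a = p ∧ χ t = q ∧ χ 1 = d ∧ 2 ∣ p + q ∧ 0 < d := by
    intro χ
    by_cases hm : χ ∈ irrFinset G
    · have hχ := mem_irrFinset.mp hm
      obtain ⟨p, q, h1, h2, h3⟩ := E.values (IsIrrCharacter.isCharacter hχ)
      obtain ⟨d, hd⟩ := IsCharacter.exists_degree (IsIrrCharacter.isCharacter hχ)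
      refine ⟨p, q, d, fun _ => ⟨h1, h2, by rw [hd, Int.cast_natCast], h3, ?_⟩⟩
      refine Int.natCast_pos.mpr (Nat.pos_of_ne_zero fun h0 => ?_)
      exact IsIrrCharacter.apply_one_ne_zero hχ (by rw [hd, h0, Nat.cast_zero])
    · exact ⟨0, 0, 0, fun h => absurd h hm⟩
  choose p q d hv using hvals
  set triv : G → ℂ := fun _ => 1 with htriv
  have htm : triv ∈ irrFinset G := mem_irrFinset.mpr isIrrCharacter_one
  obtain ⟨hp1, hq1, hd1⟩ : p triv = 1 ∧ q triv = 1 ∧ d triv = 1 := by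
    obtain ⟨h1, h2, h3, -, -⟩ := hv triv htm
    simp only [htriv] at h1 h2 h3
    exact ⟨by exact_mod_cast h1.symm, by exact_mod_cast h2.symm, by exact_mod_cast h3.symm⟩
  have hta : ¬ IsConj t a := E.not_isConj
  have horth : ∀ (g h : G) (f f' : (G → ℂ) → ℤ), (∀ χ ∈ irrFinset G, χ g = f χ) →
      (∀ χ ∈ irrFinset G, χ h = f' χ) →
      ((∑ χ ∈ irrFinset G, f χ * f' χ : ℤ) : ℂ) =
        if IsConj g h then (Nat.card (Subgroup.centralizer ({g} : Set G)) : ℂ) else 0 := by
    intro g h f f' hf hf'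
    rw [← sum_irr_mul_conj g h]
    push_cast
    exact Finset.sum_congr rfl fun χ hχ => by rw [hf χ hχ, hf' χ hχ, map_intCast]
  have hpp : ∑ χ ∈ irrFinset G, p χ * p χ = 4 := by
    have h := horth a a p p (fun χ hχ => (hv χ hχ).1) (fun χ hχ => (hv χ hχ).1)
    rw [if_pos (IsConj.refl a), E.card_centralizer_a] at h
    exact_mod_cast h
  have hqq : ∑ χ ∈ irrFinset G, q χ * q χ = 8 := by
    have h := horth t t q q (fun χ hχ => (hv χ hχ).2.1) (fun χ hχ => (hv χ hχ).2.1)
    rw [if_pos (IsConj.refl t), E.card_centralizer] at h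
    exact_mod_cast h
  have hqp : ∑ χ ∈ irrFinset G, q χ * p χ = 0 := by
    have h := horth t a q p (fun χ hχ => (hv χ hχ).2.1) (fun χ hχ => (hv χ hχ).1)
    rw [if_neg hta] at h
    exact_mod_cast h
  have hdp : ∑ χ ∈ irrFinset G, d χ * p χ = 0 := by
    have h := horth 1 a d p (fun χ hχ => (hv χ hχ).2.2.1) (fun χ hχ => (hv χ hχ).1)
    rw [if_neg fun h => ?_] at h
    · exact_mod_cast h
    · have := E.ord_four
      rw [isConj_one_right.mp h, orderOf_one] at this
      omega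
  have hdq : ∑ χ ∈ irrFinset G, d χ * q χ = 0 := by
    have h := horth 1 t d q (fun χ hχ => (hv χ hχ).2.2.1) (fun χ hχ => (hv χ hχ).2.1)
    rw [if_neg fun h => E.ne_one (isConj_one_right.mp h)] at h
    exact_mod_cast h
  -- the nontrivial characters with nonzero values
  set I := (irrFinset G).erase triv with hI
  set P := I.filter fun χ => p χ ≠ 0 with hP
  set Y := I.filter fun χ => p χ = 0 ∧ q χ ≠ 0 with hY
  have hdisj : Disjoint P Y := by
    rw [hP, hY, Finset.disjoint_filter]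
    exact fun χ _ h1 h2 => h1 h2.1
  have hsplit : ∀ {M : Type} [AddCommMonoid M] (F : (G → ℂ) → M),
      (∀ χ ∈ I, p χ = 0 → q χ = 0 → F χ = 0) →
      ∑ χ ∈ irrFinset G, F χ = F triv + (∑ χ ∈ P, F χ + ∑ χ ∈ Y, F χ) := by
    intro M _ F hF
    rw [← Finset.add_sum_erase _ _ htm, ← Finset.sum_union hdisj]
    congr 1
    refine (Finset.sum_subset (fun χ hχ => ?_) fun χ hχ hn => hF χ hχ ?_ ?_).symm
    · rcases Finset.mem_union.mp hχ with h | h <;> exact (Finset.mem_filter.mp h).1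
    · by_contra h
      exact hn (Finset.mem_union_left _ (Finset.mem_filter.mpr ⟨hχ, h⟩))
    · by_contra h
      by_cases h' : p χ = 0
      · exact hn (Finset.mem_union_right _ (Finset.mem_filter.mpr ⟨hχ, h', h⟩))
      · exact hn (Finset.mem_union_left _ (Finset.mem_filter.mpr ⟨hχ, h'⟩))
  have hmemI : ∀ χ ∈ I, χ ∈ irrFinset G := fun χ hχ => Finset.mem_of_mem_erase hχ
  have hPY : ∀ χ ∈ Y, p χ = 0 := fun χ hχ => (Finset.mem_filter.mp hχ).2.1
  have hY4 : ∀ χ ∈ Y, 4 ≤ q χ * q χ := by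
    intro χ hχ
    obtain ⟨hm, hp0, hq0⟩ := Finset.mem_filter.mp hχ
    obtain ⟨k, hk⟩ := (hv χ (hmemI χ hm)).2.2.2.1
    rw [hp0, zero_add] at hk
    rw [hk]
    rcases (by omega : k ≤ -1 ∨ 1 ≤ k) with h | h <;> nlinarith
  have hodd : ∀ χ ∈ P, Odd (p χ) → Odd (q χ) := by
    intro χ hχ ho
    obtain ⟨k, hk⟩ := (hv χ (hmemI χ (Finset.mem_filter.mp hχ).1)).2.2.2.1
    obtain ⟨j, hj⟩ := ho
    exact ⟨k - j - 1, by omega⟩
  rw [hsplit _ (fun χ _ h _ => by rw [h, mul_zero]), hp1] at hpp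
  rw [Finset.sum_eq_zero (s := Y) fun χ hχ => by rw [hPY χ hχ, mul_zero], add_zero] at hpp
  have hp3 : ∑ χ ∈ P, p χ * p χ = 3 := by linarith
  have hpm : ∀ χ ∈ P, p χ = 1 ∨ p χ = -1 := by
    intro χ hχ
    have h1 := Finset.single_le_sum (fun ψ _ => mul_self_nonneg (p ψ)) hχ
    rw [hp3] at h1
    have h0 := (Finset.mem_filter.mp hχ).2
    have : -1 ≤ p χ ∧ p χ ≤ 1 := ⟨by nlinarith, by nlinarith⟩
    omega
  have hPcard : P.card = 3 := by
    rw [Finset.sum_congr rfl fun χ hχ => show p χ * p χ = 1 by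
      rcases hpm χ hχ with h | h <;> rw [h] <;> norm_num, Finset.sum_const, nsmul_one] at hp3
    exact_mod_cast hp3
  rw [hsplit _ (fun χ _ _ h => by rw [h, mul_zero]), hq1] at hqq
  have hPq : ∀ χ ∈ P, Odd (q χ) := fun χ hχ => hodd χ hχ (by
    rcases hpm χ hχ with h | h <;> rw [h]
    exacts [odd_one, odd_neg_one])
  have hqm : ∀ χ ∈ P, q χ = 1 ∨ q χ = -1 := by
    intro χ hχ
    have h0 : 0 ≤ ∑ χ ∈ Y, q χ * q χ := Finset.sum_nonneg fun ψ _ => mul_self_nonneg _
    have h1 := Finset.single_le_sum (fun ψ _ => mul_self_nonneg (q ψ)) hχ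
    obtain ⟨k, hk⟩ := hPq χ hχ
    have : -2 ≤ q χ ∧ q χ ≤ 2 := ⟨by nlinarith, by nlinarith⟩
    omega
  rw [Finset.sum_congr (s₁ := P) rfl fun χ hχ => show q χ * q χ = 1 by
    rcases hqm χ hχ with h | h <;> rw [h] <;> norm_num, Finset.sum_const, hPcard] at hqq
  have hY4' : ∑ χ ∈ Y, q χ * q χ = 4 := by
    simp only [nsmul_eq_mul, Nat.cast_ofNat] at hqq
    linarith
  obtain ⟨Z₀, hZ₀⟩ : ∃ Z₀, Y = {Z₀} := by
    rw [← Finset.card_eq_one]
    have h1 : Y.card • (4 : ℤ) ≤ ∑ χ ∈ Y, q χ * q χ := Finset.card_nsmul_le_sum _ _ _ hY4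
    rw [hY4', nsmul_eq_mul] at h1
    have h2 : Y.card ≠ 0 := fun h => by
      rw [Finset.card_eq_zero.mp h, Finset.sum_empty] at hY4'
      omega
    omega
  rw [hZ₀, Finset.sum_singleton] at hY4'
  obtain ⟨A, B, D, hAB, hAD, hBD, hPe⟩ := Finset.card_eq_three.mp hPcard
  have hsum : ∀ {M : Type} [AddCommMonoid M] (F : (G → ℂ) → M),
      (∀ χ ∈ I, p χ = 0 → q χ = 0 → F χ = 0) →
      ∑ χ ∈ irrFinset G, F χ = F triv + (F A + (F B + F D) + F Z₀) := by
    intro M _ F hF
    rw [hsplit F hF, hZ₀, Finset.sum_singleton, hPe, Finset.sum_insert (by simp [hAB, hAD]),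
      Finset.sum_pair hBD]
  have hin : A ∈ P ∧ B ∈ P ∧ D ∈ P ∧ Z₀ ∈ Y := by simp [hPe, hZ₀]
  obtain ⟨hAP, hBP, hDP, hZY⟩ := hin
  have hZp : p Z₀ = 0 := hPY Z₀ hZY
  have hZq : q Z₀ = 2 ∨ q Z₀ = -2 := by
    have : (q Z₀ - 2) * (q Z₀ + 2) = 0 := by linarith
    rcases mul_eq_zero.mp this with h | h <;> omega
  rw [hsum _ (fun χ _ h _ => by rw [h, mul_zero]), hp1, hd1, hZp] at hdp
  rw [hsum _ (fun χ _ _ h => by rw [h, mul_zero]), hq1, hd1] at hdq
  rw [hsum _ (fun χ _ h _ => by rw [h, mul_zero]), hp1, hq1, hZp] at hqp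
  -- the two counts
  have hcount : ∀ (c : G) (f : (G → ℂ) → ℤ), (c = a ∨ c = t) →
      (∀ χ ∈ irrFinset G, χ c = f χ) →
      (4 : ℚ) * 64 =
        (Nat.card G : ℚ) * ∑ χ ∈ irrFinset G, (q χ : ℚ) * q χ * f χ / d χ := by
    intro c f hc hf
    have h := card_class_products t t c
    rw [E.card_products hno2 hc] at h
    have hK : (Nat.card {x : G // IsConj t x} : ℂ) * 8 = (Nat.card G : ℂ) := by
      have h1 := card_conj_class_mul_card_centralizer t
      rw [E.card_centralizer] at h1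
      exact_mod_cast h1
    have hG0 : (Nat.card G : ℂ) ≠ 0 := by exact_mod_cast Nat.card_pos.ne'
    apply (Rat.cast_injective (α := ℂ))
    push_cast
    rw [Finset.sum_congr rfl fun χ hχ => by
      rw [← (hv χ hχ).2.1, ← (hv χ hχ).2.2.1,
        show ((f χ : ℤ) : ℂ) = conj (χ c) by rw [hf χ hχ, map_intCast]]]
    rw [← hK] at hG0 ⊢
    rw [← hK] at h
    push_cast at h
    field_simp at h
    simp only [← sq]
    linear_combination 8 * h
  have hA := hcount a p (Or.inl rfl) fun χ hχ => (hv χ hχ).1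
  have hT := hcount t q (Or.inr rfl) fun χ hχ => (hv χ hχ).2.1
  rw [hsum _ (fun χ _ h _ => by simp [h]), hp1, hq1, hd1, hZp] at hA
  rw [hsum _ (fun χ _ _ h => by simp [h]), hq1, hd1] at hT
  have hd0 : ∀ χ ∈ P ∪ Y, d χ ≠ 0 := fun χ hχ => ((hv χ (hmemI χ (by
    rcases Finset.mem_union.mp hχ with h | h <;> exact (Finset.mem_filter.mp h).1))).2.2.2.2).ne'
  have dA := hd0 A (Finset.mem_union_left _ hAP)
  have dB := hd0 B (Finset.mem_union_left _ hBP)
  have dD := hd0 D (Finset.mem_union_left _ hDP)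
  have dZ := hd0 Z₀ (Finset.mem_union_right _ hZY)
  -- signed degrees
  have hsgn : ∀ X ∈ P, ∃ σ : ℤ, (σ = 1 ∨ σ = -1) ∧ q X * p X = σ ∧
      d X * q X = σ * (d X * p X) ∧
      (q X : ℚ) * q X * p X / d X = 1 / ((d X * p X : ℤ) : ℚ) ∧
      (q X : ℚ) * q X * q X / d X = σ / ((d X * p X : ℤ) : ℚ) := by
    intro X hX
    rcases hpm X hX with h | h <;> rcases hqm X hX with h' | h' <;>
      refine ⟨q X * p X, by rw [h, h']; norm_num, rfl, by rw [h, h']; ring, ?_, ?_⟩ <;>
      rw [h, h'] <;> push_cast <;> ring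
  obtain ⟨sA, hsA, eA, eA1, eA2, eA3⟩ := hsgn A hAP
  obtain ⟨sB, hsB, eB, eB1, eB2, eB3⟩ := hsgn B hBP
  obtain ⟨sD, hsD, eD, eD1, eD2, eD3⟩ := hsgn D hDP
  obtain ⟨y, hy0, hy1, hy3⟩ : ∃ y : ℤ, y ≠ 0 ∧ d Z₀ * q Z₀ = 2 * y ∧
      (q Z₀ : ℚ) * q Z₀ * q Z₀ / d Z₀ = 8 / (y : ℚ) := by
    rcases hZq with h | h
    · exact ⟨d Z₀, dZ, by rw [h]; ring, by rw [h]; norm_num⟩
    · exact ⟨-d Z₀, neg_ne_zero.mpr dZ, by rw [h]; ring, by rw [h]; push_cast; ring⟩
  rw [eA2, eB2, eD2] at hA
  rw [eA3, eB3, eD3, hy3] at hT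
  rw [eA, eB, eD] at hqp
  rw [eA1, eB1, eD1, hy1] at hdq
  have hp0 : ∀ X ∈ P, p X ≠ 0 := fun X hX => (Finset.mem_filter.mp hX).2
  have xA := mul_ne_zero dA (hp0 A hAP)
  have xB := mul_ne_zero dB (hp0 B hBP)
  have xD := mul_ne_zero dD (hp0 D hDP)
  have conc := fun x z w y h1 h2 h3 h4 h5 h6 h7 h8 =>
    E.card_of_equations (x := x) (z := z) (w := w) (y := y) h1 h2 h3 h4 h5 h6 h7 h8
  have fin : ∀ X₁ X₂ X₃ : G → ℂ, P = {X₁, X₂, X₃} →
      (Nat.card G = 168 ∨ (Nat.card G = 360 ∧ d X₁ * p X₁ = 9 ∧ d X₂ * p X₂ = -5 ∧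
        d X₃ * p X₃ = -5 ∧ y = -10)) →
      Nat.card G = 168 ∨ (Nat.card G = 360 ∧ ∀ χ ∈ irrFinset G, χ t ≠ 0 →
        χ = (fun _ => 1) ∨ χ 1 = 5 ∨ χ 1 = 9 ∨ χ 1 = 10) := by
    intro X₁ X₂ X₃ hP3 hor
    rcases hor with h | ⟨h, e1, e2, e3, e4⟩
    · exact Or.inl h
    refine Or.inr ⟨h, fun χ hχ ht0 => ?_⟩
    obtain ⟨hva, hvt, hv1, -, hvd⟩ := hv χ hχ
    by_cases htr : χ = triv
    · exact Or.inl htr
    have hχI : χ ∈ I := Finset.mem_erase.mpr ⟨htr, hχ⟩
    have hq0 : q χ ≠ 0 := fun h0 => ht0 (by rw [hvt, h0, Int.cast_zero])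
    have hfin : ∀ k : ℕ, d χ = (k : ℤ) → χ 1 = (k : ℂ) := fun k hk => by
      rw [hv1, hk, Int.cast_natCast]
    refine Or.inr ?_
    by_cases hp0 : p χ = 0
    · have hmem : χ ∈ Y := Finset.mem_filter.mpr ⟨hχI, hp0, hq0⟩
      rw [hZ₀, Finset.mem_singleton] at hmem
      subst hmem
      refine Or.inr (Or.inr (hfin 10 ?_))
      rcases hZq with hq | hq <;> rw [hq, e4] at hy1 <;> omega
    · have hmem : χ ∈ P := Finset.mem_filter.mpr ⟨hχI, hp0⟩
      have hpχ := hpm χ hmem
      rw [hP3] at hmem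
      simp only [Finset.mem_insert, Finset.mem_singleton] at hmem
      rcases hmem with hm | hm | hm
      · refine Or.inr (Or.inl (hfin 9 ?_))
        rw [← hm] at e1
        rcases hpχ with hpe | hpe <;> rw [hpe] at e1 <;> omega
      · refine Or.inl (hfin 5 ?_)
        rw [← hm] at e2
        rcases hpχ with hpe | hpe <;> rw [hpe] at e2 <;> omega
      · refine Or.inl (hfin 5 ?_)
        rw [← hm] at e3
        rcases hpχ with hpe | hpe <;> rw [hpe] at e3 <;> omega
  rcases hsA with rfl | rfl <;> rcases hsB with rfl | rfl <;> rcases hsD with rfl | rfl <;>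
    (try omega)
  · exact fin A B D hPe (conc _ _ _ y xA xB xD hy0 (by linarith) (by linarith) (by linear_combination hA)
      (by push_cast at hT ⊢; linear_combination hT))
  · exact fin B A D (hPe.trans (Finset.insert_comm A B {D})) (conc _ _ _ y xB xA xD hy0 (by linarith) (by linarith) (by linear_combination hA)
      (by push_cast at hT ⊢; linear_combination hT))
  · exact fin D A B (hPe.trans (by ext χ; simp only [Finset.mem_insert, Finset.mem_singleton]; tauto))
      (conc _ _ _ y xD xA xB hy0 (by linarith) (by linarith) (by linear_combination hA)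
      (by push_cast at hT ⊢; linear_combination hT))

/-- The order of the group is 168 or 360. -/
theorem card_eq (hno2 : ∀ H : Subgroup G, H.index ≠ 2) :
    Nat.card G = 168 ∨ Nat.card G = 360 := by
  haveI := Fintype.ofFinite G
  exact (E.card_and_degrees hno2).imp id And.left

omit [Finite G] in
theorem b_ne_one : b ≠ 1 := fun h => E.b_notMem (h ▸ one_mem _)

/-- The group is simple. -/
theorem isSimpleGroup (hno2 : ∀ H : Subgroup G, H.index ≠ 2) : IsSimpleGroup G := by
  haveI : Fact (Nat.Prime 2) := ⟨Nat.prime_two⟩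
  obtain ⟨S, hS⟩ := E.exists_sylow
  haveI : Nontrivial G := ⟨⟨t, 1, E.ne_one⟩⟩
  refine ⟨fun N hN => ?_⟩
  have hev : ∀ u : G, u * u = 1 → u ≠ 1 → u ∈ N → N = ⊤ := by
    intro u hu hu1 huN
    have hall : ∀ v : G, v * v = 1 → v ≠ 1 → v ∈ N := fun v hv hv1 => by
      obtain ⟨g, hg⟩ := isConj_iff.mp
        ((E.isConj_of_invol hno2 hu hu1).symm.trans (E.isConj_of_invol hno2 hv hv1))
      exact hg ▸ hN.conj_mem u huN g
    have hab : ∀ c ∈ Subgroup.centralizer ({t} : Set G), c ∉ Subgroup.zpowers a → c ∈ N :=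
      fun c hc hcz =>
        hall c (E.outside hc hcz).1 fun h => hcz (h ▸ one_mem (Subgroup.zpowers a))
    have hbab : a * b ∈ Subgroup.centralizer ({t} : Set G) := mul_mem E.a_mem E.b_mem
    have habz : a * b ∉ Subgroup.zpowers a := fun h => E.b_notMem
      ((Subgroup.zpowers a).mul_mem_cancel_left (Subgroup.mem_zpowers a) |>.mp h)
    have haN : a ∈ N := by
      have := mul_mem (hab _ hbab habz) (inv_mem (hab b E.b_mem E.b_notMem))
      rwa [mul_inv_cancel_right] at this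
    have hCN : Subgroup.centralizer ({t} : Set G) ≤ N := fun c hc => by
      by_cases hcz : c ∈ Subgroup.zpowers a
      · exact (Subgroup.zpowers_le.mpr haN) hcz
      · exact hab c hc hcz
    have hnorm : Subgroup.normalizer (S : Set G) ≤ N := by
      intro g hg
      apply hCN
      rw [show (S : Set G) = (Subgroup.centralizer ({t} : Set G) : Set G) from congrArg SetLike.coe hS] at hg
      have hga := (Subgroup.mem_normalizer_iff.mp hg a).mp E.a_mem
      have hga4 : orderOf (g * a * g⁻¹) = 4 := by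
        rw [← MulAut.conj_apply, MulEquiv.orderOf_eq, E.ord_four]
      have hgaz : g * a * g⁻¹ ∈ Subgroup.zpowers a := by
        by_contra hcz
        have h := (E.outside hga hcz).1
        have := Nat.le_of_dvd two_pos (orderOf_dvd_of_pow_eq_one ((sq _).trans h))
        omega
      have hgt : g * t * g⁻¹ = t := by
        refine E.invol_eq ?_ ?_ fun h => E.ne_one (conj_eq_one_iff.mp h)
        · rw [← E.sq_eq, ← conj_mul]; exact mul_mem hgaz hgaz
        · rw [conj_mul, E.invol, mul_one, mul_inv_cancel]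
      rw [Subgroup.mem_centralizer_singleton_iff]
      exact mul_inv_eq_iff_eq_mul.mp hgt
    have htop := Sylow.normalizer_sup_eq_top' (P := S) (N := N) (hS ▸ hCN)
    rwa [sup_eq_right.mpr hnorm] at htop
  by_cases h2 : 2 ∣ Nat.card N
  · obtain ⟨u, hu⟩ := exists_prime_orderOf_dvd_card' 2 h2
    rw [← Subgroup.orderOf_coe] at hu
    refine Or.inr (hev u (by rw [← sq, ← hu, pow_orderOf_eq_one]) (fun h => ?_) u.2)
    rw [h, orderOf_one] at hu; omega
  · refine Or.inl ((Subgroup.eq_bot_iff_forall _).mpr fun n hn => ?_)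
    -- every involution of the centralizer inverts `N`
    have hinv : ∀ u : G, u * u = 1 → u ≠ 1 → ∀ n ∈ N, u * n * u⁻¹ = n⁻¹ := by
      have hfix : ∀ n ∈ N, t * n * t⁻¹ = n → n = 1 := by
        intro n hn hfx
        have h1 : orderOf n ∣ Nat.card N := by
          rw [← Subgroup.orderOf_mk n hn]; exact orderOf_dvd_natCard _
        have h8 : orderOf n ∣ 2 ^ 3 := by
          have hc : n ∈ Subgroup.centralizer ({t} : Set G) := by
            rw [Subgroup.mem_centralizer_singleton_iff]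
            exact (mul_inv_eq_iff_eq_mul.mp hfx).symm
          rw [← Subgroup.orderOf_mk n hc, show 2 ^ 3 = Nat.card (Subgroup.centralizer ({t} : Set G))
            by rw [E.card_centralizer]; norm_num]
          exact orderOf_dvd_natCard _
        exact orderOf_eq_one_iff.mp (Nat.eq_one_of_dvd_coprimes
          (Nat.Coprime.pow_left 3 (Nat.prime_two.coprime_iff_not_dvd.mpr h2)) h8 h1)
      intro u hu hu1 n hn
      obtain ⟨g, rfl⟩ := isConj_iff.mp (E.isConj_of_invol hno2 hu hu1)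
      set m := g⁻¹ * n * g
      have hm : m ∈ N := by simpa [m] using hN.conj_mem n hn g⁻¹
      have hmap : ∀ k : N, t * (k : G) * t⁻¹ ∈ N := fun k => hN.conj_mem k k.2 t
      let σ : N → N := fun k => ⟨(k : G)⁻¹ * (t * k * t⁻¹), mul_mem (inv_mem k.2) (hmap k)⟩
      have hinj : Function.Injective σ := by
        intro k l hkl
        have h := congrArg Subtype.val hkl
        simp only [σ] at h
        have h' : (l : G) * (k : G)⁻¹ = t * ((l : G) * (k : G)⁻¹) * t⁻¹ := by
          calc (l : G) * (k : G)⁻¹ = l * ((k : G)⁻¹ * (t * k * t⁻¹)) * (t * (k : G)⁻¹ * t⁻¹) := by group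
            _ = _ := by rw [h]; group
        have h'' := hfix _ (mul_mem l.2 (inv_mem k.2)) h'.symm
        exact Subtype.ext (mul_inv_eq_one.mp h'').symm
      obtain ⟨⟨k, hk⟩, hkm⟩ := (Finite.injective_iff_surjective.mp hinj) ⟨m, hm⟩
      have hkm' : k⁻¹ * (t * k * t⁻¹) = m := congrArg Subtype.val hkm
      have ht1 : t⁻¹ = t := inv_eq_of_mul_eq_one_right E.invol
      have htm : t * m * t⁻¹ = m⁻¹ := by
        calc t * m * t⁻¹ = (t * k⁻¹ * t⁻¹) * (t * t) * k * (t⁻¹ * t⁻¹) := by rw [← hkm']; group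
          _ = _ := by rw [← hkm', ht1, E.invol]; group; simp [ht1]
      calc g * t * g⁻¹ * n * (g * t * g⁻¹)⁻¹ = g * (t * m * t⁻¹) * g⁻¹ := by simp only [m]; group
        _ = n⁻¹ := by rw [htm]; simp only [m]; group
    have htb : t * b ≠ 1 := fun h => E.b_notMem (by
      rw [show b = t from ((eq_inv_of_mul_eq_one_right h).trans (inv_eq_of_mul_eq_one_right E.invol)),
        ← E.sq_eq]
      exact mul_mem (Subgroup.mem_zpowers a) (Subgroup.mem_zpowers a))
    have hcomm : t * b = b * t :=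
      (Subgroup.mem_centralizer_singleton_iff.mp E.b_mem).symm
    have htb2 : t * b * (t * b) = 1 := by
      calc t * b * (t * b) = t * (b * t) * b := by group
        _ = 1 := by rw [← hcomm, ← mul_assoc, E.invol, one_mul, E.b_sq]
    have h1 := hinv _ htb2 htb n hn
    have h2' : t * b * n * (t * b)⁻¹ = n := by
      calc t * b * n * (t * b)⁻¹ = t * (b * n * b⁻¹) * t⁻¹ := by group
        _ = n := by rw [hinv b E.b_sq E.b_ne_one n hn, hinv t E.invol E.ne_one _ (inv_mem hn), inv_inv]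
    have hnn : n * n = 1 := mul_eq_one_iff_eq_inv.mpr (h2'.symm.trans h1)
    have h3 : orderOf n ∣ Nat.card N := by
      rw [← Subgroup.orderOf_mk n hn]; exact orderOf_dvd_natCard _
    exact orderOf_eq_one_iff.mp (Nat.eq_one_of_dvd_coprimes
      (Nat.prime_two.coprime_iff_not_dvd.mpr h2) (orderOf_dvd_of_pow_eq_one ((sq n).trans hnn)) h3)

end EightData

end CfsgLib.InvChar
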