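import Cfsg.Agent.ZStar.Final
import Cfsg.Agent.Solvable.Basics
import Mathlib.GroupTheory.SemidirectProduct

/-!
Automorphisms of 2-power order fixing an abelian Sylow 2-subgroup pointwise, in a group without
non-trivial normal subgroups of odd order: they are inner, by elements of that Sylow subgroup.
-/

set_option autoImplicit false
set_option linter.unusedSectionVars false
set_option linter.style.haveILetI false

namespace CfsgLib.AbelianSylowAut

open Subgroup

universe u

variable {G : Type u} [Group G] [Finite G]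

/-- A simple group of even order has no odd core. -/
theorem no_odd_normal_of_simple [IsSimpleGroup G] (h2 : 2 ∣ Nat.card G) :
    ∀ N : Subgroup G, N.Normal → Odd (Nat.card N) → N = ⊥ := by
  intro N hN hodd
  rcases IsSimpleGroup.eq_bot_or_eq_top_of_normal N hN with h | h
  · exact h
  · subst h
    rw [card_top] at hodd
    exact absurd (even_iff_two_dvd.2 h2) (Nat.not_even_iff_odd.2 hodd)

/-- The semidirect product of `G` by `⟨ψ⟩`. -/
abbrev Ext (ψ : MulAut G) := G ⋊[(zpowers ψ).subtype] ↥(zpowers ψ)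

theorem fixed_of_mem_zpowers {ψ b : MulAut G} (hb : b ∈ zpowers ψ) {x : G} (hx : ψ x = x) :
    b x = x := by
  have h : zpowers ψ ≤ MulAction.stabilizer (MulAut G) x :=
    zpowers_le.2 (MulAction.mem_stabilizer_iff.2 hx)
  exact MulAction.mem_stabilizer_iff.1 (h hb)

/-- The subgroup `S × ⟨ψ⟩` of the extension. -/
def extend (S : Subgroup G) (ψ : MulAut G) (hfix : ∀ s ∈ S, ψ s = s) : Subgroup (Ext ψ) where
  carrier := {h | h.left ∈ S}
  one_mem' := S.one_mem
  mul_mem' {a b} (ha : a.left ∈ S) (hb : b.left ∈ S) := by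
    show (a * b).left ∈ S
    rw [SemidirectProduct.mul_left]
    exact S.mul_mem ha (by
      show ((a.right : MulAut G)) b.left ∈ S
      rw [fixed_of_mem_zpowers a.right.2 (hfix _ hb)]
      exact hb)
  inv_mem' {a} (ha : a.left ∈ S) := by
    show (a⁻¹).left ∈ S
    rw [SemidirectProduct.inv_left]
    show ((a.right⁻¹ : ↥(zpowers ψ)) : MulAut G) a.left⁻¹ ∈ S
    rw [fixed_of_mem_zpowers (a.right⁻¹).2 (hfix _ (S.inv_mem ha))]
    exact S.inv_mem ha

/-- An automorphism of 2-power order centralizing an abelian Sylow 2-subgroup and those elements of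
its normalizer that it moves only inside it is trivial. -/
theorem eq_one_of_isolated (hO : ∀ N : Subgroup G, N.Normal → Odd (Nat.card N) → N = ⊥)
    (S : Sylow 2 G) (hab : IsMulCommutative ↥(S : Subgroup G)) (ψ : MulAut G) {k : ℕ}
    (hψ : ψ ^ 2 ^ k = 1) (hfix : ∀ s ∈ (S : Subgroup G), ψ s = s)
    (hN : ∀ g ∈ normalizer ((S : Subgroup G) : Set G), g⁻¹ * ψ g ∈ (S : Subgroup G) → ψ g = g) :
    ψ = 1 := by
  classical
  haveI : Fact (Nat.Prime 2) := ⟨Nat.prime_two⟩
  haveI : Finite (MulAut G) := Finite.of_injective (fun f : MulAut G => (f : G → G)) DFunLike.coe_injective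
  by_contra hne
  obtain ⟨i, -, hi⟩ := (Nat.dvd_prime_pow Nat.prime_two).1 (orderOf_dvd_of_pow_eq_one hψ)
  rcases i with _ | i
  · exact hne (orderOf_eq_one_iff.1 (by simpa using hi))
  -- the involution of `⟨ψ⟩`
  set a : ↥(zpowers ψ) := ⟨ψ ^ 2 ^ i, pow_mem (mem_zpowers ψ) _⟩ with hadef
  have hao : orderOf a = 2 := by
    rw [hadef, ← Subgroup.orderOf_coe]
    show orderOf (ψ ^ 2 ^ i) = 2
    rw [orderOf_pow, hi, pow_succ, Nat.gcd_mul_right_left, Nat.mul_div_cancel_left _ (by positivity)]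
  have hcomm : ∀ x y : G, x ∈ (S : Subgroup G) → y ∈ (S : Subgroup G) → x * y = y * x := fun x y hx hy => by
    haveI := hab
    exact congrArg Subtype.val (mul_comm' (⟨x, hx⟩ : ↥(S : Subgroup G)) ⟨y, hy⟩)
  set P := extend (S : Subgroup G) ψ hfix with hP
  have hPc : Nat.card P = Nat.card (S : Subgroup G) * Nat.card ↥(zpowers ψ) := by
    rw [← Nat.card_prod]
    exact Nat.card_congr
      { toFun := fun h => (⟨(h : Ext ψ).left, h.2⟩, (h : Ext ψ).right)
        invFun := fun q => ⟨⟨q.1, q.2⟩, q.1.2⟩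
        left_inv := fun _ => rfl
        right_inv := fun _ => rfl }
  have hPp : IsPGroup 2 P := by
    obtain ⟨n, hn⟩ := IsPGroup.iff_card.1 S.isPGroup'
    refine IsPGroup.of_card (n := n + (i + 1)) ?_
    rw [hPc, Nat.card_zpowers, hi, hn, ← pow_add]
  haveI : Finite (Ext ψ) := Finite.of_equiv _ SemidirectProduct.equivProd.symm
  have hPi : ¬ 2 ∣ P.index := by
    have h1 : (S : Subgroup G).index = P.index := by
      have h2 := P.card_mul_index
      rw [SemidirectProduct.card, hPc, ← (S : Subgroup G).card_mul_index] at h2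
      have h3 : Nat.card (S : Subgroup G) * Nat.card ↥(zpowers ψ) * P.index =
          Nat.card (S : Subgroup G) * Nat.card ↥(zpowers ψ) * (S : Subgroup G).index := by
        rw [h2]; ring
      exact (Nat.eq_of_mul_eq_mul_left (Nat.mul_pos Nat.card_pos Nat.card_pos) h3).symm
    rw [← h1]
    exact S.not_dvd_index
  let PS : Sylow 2 (Ext ψ) := hPp.toSylow hPi
  have hPSmem : ∀ h : Ext ψ, h ∈ (PS : Subgroup (Ext ψ)) ↔ h.left ∈ (S : Subgroup G) := fun _ => Iff.rfl
  haveI : IsMulCommutative (PS : Subgroup (Ext ψ)) := by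
    refine ⟨⟨fun x y => Subtype.ext ?_⟩⟩
    apply SemidirectProduct.ext
    · show x.1.left * (x.1.right : MulAut G) y.1.left = y.1.left * (y.1.right : MulAut G) x.1.left
      rw [fixed_of_mem_zpowers x.1.right.2 (hfix _ y.2), fixed_of_mem_zpowers y.1.right.2 (hfix _ x.2)]
      exact hcomm _ _ x.2 y.2
    · show x.1.right * y.1.right = y.1.right * x.1.right
      obtain ⟨m, hm⟩ := mem_zpowers_iff.1 x.1.right.2
      obtain ⟨n, hn⟩ := mem_zpowers_iff.1 y.1.right.2
      exact Subtype.ext (by rw [Subgroup.coe_mul, Subgroup.coe_mul, ← hm, ← hn, ← zpow_add, ← zpow_add, add_comm])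
  set x : Ext ψ := SemidirectProduct.inr a with hx
  have hxo : orderOf x = 2 := by
    rw [hx, orderOf_injective _ SemidirectProduct.inr_injective, hao]
  have hxP : x ∈ (PS : Subgroup (Ext ψ)) := (hPSmem x).2 ((S : Subgroup G).one_mem)
  have haψ : ∀ g : G, ψ g = g → (a : MulAut G) g = g := fun g hg => fixed_of_mem_zpowers a.2 hg
  have hiso : ∀ h : Ext ψ, h * x * h⁻¹ ∈ (PS : Subgroup (Ext ψ)) → h * x * h⁻¹ = x := by
    intro h hh
    obtain ⟨n, hn, hne'⟩ := PS.conj_eq_normalizer_conj_of_mem x h⁻¹ hxP (by rwa [inv_inv])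
    rw [inv_inv] at hne'
    rw [hne']
    have hbx : ∀ b : ↥(zpowers ψ), SemidirectProduct.inr b * x = x * SemidirectProduct.inr b := fun b => by
      rw [hx, ← map_mul, ← map_mul]
      congr 1
      obtain ⟨m, hm⟩ := mem_zpowers_iff.1 b.2
      obtain ⟨l, hl⟩ := mem_zpowers_iff.1 a.2
      exact Subtype.ext (by rw [Subgroup.coe_mul, Subgroup.coe_mul, ← hm, ← hl, ← zpow_add, ← zpow_add, add_comm])
    set g := (n⁻¹).left with hg
    set b := (n⁻¹).right with hb
    have hnb : n⁻¹ = SemidirectProduct.inl g * SemidirectProduct.inr b :=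
      (SemidirectProduct.inl_left_mul_inr_right _).symm
    have hbP : SemidirectProduct.inr b ∈ (PS : Subgroup (Ext ψ)) := (hPSmem _).2 ((S : Subgroup G).one_mem)
    have hgN : (SemidirectProduct.inl g : Ext ψ) ∈ normalizer ((PS : Subgroup (Ext ψ)) : Set (Ext ψ)) := by
      have h1 := mul_mem (inv_mem hn) (inv_mem (le_normalizer hbP))
      rwa [hnb, mul_inv_cancel_right] at h1
    have hconj : ∀ y ∈ (PS : Subgroup (Ext ψ)), SemidirectProduct.inl g * y * (SemidirectProduct.inl g)⁻¹ ∈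
        (PS : Subgroup (Ext ψ)) := fun y hy => (mem_normalizer_iff.1 hgN y).1 hy
    have hgS : g ∈ normalizer ((S : Subgroup G) : Set G) := by
      refine mem_normalizer_iff.2 fun y => ?_
      have h1 := mem_normalizer_iff.1 hgN (SemidirectProduct.inl y)
      rwa [← map_mul, ← map_inv, ← map_mul, hPSmem, hPSmem, SemidirectProduct.left_inl, SemidirectProduct.left_inl] at h1
    have hψg : ψ g = g := by
      have h1 := hconj (SemidirectProduct.inr ⟨ψ, mem_zpowers ψ⟩) ((hPSmem _).2 ((S : Subgroup G).one_mem))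
      rw [← map_inv, hPSmem] at h1
      simp only [SemidirectProduct.mul_left, SemidirectProduct.left_inl, SemidirectProduct.left_inr,
        SemidirectProduct.mul_right, SemidirectProduct.right_inl, SemidirectProduct.right_inr, map_one, mul_one, one_mul] at h1
      change g * ψ g⁻¹ ∈ (S : Subgroup G) at h1
      have h2 := hN g⁻¹ (inv_mem hgS) (by rwa [inv_inv])
      rwa [map_inv, inv_inj] at h2
    have hgx : SemidirectProduct.inl g * x = x * SemidirectProduct.inl g := by
      have h1 : SemidirectProduct.inr a * SemidirectProduct.inl g * (SemidirectProduct.inr a)⁻¹ = (SemidirectProduct.inl g : Ext ψ) := by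
        rw [← map_inv SemidirectProduct.inr, ← SemidirectProduct.inl_aut]
        exact congrArg _ (haψ g hψg)
      exact (mul_inv_eq_iff_eq_mul.1 h1).symm
    rw [show n⁻¹ * x = x * n⁻¹ by rw [hnb, mul_assoc, hbx b, ← mul_assoc, hgx, mul_assoc]]
    rw [inv_mul_cancel_right]
  obtain ⟨N, hNn, hNodd, hNc⟩ := CfsgLib.ZStar.zstar_of_sylow PS hxo hiso
  have hcom : N.comap (SemidirectProduct.inl : G →* Ext ψ) = ⊥ := by
    refine hO _ (hNn.comap _) ?_
    refine hNodd.of_dvd_nat ?_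
    rw [← card_map_of_injective (K := N.comap (SemidirectProduct.inl : G →* Ext ψ)) (f := (SemidirectProduct.inl : G →* Ext ψ)) SemidirectProduct.inl_injective]
    exact card_dvd_of_le (map_comap_le _ _)
  apply hne
  have ha1 : a = 1 := by
    refine Subtype.ext (MulEquiv.ext fun g => ?_)
    show (a : MulAut G) g = g
    have h1 := hNc (SemidirectProduct.inl g)
    rw [hx, ← map_inv SemidirectProduct.inr, ← SemidirectProduct.inl_aut, ← map_inv SemidirectProduct.inl,
      ← map_mul] at h1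
    have h2 : (a : MulAut G) g * g⁻¹ ∈ N.comap (SemidirectProduct.inl : G →* Ext ψ) := h1
    rw [hcom, mem_bot, mul_inv_eq_one] at h2
    exact h2
  rw [ha1, orderOf_one] at hao
  omega

/-- An automorphism of 2-power order fixing an abelian Sylow 2-subgroup `S` pointwise is the
conjugation by an element of `S`, when `O(G) = 1`. -/
theorem exists_conj_of_fixes (hO : ∀ N : Subgroup G, N.Normal → Odd (Nat.card N) → N = ⊥)
    (S : Sylow 2 G) (hab : IsMulCommutative ↥(S : Subgroup G)) (φ : MulAut G) {k : ℕ}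
    (hφ : φ ^ 2 ^ k = 1) (hfix : ∀ s ∈ (S : Subgroup G), φ s = s) :
    ∃ s ∈ (S : Subgroup G), ∀ x : G, φ x = s * x * s⁻¹ := by
  classical
  haveI : Fact (Nat.Prime 2) := ⟨Nat.prime_two⟩
  have hcomm : ∀ x y : G, x ∈ (S : Subgroup G) → y ∈ (S : Subgroup G) → x * y = y * x := fun x y hx hy => by
    haveI := hab
    exact congrArg Subtype.val (mul_comm' (⟨x, hx⟩ : ↥(S : Subgroup G)) ⟨y, hy⟩)
  -- the elements of `N(S)` moved only inside `S`
  let c : G → G := fun g => g⁻¹ * φ g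
  have hcm : ∀ g h : G, c (g * h) = h⁻¹ * c g * h * c h := fun g h => by
    simp only [c, map_mul]; group
  have hnS : ∀ {h s : G}, h ∈ normalizer ((S : Subgroup G) : Set G) → s ∈ (S : Subgroup G) →
      h⁻¹ * s * h ∈ (S : Subgroup G) := fun {h s} hh hs => by
    have := (mem_normalizer_iff.1 ((inv_mem hh : h⁻¹ ∈ normalizer ((S : Subgroup G) : Set G))) s).1 hs
    rwa [inv_inv] at this
  let N₀ : Subgroup G :=
    { carrier := {g | g ∈ normalizer ((S : Subgroup G) : Set G) ∧ c g ∈ (S : Subgroup G)}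
      one_mem' := ⟨one_mem _, by simp [c]⟩
      mul_mem' := fun {a b} ha hb => ⟨mul_mem ha.1 hb.1, by
        rw [hcm]; exact (S : Subgroup G).mul_mem (hnS hb.1 ha.2) hb.2⟩
      inv_mem' := fun {a} ha => ⟨inv_mem ha.1, by
        have h1 : c a⁻¹ = a * (c a)⁻¹ * a⁻¹ := by simp only [c, map_inv]; group
        rw [h1]
        exact (mem_normalizer_iff.1 ha.1 _).1 ((S : Subgroup G).inv_mem ha.2)⟩ }
  have hN₀ : ∀ g : G, g ∈ N₀ ↔ g ∈ normalizer ((S : Subgroup G) : Set G) ∧ c g ∈ (S : Subgroup G) :=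
    fun _ => Iff.rfl
  have hcS : ∀ s ∈ (S : Subgroup G), c s = 1 := fun s hs => by
    simp only [c]; rw [hfix s hs, inv_mul_cancel]
  have hSN : (S : Subgroup G) ≤ N₀ := fun s hs =>
    (hN₀ s).2 ⟨le_normalizer hs, by rw [hcS s hs]; exact (S : Subgroup G).one_mem⟩
  set T := (S : Subgroup G).subgroupOf N₀ with hT
  haveI hTn : T.Normal := (normal_subgroupOf_iff_le_normalizer hSN).2 fun g hg => ((hN₀ g).1 hg).1
  set m := T.index with hm
  have hm2 : ¬ 2 ∣ m := fun h => S.not_dvd_index (h.trans (relIndex_dvd_index_of_le hSN))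
  -- `c` is constant on the cosets of `S`
  have hcoset : ∀ g : ↥N₀, ∀ t : ↥T, c ((g : G) * ((t : ↥N₀) : G)) = c (g : G) := fun g t => by
    have ht : ((t : ↥N₀) : G) ∈ (S : Subgroup G) := mem_subgroupOf.1 t.2
    rw [hcm, hcS _ ht, mul_one]
    rw [mul_assoc, hcomm _ _ ((hN₀ _).1 g.2).2 ht, inv_mul_cancel_left]
  letI : CommGroup ↥(S : Subgroup G) :=
    { (inferInstance : Group ↥(S : Subgroup G)) with
      mul_comm := fun x y => Subtype.ext (hcomm _ _ x.2 y.2) }
  let cS : ↥N₀ ⧸ T → ↥(S : Subgroup G) := fun q => ⟨c ((q.out : ↥N₀) : G), ((hN₀ _).1 q.out.2).2⟩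
  have hcq : ∀ g : ↥N₀, (cS (g : ↥N₀ ⧸ T) : G) = c (g : G) := fun g => by
    obtain ⟨t, ht⟩ := QuotientGroup.mk_out_eq_mul T g
    show c (((g : ↥N₀ ⧸ T).out : ↥N₀) : G) = _
    rw [ht, Subgroup.coe_mul, hcoset]
  haveI : Fintype (↥N₀ ⧸ T) := Fintype.ofFinite _
  set P₀ : ↥(S : Subgroup G) := ∏ q, cS q with hP₀
  have key : ∀ h : ↥N₀, (c (h : G)) ^ m = ((h : G)⁻¹ * (P₀ : G) * (h : G))⁻¹ * (P₀ : G) := by
    intro h
    let θ : ↥(S : Subgroup G) →* ↥(S : Subgroup G) :=
      { toFun := fun x => ⟨(h : G)⁻¹ * (x : G) * (h : G), hnS ((hN₀ _).1 h.2).1 x.2⟩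
        map_one' := Subtype.ext (by simp)
        map_mul' := fun x y => Subtype.ext (by simp [mul_assoc]) }
    let ch : ↥(S : Subgroup G) := ⟨c (h : G), ((hN₀ _).1 h.2).2⟩
    have h1 : ∀ q : ↥N₀ ⧸ T, cS (q * (h : ↥N₀ ⧸ T)) = θ (cS q) * ch := by
      intro q
      obtain ⟨g, rfl⟩ := QuotientGroup.mk_surjective q
      refine Subtype.ext ?_
      rw [← QuotientGroup.mk_mul, hcq]
      show c ((g * h : ↥N₀) : G) = (h : G)⁻¹ * (cS (g : ↥N₀ ⧸ T) : G) * (h : G) * c (h : G)
      rw [hcq, Subgroup.coe_mul, hcm]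
    have h2 : P₀ = θ P₀ * ch ^ m := by
      conv_lhs => rw [hP₀, ← Equiv.prod_comp (Equiv.mulRight (h : ↥N₀ ⧸ T)) cS]
      simp only [Equiv.coe_mulRight, h1]
      rw [Finset.prod_mul_distrib, ← map_prod, Finset.prod_const, Finset.card_univ,
        ← Nat.card_eq_fintype_card]
      rfl
    have h3 : ch ^ m = (θ P₀)⁻¹ * P₀ := eq_inv_mul_of_mul_eq h2.symm
    exact congrArg Subtype.val h3
  -- invert `m` modulo `|S|`
  obtain ⟨e, he⟩ : ∃ e : ℕ, ∀ x ∈ (S : Subgroup G), (x ^ m) ^ e = x := by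
    obtain ⟨n, hn⟩ := IsPGroup.iff_card.1 S.isPGroup'
    have hco : m.Coprime (2 ^ n) :=
      Nat.Coprime.pow_right n ((Nat.prime_two.coprime_iff_not_dvd.2 hm2).symm)
    rcases Nat.eq_zero_or_pos n with rfl | hn0
    · refine ⟨0, fun x hx => ?_⟩
      rw [pow_zero] at hn ⊢
      rw [eq_bot_of_card_eq _ hn, mem_bot] at hx
      exact hx.symm
    obtain ⟨e, he⟩ := Nat.exists_mul_mod_eq_one_of_coprime hco (Nat.one_lt_two_pow hn0.ne')
    refine ⟨e, fun x hx => ?_⟩
    have hxn : x ^ 2 ^ n = 1 := by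
      have := Subgroup.orderOf_dvd_natCard _ hx
      rw [hn] at this
      exact orderOf_dvd_iff_pow_eq_one.1 this
    rw [← pow_mul, ← Nat.mod_add_div (m * e) (2 ^ n), he.2, pow_add, pow_one, pow_mul, hxn, one_pow, mul_one]
  set s : G := (P₀ : G) ^ e with hs
  have hsS : s ∈ (S : Subgroup G) := (S : Subgroup G).pow_mem P₀.2 e
  have hcs : ∀ h ∈ N₀, c h = (h⁻¹ * s * h)⁻¹ * s := by
    intro h hh
    rw [← he _ ((hN₀ _).1 hh).2, key ⟨h, hh⟩, Commute.mul_pow, inv_pow, show (h⁻¹ * (P₀ : G) * h) ^ e = h⁻¹ * (P₀ : G) ^ e * h by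
      simpa using conj_pow (a := h⁻¹) (b := (P₀ : G)) (i := e), ← hs]
    exact hcomm _ _ ((S : Subgroup G).inv_mem (hnS ((hN₀ _).1 hh).1 P₀.2)) P₀.2
  -- the corrected automorphism
  have hφs : φ s = s := hfix s hsS
  set ψ : MulAut G := φ * MulAut.conj s with hψdef
  have hψ_apply : ∀ x, ψ x = s * φ x * s⁻¹ := fun x => by
    rw [hψdef, MulAut.mul_apply, MulAut.conj_apply, map_mul, map_mul, map_inv, hφs]
  have hcom2 : Commute φ (MulAut.conj s) := MulEquiv.ext fun x => by
    rw [MulAut.mul_apply, MulAut.mul_apply, MulAut.conj_apply, MulAut.conj_apply, map_mul, map_mul, map_inv, hφs]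
  obtain ⟨j, hj⟩ := S.isPGroup' ⟨s, hsS⟩
  have hsj : s ^ 2 ^ j = 1 := congrArg Subtype.val hj
  have hψ : ψ ^ 2 ^ (k + j) = 1 := by
    rw [hψdef, hcom2.mul_pow, pow_add, pow_mul, hφ, one_pow, one_mul, ← map_pow,
      mul_comm, pow_mul, hsj, one_pow, map_one]
  have hψfix : ∀ x ∈ (S : Subgroup G), ψ x = x := fun x hx => by
    rw [hψ_apply, hfix x hx, hcomm s x hsS hx, mul_inv_cancel_right]
  have hψ1 := eq_one_of_isolated hO S hab ψ hψ hψfix fun g hgN hg => by
    have hgc : c g ∈ (S : Subgroup G) := by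
      have h1 : c g = (g⁻¹ * s⁻¹ * g) * (g⁻¹ * ψ g) * s := by
        rw [hψ_apply]; simp only [c]; group
      rw [h1]
      exact (S : Subgroup G).mul_mem ((S : Subgroup G).mul_mem (hnS hgN ((S : Subgroup G).inv_mem hsS)) hg) hsS
    have h2 := hcs g ((hN₀ g).2 ⟨hgN, hgc⟩)
    rw [hψ_apply, show φ g = g * c g by simp only [c, mul_inv_cancel_left], h2]
    group
  refine ⟨s⁻¹, (S : Subgroup G).inv_mem hsS, fun x => ?_⟩
  have h1 := congrArg (fun f : MulAut G => f x) hψ1
  simp only [MulAut.one_apply] at h1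
  rw [hψ_apply] at h1
  calc φ x = s⁻¹ * (s * φ x * s⁻¹) * s := by group
    _ = s⁻¹ * x * s⁻¹⁻¹ := by rw [h1, inv_inv]

end CfsgLib.AbelianSylowAut
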