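import Cfsg.Agent.Transfer.Basic
import Cfsg.Agent.Solvable.Basics

/-!
Perfect central extensions by 2-groups of a group whose abelian Sylow 2-subgroup is
`⟨t⟩ × V`, with `V` two-generated: there are none when the fusion is rich enough.
-/

set_option autoImplicit false
set_option linter.unusedSectionVars false
set_option linter.style.haveILetI false

namespace CfsgLib.AbelianSylowCover

open Subgroup
open scoped commutatorElement

universe u v

variable {G : Type u} [Group G] [Finite G] {L : Type v} [Group L] [Finite L]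

/-- Commutators with a fixed element only see the other element modulo the centre. -/
theorem commute_of_mem_map {π : L →* G} (hker : π.ker ≤ center L) {H : Subgroup L} {a b : L}
    (hH : H ≤ centralizer ({a} : Set L)) (hb : π b ∈ H.map π) : a * b = b * a := by
  obtain ⟨c, hc, hcb⟩ := hb
  have hz : c⁻¹ * b ∈ π.ker := by
    rw [MonoidHom.mem_ker, map_mul, map_inv, hcb, inv_mul_cancel]
  have h1 : Commute a c := (mem_centralizer_singleton_iff.1 (hH hc)).symm
  have h2 : Commute a (c⁻¹ * b) := mem_center_iff.1 (hker hz) a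
  have := h1.mul_right h2
  rwa [mul_inv_cancel_left] at this

theorem ker_eq_bot (π : L →* G) (hπ : Function.Surjective π) (hker : π.ker ≤ center L)
    (hZ : IsPGroup 2 π.ker) (hperf : commutator L = ⊤)
    (S : Sylow 2 G) (hab : IsMulCommutative ↥(S : Subgroup G))
    (t : G) (htS : t ∈ (S : Subgroup G)) (V : Subgroup G) (hVS : V ≤ (S : Subgroup G))
    (hS : (S : Subgroup G) ≤ zpowers t ⊔ V)
    (hgen : V ≤ closure {x : G | ∃ v ∈ (S : Subgroup G), ∃ n : G,
      n * t = t * n ∧ n * v * n⁻¹ ∈ (S : Subgroup G) ∧ x = v * (n * v * n⁻¹)⁻¹})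
    (hmove : ∃ n ∈ normalizer ((S : Subgroup G) : Set G), n * t * n⁻¹ ∉ zpowers t)
    (hV : ∀ v ∈ V, v ≠ 1 → ∃ w ∈ V, V ≤ closure {v, w}) : π.ker = ⊥ := by
  haveI : Fact (Nat.Prime 2) := ⟨Nat.prime_two⟩
  set X := (S : Subgroup G).comap π with hX
  have hXp : IsPGroup 2 X := S.isPGroup'.comap_of_ker_isPGroup π hZ
  have hXi : ¬ 2 ∣ X.index := by
    rw [hX, index_comap_of_surjective _ hπ]
    exact S.not_dvd_index
  let XS : Sylow 2 L := hXp.toSylow hXi
  have hmemX : ∀ x, x ∈ X ↔ π x ∈ (S : Subgroup G) := fun _ => Iff.rfl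
  have hS2 : ∀ {x y : G}, x ∈ (S : Subgroup G) → y ∈ (S : Subgroup G) → x * y = y * x := fun hx hy => by
    haveI := hab
    exact congrArg Subtype.val (mul_comm' (⟨_, hx⟩ : ↥(S : Subgroup G)) ⟨_, hy⟩)
  have hcom : ∀ {x y : L}, x ∈ X → y ∈ X → ⁅x, y⁆ ∈ center L := fun {x y} hx hy => hker (by
    rw [MonoidHom.mem_ker, map_commutatorElement, commutatorElement_eq_one_iff_mul_comm]
    exact hS2 hx hy)
  obtain ⟨a, ha⟩ := hπ t
  have haX : a ∈ X := (hmemX a).2 (ha ▸ htS)
  set C := X ⊓ centralizer ({a} : Set L) with hC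
  -- `a` commutes with the lifts of `V`
  have hVC : V ≤ C.map π := by
    refine hgen.trans ((closure_le _).2 ?_)
    rintro x ⟨v, hv, n, hnt, hnv, rfl⟩
    obtain ⟨n', hn'⟩ := hπ n
    obtain ⟨b, hb⟩ := hπ v
    have hbX : b ∈ X := (hmemX b).2 (hb ▸ hv)
    have hb'X : n' * b * n'⁻¹ ∈ X := (hmemX _).2 (by rwa [map_mul, map_mul, map_inv, hn', hb])
    refine ⟨b * (n' * b * n'⁻¹)⁻¹, ⟨mul_mem hbX (X.inv_mem hb'X), ?_⟩,
      by rw [map_mul, map_inv, map_mul, map_mul, map_inv, hn', hb]⟩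
    have hz : a⁻¹ * (n' * a * n'⁻¹) ∈ center L := hker (by
      rw [MonoidHom.mem_ker, map_mul, map_mul, map_mul, map_inv, map_inv, hn', ha, hnt,
        mul_inv_cancel_right, inv_mul_cancel])
    set z := a⁻¹ * (n' * a * n'⁻¹)
    have hza : n' * a * n'⁻¹ = a * z := (mul_inv_cancel_left _ _).symm
    -- invariance of the commutator
    have hinv : ⁅a, n' * b * n'⁻¹⁆ = ⁅a, b⁆ := by
      have e1 : ⁅n' * a * n'⁻¹, n' * b * n'⁻¹⁆ = n' * ⁅a, b⁆ * n'⁻¹ :=
        (map_commutatorElement (MulAut.conj n').toMonoidHom a b).symm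
      rw [mem_center_iff.1 (hcom haX hbX) n', mul_inv_cancel_right] at e1
      rw [hza] at e1
      rw [← e1]
      simp only [commutatorElement_def, mul_inv_rev a z]
      have hz' : ∀ y : L, z * y = y * z := fun y => (mem_center_iff.1 hz y).symm
      calc a * (n' * b * n'⁻¹) * a⁻¹ * (n' * b * n'⁻¹)⁻¹
          = a * (n' * b * n'⁻¹) * (z * z⁻¹) * a⁻¹ * (n' * b * n'⁻¹)⁻¹ := by rw [mul_inv_cancel, mul_one]
        _ = a * ((n' * b * n'⁻¹) * z) * z⁻¹ * a⁻¹ * (n' * b * n'⁻¹)⁻¹ := by group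
        _ = a * (z * (n' * b * n'⁻¹)) * z⁻¹ * a⁻¹ * (n' * b * n'⁻¹)⁻¹ := by rw [hz']
        _ = _ := by group
    refine mem_centralizer_singleton_iff.2 ?_
    set b' := n' * b * n'⁻¹
    have hc1 : ⁅a, b'⁆ ∈ center L := hcom haX hb'X
    have e2 : ⁅a, b * b'⁻¹⁆ = 1 := by
      have h3 : ⁅a, b * b'⁻¹⁆ = ⁅a, b⁆ * (b * (b'⁻¹ * ⁅a, b'⁆⁻¹ * b') * b⁻¹) := by
        simp only [commutatorElement_def]; group
      rw [h3, mem_center_iff.1 (inv_mem hc1) b'⁻¹, inv_mul_cancel_right,
        mem_center_iff.1 (inv_mem hc1) b, mul_inv_cancel_right, hinv, mul_inv_cancel]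
    exact (commutatorElement_eq_one_iff_mul_comm.1 e2).symm
  -- so `a` is central in `X`
  have hCc : C ≤ centralizer ({a} : Set L) := inf_le_right
  have hac : ∀ b ∈ X, a * b = b * a := fun b hb => by
    refine commute_of_mem_map hker hCc ?_
    refine (sup_le (zpowers_le.2 ?_) hVC) (hS hb)
    exact ⟨a, ⟨haX, mem_centralizer_singleton_iff.2 rfl⟩, ha⟩
  set R := (X ⊓ centralizer (X : Set L)).map π with hR
  have htR : t ∈ R := ⟨a, ⟨haX, mem_centralizer_iff.2 fun b hb => (hac b hb).symm⟩, ha⟩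
  -- and so is a lift of some non-trivial element of `V`
  obtain ⟨v, hvV, hv1, hvR⟩ : ∃ v ∈ V, v ≠ 1 ∧ v ∈ R := by
    obtain ⟨n, hn, hnt⟩ := hmove
    obtain ⟨n', hn'⟩ := hπ n
    have hu : n * t * n⁻¹ ∈ (S : Subgroup G) := (mem_normalizer_iff.1 hn t).1 htS
    have hnX : ∀ b, b ∈ X → n'⁻¹ * b * n' ∈ X := fun b hb => by
      refine (hmemX _).2 ?_
      rw [map_mul, map_mul, map_inv, hn']
      have := (mem_normalizer_iff.1 (inv_mem hn) (π b)).1 hb
      rwa [inv_inv] at this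
    have huR : n * t * n⁻¹ ∈ R := by
      refine ⟨n' * a * n'⁻¹, ⟨(hmemX _).2 (by rwa [map_mul, map_mul, map_inv, hn', ha]),
        mem_centralizer_iff.2 fun b hb => ?_⟩, by rw [map_mul, map_mul, map_inv, hn', ha]⟩
      have h := hac _ (hnX b hb)
      calc b * (n' * a * n'⁻¹) = n' * ((n'⁻¹ * b * n') * a) * n'⁻¹ := by group
        _ = n' * (a * (n'⁻¹ * b * n')) * n'⁻¹ := by rw [h]
        _ = _ := by group
    have hVN : zpowers t ≤ normalizer (V : Set G) := zpowers_le.2 (mem_normalizer_iff.2 fun y => by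
      constructor
      · intro hy
        rwa [hS2 htS (hVS hy), mul_inv_cancel_right]
      · intro hy
        have h1 : t⁻¹ * (t * y * t⁻¹) * t = t * y * t⁻¹ := by
          rw [mul_assoc, hS2 (hVS hy) htS, inv_mul_cancel_left]
        rw [show t⁻¹ * (t * y * t⁻¹) * t = y by group] at h1
        rw [h1]; exact hy)
    obtain ⟨p, hp, v, hv, hpv⟩ := (CfsgLib.Solvable.mem_sup_of_le_normalizer hVN).1 (hS hu)
    refine ⟨v, hv, fun h => hnt (by rw [← hpv, h, mul_one]; exact hp), ?_⟩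
    have hpR : p ∈ R := (zpowers_le.2 htR) hp
    rw [show v = p⁻¹ * (n * t * n⁻¹) by rw [← hpv, inv_mul_cancel_left]]
    exact mul_mem (inv_mem hpR) huR
  obtain ⟨w, hwV, hw⟩ := hV v hvV hv1
  obtain ⟨c, ⟨hcX, hcc⟩, hcv⟩ := hvR
  -- `X` is abelian
  have hSR : (S : Subgroup G) ≤ R ⊔ zpowers w := by
    refine hS.trans (sup_le ((zpowers_le.2 htR).trans le_sup_left) (hw.trans ((closure_le _).2 ?_)))
    rintro x (rfl | rfl)
    · exact mem_sup_left ⟨c, ⟨hcX, hcc⟩, hcv⟩
    · exact mem_sup_right (mem_zpowers _)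
  have hXab : ∀ b₁ ∈ X, ∀ b₂ ∈ X, b₁ * b₂ = b₂ * b₁ := by
    obtain ⟨d, hd⟩ := hπ w
    have hgenX : X ≤ closure ((X ⊓ centralizer (X : Set L) : Subgroup L) ∪ {d} ∪ (π.ker : Set L)) := by
      intro b hb
      have h1 : R ⊔ zpowers w ≤
          (closure ((X ⊓ centralizer (X : Set L) : Subgroup L) ∪ {d} ∪ (π.ker : Set L))).map π := by
        refine sup_le (map_mono fun y hy => subset_closure (Or.inl (Or.inl hy))) (zpowers_le.2 ?_)
        exact ⟨d, subset_closure (Or.inl (Or.inr rfl)), hd⟩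
      obtain ⟨y, hy, hyb⟩ := h1 (hSR hb)
      have hk : y⁻¹ * b ∈ π.ker := by rw [MonoidHom.mem_ker, map_mul, map_inv, hyb, inv_mul_cancel]
      have := mul_mem hy (subset_closure (Or.inr hk) : y⁻¹ * b ∈ closure _)
      rwa [mul_inv_cancel_left] at this
    intro b₁ h₁ b₂ h₂
    -- an element of `X` commuting with `d` commutes with the generators
    have hdX : d ∈ X := (hmemX d).2 (hd ▸ hVS hwV)
    · have hdc : ∀ b ∈ X, b * d = d * b := fun b hb => by
        have h := closure_le (centralizer ({d} : Set L)) |>.2 ?_ (hgenX hb)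
        · exact mem_centralizer_singleton_iff.1 h
        rintro y ((hy | rfl) | hy)
        · exact mem_centralizer_singleton_iff.2 ((mem_centralizer_iff.1 hy.2 d hdX).symm)
        · exact mem_centralizer_singleton_iff.2 rfl
        · exact mem_centralizer_singleton_iff.2 (mem_center_iff.1 (hker hy) d).symm
      have h := closure_le (centralizer ({b₁} : Set L)) |>.2 ?_ (hgenX h₂)
      · exact (mem_centralizer_singleton_iff.1 h).symm
      rintro y ((hy | rfl) | hy)
      · exact mem_centralizer_singleton_iff.2 ((mem_centralizer_iff.1 hy.2 b₁ h₁).symm)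
      · exact mem_centralizer_singleton_iff.2 (hdc b₁ h₁).symm
      · exact mem_centralizer_singleton_iff.2 (mem_center_iff.1 (hker hy) b₁).symm
  haveI hXc : IsMulCommutative ↥(XS : Subgroup L) :=
    ⟨⟨fun x y => Subtype.ext (hXab _ x.2 _ y.2)⟩⟩
  rw [eq_bot_iff, ← CfsgLib.TransferBasic.inf_center_inf_commutator_eq_bot (P := XS) hXc, hperf]
  intro x hx
  refine ⟨⟨(hmemX x).2 ?_, mem_top x⟩, hker hx⟩
  rw [MonoidHom.mem_ker.1 hx]
  exact (S : Subgroup G).one_mem

end CfsgLib.AbelianSylowCover
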