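import Mathlib.GroupTheory.OrderOfElement
import Mathlib.Algebra.Group.Conj
import Mathlib.Tactic.Group

/-!
Elementary lemmas about involutions: two involutions are conjugate or have a common commuting involution.
-/

namespace CfsgLib.InvChar

variable {G : Type*} [Group G]

theorem mul_self_of_orderOf {x : G} (hx : orderOf x = 2) : x * x = 1 := by
  have := pow_orderOf_eq_one x
  rwa [hx, sq] at this

theorem inv_of_orderOf {x : G} (hx : orderOf x = 2) : x⁻¹ = x :=
  inv_eq_of_mul_eq_one_right (mul_self_of_orderOf hx)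

theorem conj_pow_inv {x d : G} (hxd : x * d * x⁻¹ = d⁻¹) (j : ℕ) : x * d ^ j * x⁻¹ = (d ^ j)⁻¹ := by
  rw [← conj_pow, hxd, inv_pow]

/-- Two non-conjugate involutions of a finite group commute with a common involution, which is a
power of their product. -/
theorem exists_commuting_involution [Finite G] {x y : G} (hx : orderOf x = 2) (hy : orderOf y = 2)
    (hnc : ¬ IsConj x y) :
    ∃ k : ℕ, orderOf ((x * y) ^ k) = 2 ∧ Commute ((x * y) ^ k) x ∧ Commute ((x * y) ^ k) y := by
  have hx1 := mul_self_of_orderOf hx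
  have hy1 := mul_self_of_orderOf hy
  set d := x * y with hd
  have hxd : x * d * x⁻¹ = d⁻¹ := by
    rw [hd, mul_inv_rev, inv_of_orderOf hy, inv_of_orderOf hx, ← mul_assoc x x y, hx1, one_mul]
  have hyd : y * d * y⁻¹ = d⁻¹ := by
    rw [hd, mul_inv_rev, inv_of_orderOf hy, inv_of_orderOf hx]
    rw [mul_assoc, mul_assoc x y y, hy1, mul_one]
  rcases Nat.even_or_odd (orderOf d) with he | ho
  · obtain ⟨k, hk⟩ := he
    have hpos := orderOf_pos d
    have hk0 : k ≠ 0 := by omega
    refine ⟨k, ?_, ?_, ?_⟩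
    · rw [orderOf_pow' d hk0, hk]
      rw [Nat.gcd_eq_right ⟨2, by omega⟩]
      rw [← two_mul, Nat.mul_div_cancel _ (Nat.pos_of_ne_zero hk0)]
    all_goals
      have hinv : (d ^ k)⁻¹ = d ^ k := by
        apply inv_eq_of_mul_eq_one_right
        rw [← pow_add, ← hk, pow_orderOf_eq_one]
    · have := conj_pow_inv hxd k
      rw [hinv, mul_inv_eq_iff_eq_mul] at this
      exact this.symm
    · have := conj_pow_inv hyd k
      rw [hinv, mul_inv_eq_iff_eq_mul] at this
      exact this.symm
  · exfalso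
    apply hnc
    obtain ⟨k, hk⟩ := ho
    rw [isConj_iff]
    refine ⟨d ^ k, ?_⟩
    have h1 : x * (d ^ k)⁻¹ = d ^ k * x := by
      have := conj_pow_inv hxd k
      calc x * (d ^ k)⁻¹ = x * (x * d ^ k * x⁻¹) := by rw [this]
        _ = (x * x) * d ^ k * x⁻¹ := by group
        _ = d ^ k * x⁻¹ := by rw [hx1, one_mul]
        _ = _ := by rw [inv_of_orderOf hx]
    calc d ^ k * x * (d ^ k)⁻¹ = d ^ k * (x * (d ^ k)⁻¹) := by group
      _ = d ^ (k + k) * x := by rw [h1, ← mul_assoc, ← pow_add]
      _ = d⁻¹ * x := by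
        have : d ^ (k + k) * d = 1 := by
          rw [← pow_succ, ← two_mul, ← hk, pow_orderOf_eq_one]
        rw [eq_inv_of_mul_eq_one_left this]
      _ = y := by
        rw [hd, mul_inv_rev, inv_of_orderOf hy, inv_of_orderOf hx, mul_assoc, hx1, mul_one]

end CfsgLib.InvChar
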