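import Cfsg.Agent.InvChar.UniqueInvolution

/-!
2-groups with a generalized quaternion quotient by a maximal subgroup of the centre.
-/

namespace CfsgLib.InvChar

variable {S : Type*} [Group S] [Finite S]

/-- Data extracted from a generalized quaternion quotient by a maximal subgroup of the centre. -/
structure QuatGens (C : Subgroup S) (a b : S) (n : ℕ) : Prop where
  two_le : 2 ≤ n
  pow_center : a ^ 2 ^ (n - 1) ∈ Subgroup.center S
  half_not_center : a ^ 2 ^ (n - 2) ∉ Subgroup.center S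
  b_not_center : b ∉ Subgroup.center S
  ba_not_center : b * a ∉ Subgroup.center S
  rel : b * a * b⁻¹ * a ∈ C
  sq : b ^ 2 * (a ^ 2 ^ (n - 1))⁻¹ ∈ C
  sq_ba : (b * a) ^ 2 * (a ^ 2 ^ (n - 1))⁻¹ ∈ C
  pow_mem : ∀ i : ℕ, a ^ i ∈ C → 2 ^ n ∣ i
  not_mem : ∀ i : ℕ, b * a ^ i ∉ C
  form : ∀ s : S, ∃ i : ℕ, ∃ c ∈ C, s = a ^ i * c ∨ s = b * a ^ i * c

theorem quaternion_quotient_facts (hS : IsPGroup 2 S)
    (D : Subgroup ↥(Subgroup.center S)) (hD : IsCoatom D)
    [(D.map (Subgroup.center S).subtype).Normal]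
    (hnab : ¬ IsMulCommutative (S ⧸ D.map (Subgroup.center S).subtype))
    (huniq : ∃! x : S ⧸ D.map (Subgroup.center S).subtype, orderOf x = 2) :
    (∀ y : S, y ^ 2 ∈ D.map (Subgroup.center S).subtype → y ∈ Subgroup.center S) ∧
      (∀ x ∈ Subgroup.center S, ∀ y ∈ Subgroup.center S, x ∉ D.map (Subgroup.center S).subtype →
        y ∉ D.map (Subgroup.center S).subtype → x * y⁻¹ ∈ D.map (Subgroup.center S).subtype) ∧
      (∀ x ∈ Subgroup.center S, x ^ 2 ∈ D.map (Subgroup.center S).subtype) ∧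
      ∃ a b : S, ∃ n : ℕ, QuatGens (D.map (Subgroup.center S).subtype) a b n := by
  haveI : Fact (Nat.Prime 2) := ⟨Nat.prime_two⟩
  have hCZ : (D.map (Subgroup.center S).subtype) ≤ (Subgroup.center S) := Subgroup.map_subtype_le D
  let f := QuotientGroup.mk' (D.map (Subgroup.center S).subtype)
  have hf : Function.Surjective f := QuotientGroup.mk'_surjective (D.map (Subgroup.center S).subtype)
  obtain ⟨x₀, hx₀, hx₀u⟩ := huniq
  -- the index of `D` in the centre is two
  have hDidx : D.index = 2 := by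
    haveI hDn : D.Normal := ⟨fun d hd g => by
      have hc : g * d = d * g := Subtype.ext (Subgroup.mem_center_iff.mp d.2 g)
      rw [hc, mul_inv_cancel_right]; exact hd⟩
    have hq : IsPGroup 2 (↥(Subgroup.center S) ⧸ D) := (hS.to_subgroup (Subgroup.center S)).to_quotient D
    obtain ⟨k, hk⟩ := IsPGroup.iff_card.mp hq
    have hne : k ≠ 0 := by
      rintro rfl
      rw [← Subgroup.index_eq_card, pow_zero] at hk
      exact hD.1 (Subgroup.index_eq_one.mp hk)
    obtain ⟨w, hw⟩ := exists_prime_orderOf_dvd_card' (G := ↥(Subgroup.center S) ⧸ D) 2 (hk ▸ dvd_pow_self 2 hne)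
    have hcomap : (Subgroup.zpowers w).comap (QuotientGroup.mk' D) = ⊤ := by
      refine hD.2 _ (lt_of_le_of_ne ?_ fun h => ?_)
      · intro d hd
        rw [Subgroup.mem_comap, QuotientGroup.mk'_apply, (QuotientGroup.eq_one_iff d).mpr hd]
        exact one_mem _
      · obtain ⟨w', rfl⟩ := QuotientGroup.mk'_surjective D w
        have : w' ∈ D := by rw [h]; exact Subgroup.mem_zpowers _
        rw [QuotientGroup.mk'_apply, (QuotientGroup.eq_one_iff w').mpr this, orderOf_one] at hw
        omega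
    have htop : Subgroup.zpowers w = ⊤ :=
      Subgroup.comap_injective (QuotientGroup.mk'_surjective D) (hcomap.trans (Subgroup.comap_top _).symm)
    rw [Subgroup.index_eq_card, ← hw, ← Nat.card_zpowers, htop, Subgroup.card_top]
  have hsqC : ∀ x ∈ (Subgroup.center S), x ^ 2 ∈ (D.map (Subgroup.center S).subtype) := fun x hx =>
    ⟨⟨x, hx⟩ ^ 2, Subgroup.sq_mem_of_index_two hDidx _, rfl⟩
  have hmulC : ∀ x ∈ (Subgroup.center S), ∀ y ∈ (Subgroup.center S), x ∉ (D.map (Subgroup.center S).subtype) → y ∉ (D.map (Subgroup.center S).subtype) → x * y⁻¹ ∈ (D.map (Subgroup.center S).subtype) := by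
    intro x hx y hy hxC hyC
    refine ⟨⟨x, hx⟩ * ⟨y, hy⟩⁻¹, ?_, rfl⟩
    rw [SetLike.mem_coe, Subgroup.mul_mem_iff_of_index_two hDidx, inv_mem_iff]
    exact iff_of_false (fun h => hxC ⟨_, h, rfl⟩) fun h => hyC ⟨_, h, rfl⟩
  -- the involution of the quotient is central in `S`
  obtain ⟨z, hzZ, hzC⟩ : ∃ z ∈ (Subgroup.center S), z ∉ (D.map (Subgroup.center S).subtype) := by
    by_contra h
    push Not at h
    apply hD.1
    rw [Subgroup.eq_top_iff']
    intro d
    obtain ⟨d', hd', he⟩ := h d d.2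
    rwa [← (Subtype.ext he : d' = d)]
  have hz2 : orderOf (f z) = 2 := by
    refine orderOf_eq_prime ?_ fun h => hzC ((QuotientGroup.eq_one_iff z).mp h)
    rw [← map_pow]; exact (QuotientGroup.eq_one_iff _).mpr (hsqC z hzZ)
  have hinvol : ∀ y : S, f y ^ 2 = 1 → y ∈ (Subgroup.center S) := by
    intro y hy
    by_cases h1 : f y = 1
    · exact hCZ ((QuotientGroup.eq_one_iff y).mp h1)
    · have h2 : f y = f z := (hx₀u _ (orderOf_eq_prime hy h1)).trans (hx₀u _ hz2).symm
      have h3 : z⁻¹ * y ∈ (D.map (Subgroup.center S).subtype) := QuotientGroup.eq.mp h2.symm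
      have := mul_mem hzZ (hCZ h3)
      rwa [mul_inv_cancel_left] at this
  have hsq : ∀ y : S, y ^ 2 ∈ (D.map (Subgroup.center S).subtype) → y ∈ (Subgroup.center S) := fun y hy =>
    hinvol y (by rw [← map_pow]; exact (QuotientGroup.eq_one_iff _).mpr hy)
  refine ⟨hsq, hmulC, hsqC, ?_⟩
  have hu : ∀ x y : S ⧸ (D.map (Subgroup.center S).subtype), orderOf x = 2 → orderOf y = 2 → y ∈ Subgroup.zpowers x := fun x y hx hy => by
    rw [(hx₀u y hy).trans (hx₀u x hx).symm]; exact Subgroup.mem_zpowers x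
  rcases CfsgLib.UniqueInvol.structure_thm (hS.to_quotient (D.map (Subgroup.center S).subtype)) hu with hcyc | ⟨-, abar, n, hn, ha, hidx, hout⟩
  · exact absurd ⟨⟨fun x y => by
      obtain ⟨g, hg⟩ := hcyc.exists_generator
      obtain ⟨i, rfl⟩ := hg x
      obtain ⟨j, rfl⟩ := hg y
      simp only [← zpow_add, add_comm]⟩⟩ hnab
  obtain ⟨bbar, hb⟩ : ∃ g : S ⧸ (D.map (Subgroup.center S).subtype), g ∉ Subgroup.zpowers abar := by
    by_contra h
    push Not at h
    rw [(Subgroup.eq_top_iff' _).mpr h, Subgroup.index_top] at hidx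
    omega
  obtain ⟨a, rfl⟩ := hf abar
  obtain ⟨b, rfl⟩ := hf bbar
  have hba : f (b * a) ∉ Subgroup.zpowers (f a) := by
    rw [map_mul]; exact fun h => hb ((mul_mem_cancel_right (Subgroup.mem_zpowers _)).mp h)
  -- elements whose image is not of order at most two are not central
  have hN : 2 * 2 ^ (n - 1) = 2 ^ n := by rw [← pow_succ', Nat.sub_add_cancel (by omega)]
  have hNne : f a ^ 2 ^ (n - 1) ≠ 1 := fun h => by
    have := Nat.le_of_dvd (Nat.two_pow_pos _) (orderOf_dvd_of_pow_eq_one h)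
    have := Nat.two_pow_pos (n - 1)
    omega
  have hZsq : ∀ y ∈ (Subgroup.center S), f y ^ 2 = 1 := fun y hy => by
    rw [← map_pow]; exact (QuotientGroup.eq_one_iff _).mpr (hsqC y hy)
  have houtZ : ∀ y : S, f y ∉ Subgroup.zpowers (f a) → y ∉ (Subgroup.center S) := fun y hy hyZ =>
    hNne (by rw [← (hout _ hy).2, hZsq y hyZ])
  have hmemC : ∀ x y : S, f x = f y → x * y⁻¹ ∈ (D.map (Subgroup.center S).subtype) := fun x y h => by
    refine (QuotientGroup.eq_one_iff _).mp ?_
    show f (x * y⁻¹) = 1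
    rw [map_mul, map_inv, h, mul_inv_cancel]
  refine ⟨a, b, n,
    { two_le := hn
      pow_center := hinvol _ (by rw [map_pow, ← pow_mul, mul_comm, hN, ← ha, pow_orderOf_eq_one])
      half_not_center := fun h => hNne (by
        have := hZsq _ h
        rwa [map_pow, ← pow_mul, ← pow_succ, show n - 2 + 1 = n - 1 by omega] at this)
      b_not_center := houtZ b hb
      ba_not_center := houtZ _ hba
      rel := ?_
      sq := hmemC _ _ (by rw [map_pow, map_pow, (hout _ hb).2])
      sq_ba := hmemC _ _ (by rw [map_pow, map_pow, (hout _ hba).2])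
      pow_mem := fun i hi => by
        rw [← ha]
        exact orderOf_dvd_of_pow_eq_one (by rw [← map_pow]; exact (QuotientGroup.eq_one_iff _).mpr hi)
      not_mem := fun i hi => by
        apply hb
        have h1 : f (b * a ^ i) = 1 := (QuotientGroup.eq_one_iff _).mpr hi
        rw [map_mul, map_pow] at h1
        rw [eq_inv_of_mul_eq_one_left h1]
        exact inv_mem (pow_mem (Subgroup.mem_zpowers _) i)
      form := ?_ }⟩
  · refine (QuotientGroup.eq_one_iff _).mp ?_
    show f (b * a * b⁻¹ * a) = 1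
    rw [map_mul, map_mul, map_mul, map_inv, (hout _ hb).1, inv_mul_cancel]
  · intro s
    by_cases hs : f s ∈ Subgroup.zpowers (f a)
    · obtain ⟨i, hi⟩ := mem_powers_iff_mem_zpowers.mpr hs
      simp only [← map_pow] at hi
      exact ⟨i, (a ^ i)⁻¹ * s, QuotientGroup.eq.mp hi, Or.inl (by rw [mul_inv_cancel_left])⟩
    · have hmem : (f b)⁻¹ * f s ∈ Subgroup.zpowers (f a) := by
        rw [Subgroup.mul_mem_iff_of_index_two hidx, inv_mem_iff]
        exact iff_of_false hb hs
      obtain ⟨i, hi⟩ := mem_powers_iff_mem_zpowers.mpr hmem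
      simp only [← map_pow] at hi
      have hi' : f (b * a ^ i) = f s := by rw [map_mul, hi, mul_inv_cancel_left]
      exact ⟨i, (b * a ^ i)⁻¹ * s, QuotientGroup.eq.mp hi', Or.inr (by rw [mul_inv_cancel_left])⟩

end CfsgLib.InvChar
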