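import Cfsg.Agent.Char.Values
import Cfsg.Agent.Char.AlgInt
import Mathlib.RingTheory.Ideal.Quotient.Basic
import Mathlib.RingTheory.IntegralClosure.IsIntegralClosure.Basic
import Mathlib.Tactic.LinearCombination

/-!
Congruences modulo two between algebraic integers, and congruences for character values.
-/

namespace CfsgLib.InvChar

/-- Algebraic integers modulo two. -/
abbrev ModTwo : Type := integralClosure ℤ ℂ ⧸ Ideal.span {(2 : integralClosure ℤ ℂ)}

open scoped Classical in
/-- The class of an algebraic integer modulo two. -/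
noncomputable def md (a : ℂ) : ModTwo :=
  if h : IsIntegral ℤ a then Ideal.Quotient.mk _ ⟨a, h⟩ else 0

theorem md_eq {a : ℂ} (h : IsIntegral ℤ a) :
    md a = Ideal.Quotient.mk (Ideal.span {(2 : integralClosure ℤ ℂ)}) ⟨a, h⟩ := by
  rw [md, dif_pos h]

theorem md_add {a b : ℂ} (ha : IsIntegral ℤ a) (hb : IsIntegral ℤ b) :
    md (a + b) = md a + md b := by
  rw [md_eq ha, md_eq hb, md_eq (ha.add hb), ← map_add]
  rfl

theorem md_mul {a b : ℂ} (ha : IsIntegral ℤ a) (hb : IsIntegral ℤ b) :
    md (a * b) = md a * md b := by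
  rw [md_eq ha, md_eq hb, md_eq (ha.mul hb), ← map_mul]
  rfl

theorem md_natCast (n : ℕ) : md (n : ℂ) = (n : ModTwo) := by
  have h : IsIntegral ℤ (n : ℂ) := by simpa using isIntegral_algebraMap (R := ℤ) (A := ℂ) (x := (n : ℤ))
  rw [md_eq h, ← map_natCast (Ideal.Quotient.mk (Ideal.span {(2 : integralClosure ℤ ℂ)}))]
  rfl

theorem md_intCast (n : ℤ) : md (n : ℂ) = (n : ModTwo) := by
  have h : IsIntegral ℤ (n : ℂ) := by simpa using isIntegral_algebraMap (R := ℤ) (A := ℂ) (x := n)
  rw [md_eq h, ← map_intCast (Ideal.Quotient.mk (Ideal.span {(2 : integralClosure ℤ ℂ)}))]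
  rfl

theorem md_zero : md 0 = 0 := by simpa using md_natCast 0

theorem md_one : md 1 = 1 := by simpa using md_natCast 1

theorem two_eq_zero : (2 : ModTwo) = 0 := by
  rw [← map_ofNat (Ideal.Quotient.mk (Ideal.span {(2 : integralClosure ℤ ℂ)})) 2,
    Ideal.Quotient.eq_zero_iff_mem]
  exact Ideal.subset_span rfl

theorem add_self_eq_zero' (a : ModTwo) : a + a = 0 := by
  rw [← two_mul, two_eq_zero, zero_mul]

theorem natCast_of_odd {n : ℕ} (h : Odd n) : (n : ModTwo) = 1 := by
  obtain ⟨k, rfl⟩ := h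
  push_cast
  rw [two_eq_zero, zero_mul, zero_add]

theorem natCast_of_even {n : ℕ} (h : Even n) : (n : ModTwo) = 0 := by
  obtain ⟨k, rfl⟩ := h
  push_cast
  exact add_self_eq_zero' _

theorem dvd_of_natCast_eq_zero {n : ℕ} (h : (n : ModTwo) = 0) : 2 ∣ n := by
  rw [← map_natCast (Ideal.Quotient.mk (Ideal.span {(2 : integralClosure ℤ ℂ)})),
    Ideal.Quotient.eq_zero_iff_mem, Ideal.mem_span_singleton] at h
  obtain ⟨c, hc⟩ := h
  refine CfsgLib.Char.dvd_of_isIntegral_div two_ne_zero ?_
  have hc' : (n : ℂ) = 2 * (c : ℂ) := by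
    have h := congrArg Subtype.val hc
    rw [← map_natCast (algebraMap (integralClosure ℤ ℂ) ℂ) n]
    exact h
  rw [hc', Nat.cast_two, mul_div_cancel_left₀ _ two_ne_zero]
  exact c.2

theorem natCast_one_ne_zero : (1 : ModTwo) ≠ 0 := fun h => by
  have := dvd_of_natCast_eq_zero (n := 1) (by simpa using h)
  omega

theorem intCast_dvd_of_eq_zero {n : ℤ} (h : (n : ModTwo) = 0) : 2 ∣ n := by
  rcases Int.even_or_odd n with he | ⟨k, rfl⟩
  · exact he.two_dvd
  · push_cast at h
    rw [two_eq_zero, zero_mul, zero_add] at h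
    exact absurd h natCast_one_ne_zero

theorem isIntegral_sum {ι : Type*} (s : Finset ι) (f : ι → ℂ) (h : ∀ i ∈ s, IsIntegral ℤ (f i)) :
    IsIntegral ℤ (∑ i ∈ s, f i) :=
  IsIntegral.sum f h

theorem md_sum {ι : Type*} (s : Finset ι) (f : ι → ℂ) (h : ∀ i ∈ s, IsIntegral ℤ (f i)) :
    md (∑ i ∈ s, f i) = ∑ i ∈ s, md (f i) := by
  classical
  induction s using Finset.induction with
  | empty => simpa using md_zero
  | @insert a t ha ih =>
    rw [Finset.sum_insert ha, Finset.sum_insert ha,
      md_add (h _ (Finset.mem_insert_self _ _))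
        (isIntegral_sum t f fun i hi => h i (Finset.mem_insert_of_mem hi)),
      ih fun i hi => h i (Finset.mem_insert_of_mem hi)]

universe u

variable {G : Type u} [Group G] [Finite G]

/-- Multiplying an element of odd order by a commuting involution does not change a character
modulo two. -/
theorem md_char_mul_involution {χ : G → ℂ} (hχ : Cfsg.IsCharacter G χ) {v d : G} (hv : v * v = 1)
    (hd : Odd (orderOf d)) (hc : Commute v d) : md (χ (v * d)) = md (χ d) := by
  obtain ⟨s, -, hs, hk⟩ := CfsgLib.Char.IsCharacter.exists_roots hχ (v * d)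
  set m := orderOf d
  have hvm : ∀ j, v ^ (2 * j) = 1 := fun j => by rw [pow_mul, sq, hv, one_pow]
  obtain ⟨j, hj⟩ := hd
  have h2m : (v * d) ^ (2 * m) = 1 := by
    rw [hc.mul_pow, hvm, mul_comm 2 m, pow_mul, pow_orderOf_eq_one, one_pow, one_mul]
  have hpow : (v * d) ^ (m + 1) = d := by
    rw [hc.mul_pow, show m + 1 = 2 * (j + 1) by omega, hvm, one_mul,
      show 2 * (j + 1) = m + 1 by omega, pow_succ, pow_orderOf_eq_one, one_mul]
  have h1 : χ (v * d) = (s.map fun z => z ^ 1).sum := by rw [← hk 1, pow_one]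
  have h2 : χ d = (s.map fun z => z ^ (m + 1)).sum := by rw [← hk (m + 1), hpow]
  have hint : ∀ z ∈ s, IsIntegral ℤ z := fun z hz =>
    IsIntegral.of_pow (orderOf_pos (v * d)) (by rw [hs z hz]; exact isIntegral_one)
  have hroot : ∀ z ∈ s, md (z ^ 1) = md (z ^ (m + 1)) := by
    intro z hz
    have hz2 : (z ^ m) ^ 2 = 1 := by
      rw [← pow_mul, mul_comm m 2]
      obtain ⟨c, hc'⟩ := orderOf_dvd_of_pow_eq_one h2m
      rw [hc', pow_mul, hs z hz, one_pow]
    have hnegone : md (-1 : ℂ) = 1 := by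
      have h := md_intCast (-1)
      push_cast at h
      rw [h]
      linear_combination -(two_eq_zero)
    rw [pow_one, pow_succ z m]
    rcases mul_self_eq_one_iff.mp ((sq (z ^ m)).symm.trans hz2) with h | h <;> rw [h]
    · rw [one_mul]
    · rw [md_mul isIntegral_one.neg (hint z hz), hnegone, one_mul]
  have hsum : ∀ t : Multiset ℂ, (∀ z ∈ t, IsIntegral ℤ z) → IsIntegral ℤ t.sum ∧ md t.sum = (t.map md).sum := by
    intro t
    induction t using Multiset.induction_on with
    | empty => exact fun _ => ⟨isIntegral_zero, by simpa using md_zero⟩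
    | cons a t ih =>
      intro ht
      obtain ⟨hi, he⟩ := ih fun z hz => ht z (Multiset.mem_cons_of_mem hz)
      have ha := ht a (Multiset.mem_cons_self a t)
      rw [Multiset.sum_cons, Multiset.map_cons, Multiset.sum_cons]
      exact ⟨ha.add hi, by rw [md_add ha hi, he]⟩
  have hmapint : ∀ k : ℕ, ∀ z ∈ s.map (fun z => z ^ k), IsIntegral ℤ z := by
    intro k z hz
    obtain ⟨w, hw, rfl⟩ := Multiset.mem_map.mp hz
    exact (hint w hw).pow k
  rw [h1, h2, (hsum _ (hmapint 1)).2, (hsum _ (hmapint (m + 1))).2, Multiset.map_map, Multiset.map_map]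
  exact congrArg Multiset.sum (Multiset.map_congr rfl fun z hz => hroot z hz)

omit [Finite G] in
open scoped Classical in
/-- A sum over a set stable under an involutory permutation reduces modulo two to the fixed
points. -/
theorem sum_eq_sum_fixed {α : Type*} (s : Finset α) (f : α → ModTwo) (σ : α → α)
    (hs : ∀ x ∈ s, σ x ∈ s) (hσ : ∀ x ∈ s, σ (σ x) = x) (hf : ∀ x ∈ s, f (σ x) = f x) :
    ∑ x ∈ s, f x = ∑ x ∈ s with σ x = x, f x := by
  rw [← Finset.sum_filter_add_sum_filter_not s (fun x => σ x = x) f, add_eq_left]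
  refine Finset.sum_involution (fun x _ => σ x) ?_ ?_ ?_ ?_
  · intro x hx
    rw [Finset.mem_filter] at hx
    rw [hf x hx.1]
    exact add_self_eq_zero' _
  · intro x hx _ h
    exact (Finset.mem_filter.mp hx).2 h
  · intro x hx
    rw [Finset.mem_filter] at hx ⊢
    exact ⟨hs x hx.1, fun h => hx.2 (by rw [hσ x hx.1] at h; exact h.symm)⟩
  · intro x hx
    exact hσ x (Finset.mem_filter.mp hx).1

end CfsgLib.InvChar
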