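import Cfsg.Agent.Transfer.Frobenius
import Cfsg.Agent.InvChar.SylowTools
import Mathlib.Tactic.Group

/-!
Groups with modular Sylow 2-subgroups satisfy Frobenius' local condition.
-/

namespace CfsgLib.InvChar

variable {G : Type*} [Group G] [Finite G]

omit [Finite G] in
theorem normalizer_le_normalizer_centralizer_of (B : Subgroup G) :
    Subgroup.normalizer (B : Set G) ≤ Subgroup.normalizer (Subgroup.centralizer (B : Set G) : Set G) := by
  have key : ∀ h ∈ Subgroup.normalizer (B : Set G), ∀ x ∈ Subgroup.centralizer (B : Set G),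
      h * x * h⁻¹ ∈ Subgroup.centralizer (B : Set G) := by
    intro h hh x hx
    rw [Subgroup.mem_centralizer_iff] at hx ⊢
    intro b hb
    have h1 := hx _ ((Subgroup.mem_normalizer_iff.mp (inv_mem hh) b).mp hb)
    calc b * (h * x * h⁻¹) = h * ((h⁻¹ * b * h⁻¹⁻¹) * x) * h⁻¹ := by group
      _ = h * (x * (h⁻¹ * b * h⁻¹⁻¹)) * h⁻¹ := by rw [h1]
      _ = _ := by group
  intro h hh
  rw [Subgroup.mem_normalizer_iff]
  exact fun x => ⟨key h hh x, fun hx => by
    have := key h⁻¹ (inv_mem hh) _ hx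
    simpa [mul_assoc] using this⟩

omit [Finite G] in
theorem commute_of_sq_of_odd {g x : G} (hg : Odd (orderOf g)) (h : Commute (g ^ 2) x) :
    Commute g x := by
  obtain ⟨k, hk⟩ := hg
  have e : g = (g ^ 2) ^ (k + 1) := by
    rw [← pow_mul, show 2 * (k + 1) = orderOf g + 1 by omega, pow_succ, pow_orderOf_eq_one, one_mul]
  rw [e]
  exact h.pow_left _

omit [Finite G] in
/-- If `g` of odd order moves `y` by a fixed 2-element `u`, then `u = 1`. -/
theorem commute_of_conj_eq_mul {g y u : G} (hg : Odd (orderOf g)) (h : g * y * g⁻¹ = y * u)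
    (hu : Commute g u) {m : ℕ} (hm : u ^ 2 ^ m = 1) : Commute g y := by
  have hk : ∀ k : ℕ, g ^ k * y * (g ^ k)⁻¹ = y * u ^ k := by
    intro k
    induction k with
    | zero => simp
    | succ k ih =>
      calc g ^ (k + 1) * y * (g ^ (k + 1))⁻¹ = g * (g ^ k * y * (g ^ k)⁻¹) * g⁻¹ := by
            rw [pow_succ']; group
        _ = (g * y * g⁻¹) * (g * u ^ k * g⁻¹) := by rw [ih]; group
        _ = _ := by rw [h, (hu.pow_right k).eq, mul_inv_cancel_right, mul_assoc, ← pow_succ']
  have h1 := hk (orderOf g)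
  rw [pow_orderOf_eq_one] at h1
  simp only [one_mul, inv_one, mul_one, left_eq_mul] at h1
  have hu1 : u = 1 := by
    rw [← orderOf_eq_one_iff]
    exact Nat.eq_one_of_dvd_coprimes ((Nat.Coprime.pow_left m (Nat.coprime_two_left.mpr hg)))
      (orderOf_dvd_of_pow_eq_one hm) (orderOf_dvd_of_pow_eq_one h1)
  rw [hu1, mul_one] at h
  exact mul_inv_eq_iff_eq_mul.mp h

section Modular

variable (S : Sylow 2 G) {a b : G} {n : ℕ}

/-- Odd order elements normalizing a subgroup of a modular Sylow 2-subgroup centralize it. -/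
theorem modular_commute [Fact (Nat.Prime 2)] (hn : 3 ≤ n)
    (hS : Nat.card ↥(S : Subgroup G) = 2 ^ (n + 1)) (ha : a ∈ (S : Subgroup G))
    (hb : b ∈ (S : Subgroup G)) (hao : orderOf a = 2 ^ n) (hbo : orderOf b = 2)
    (hrel : b * a * b⁻¹ = a ^ (2 ^ (n - 1) + 1))
    {Q : Subgroup G} (hQ : Q ≤ (S : Subgroup G)) {g : G}
    (hg : g ∈ Subgroup.normalizer (Q : Set G)) (hgo : Odd (orderOf g)) :
    ∀ y ∈ Q, Commute g y := by
  set H := (S : Subgroup G)
  set N := 2 ^ (n - 1) with hN
  have hN4 : 4 ≤ N := by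
    rw [hN, show (4 : ℕ) = 2 ^ 2 from rfl]; exact Nat.pow_le_pow_right two_pos (by omega)
  have h2N : 2 * N = 2 ^ n := by rw [hN, ← pow_succ', Nat.sub_add_cancel (by omega)]
  have hNeven : 2 ∣ N := dvd_pow_self 2 (by omega)
  have ha2N : a ^ (2 * N) = 1 := by rw [h2N, ← hao, pow_orderOf_eq_one]
  have hbb : b * b = 1 := by
    have h' := pow_orderOf_eq_one b
    rwa [hbo, sq] at h'
  have hbinv : b⁻¹ = b := inv_eq_of_mul_eq_one_right hbb
  set z := a ^ N with hz
  have hz2 : z * z = 1 := by rw [hz, ← pow_add, ← two_mul, ha2N]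
  have hz1 : z ≠ 1 := fun h => by
    have := Nat.le_of_dvd (by omega) (orderOf_dvd_of_pow_eq_one h)
    omega
  have hconj : ∀ i : ℕ, b * a ^ i * b⁻¹ = a ^ ((N + 1) * i) := fun i => by
    rw [← conj_pow, hrel, ← pow_mul]
  have hbnot : b ∉ Subgroup.zpowers a := by
    rintro ⟨i, hi⟩
    have hc : b * a * b⁻¹ = a := by rw [← hi]; group
    rw [hc, pow_succ] at hrel
    exact hz1 (mul_eq_right.mp hrel.symm)
  -- normal form
  have hform : ∀ y ∈ H, ∃ i : ℕ, y = a ^ i ∨ y = a ^ i * b := by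
    intro y hy
    have hle : Subgroup.zpowers a ≤ H := Subgroup.zpowers_le.mpr ha
    have hidx : ((Subgroup.zpowers a).subgroupOf H).index = 2 := by
      have h1 := Subgroup.card_mul_index ((Subgroup.zpowers a).subgroupOf H)
      rw [Nat.card_congr (Subgroup.subgroupOfEquivOfLe hle).toEquiv, Nat.card_zpowers, hao, hS,
        pow_succ] at h1
      exact Nat.eq_of_mul_eq_mul_left (Nat.two_pow_pos n) h1
    by_cases hya : y ∈ Subgroup.zpowers a
    · obtain ⟨i, hi⟩ := mem_powers_iff_mem_zpowers.mpr hya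
      exact ⟨i, Or.inl hi.symm⟩
    · obtain ⟨i, hi⟩ : y * b ∈ Submonoid.powers a := by
        rw [mem_powers_iff_mem_zpowers]
        have := (Subgroup.mul_mem_iff_of_index_two hidx (a := ⟨y, hy⟩) (b := ⟨b, hb⟩)).mpr
          (iff_of_false hya hbnot)
        exact this
      refine ⟨i, Or.inr ?_⟩
      simp only at hi
      rw [hi, mul_assoc, hbb, mul_one]
  have hsqb : ∀ i : ℕ, (a ^ i * b) ^ 2 = a ^ (i * (N + 2)) := by
    intro i
    rw [sq]
    calc a ^ i * b * (a ^ i * b) = a ^ i * (b * a ^ i * b⁻¹) := by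
          rw [hbinv]; simp [mul_assoc]
      _ = _ := by rw [hconj, ← pow_add]; congr 1; ring
  have hsq : ∀ y ∈ H, ∃ j : ℕ, y ^ 2 = a ^ j := by
    intro y hy
    obtain ⟨i, rfl | rfl⟩ := hform y hy
    · exact ⟨i * 2, (pow_mul a i 2).symm⟩
    · exact ⟨_, hsqb i⟩
  -- `z` is the only involution of `⟨a⟩`
  have hcyc : ∀ j : ℕ, a ^ j ≠ 1 → (a ^ j) ^ 2 = 1 → a ^ j = z := by
    intro j h1 h2
    rw [← pow_mul] at h2
    have hd : 2 * N ∣ j * 2 := by rw [h2N, ← hao]; exact orderOf_dvd_of_pow_eq_one h2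
    obtain ⟨k, rfl⟩ := (Nat.mul_dvd_mul_iff_left two_pos).mp (hd.trans (mul_comm j 2).dvd)
    rcases Nat.even_or_odd k with ⟨l, rfl⟩ | ⟨l, rfl⟩
    · exact absurd (by rw [show N * (l + l) = (2 * N) * l by ring, pow_mul, ha2N, one_pow]) h1
    · rw [show N * (2 * l + 1) = (2 * N) * l + N by ring, pow_add, pow_mul, ha2N, one_pow, one_mul]
  have hinv : ∀ y ∈ H, y * y = 1 → y = 1 ∨ y = z ∨ y = b ∨ y = z * b := by
    intro y hy hyy
    obtain ⟨i, rfl | rfl⟩ := hform y hy
    · by_cases h1 : a ^ i = 1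
      · exact Or.inl h1
      · exact Or.inr (Or.inl (hcyc i h1 (by rw [sq]; exact hyy)))
    · rw [← sq, hsqb] at hyy
      have hd : 2 * N ∣ i * (N + 2) := by rw [h2N, ← hao]; exact orderOf_dvd_of_pow_eq_one hyy
      obtain ⟨M, hM⟩ := hNeven
      have hMeven : 2 ∣ M := by
        have : N = 2 * 2 ^ (n - 2) := by
          rw [hN, ← pow_succ', show n - 2 + 1 = n - 1 by omega]
        rw [show M = 2 ^ (n - 2) by omega]
        exact dvd_pow_self 2 (by omega)
      have hd' : N ∣ i * (M + 1) := by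
        have : i * (N + 2) = 2 * (i * (M + 1)) := by rw [hM]; ring
        rw [this] at hd
        exact (Nat.mul_dvd_mul_iff_left two_pos).mp hd
      have hcop : Nat.Coprime N (M + 1) := by
        rw [hN]
        refine Nat.Coprime.pow_left _ (Nat.coprime_two_left.mpr ?_)
        obtain ⟨l, rfl⟩ := hMeven
        exact ⟨l, by ring⟩
      obtain ⟨k, rfl⟩ := hcop.dvd_of_dvd_mul_right hd'
      rcases Nat.even_or_odd k with ⟨l, rfl⟩ | ⟨l, rfl⟩
      · refine Or.inr (Or.inr (Or.inl ?_))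
        rw [show N * (l + l) = (2 * N) * l by ring, pow_mul, ha2N, one_pow, one_mul]
      · refine Or.inr (Or.inr (Or.inr ?_))
        rw [show N * (2 * l + 1) = (2 * N) * l + N by ring, pow_add, pow_mul, ha2N, one_pow, one_mul]
  have hsqz : ∀ y ∈ H, y ^ 2 ≠ 1 → (y ^ 2) ^ 2 = 1 → y ^ 2 = z := by
    intro y hy h1 h2
    obtain ⟨j, hj⟩ := hsq y hy
    rw [hj] at h1 h2 ⊢
    exact hcyc j h1 h2
  -- the abelian maximal subgroup
  let W : Subgroup G := Subgroup.closure {a ^ 2, b}
  have hab2 : Commute b (a ^ 2) := by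
    have := hconj 2
    rw [show (N + 1) * 2 = 2 * N + 2 by ring, pow_add, ha2N, one_mul] at this
    exact mul_inv_eq_iff_eq_mul.mp this
  have haW : a ^ 2 ∈ W := Subgroup.subset_closure (Set.mem_insert _ _)
  haveI hWc : IsMulCommutative W := Subgroup.isMulCommutative_closure (by
    rintro x (rfl | rfl) y (rfl | rfl)
    exacts [rfl, hab2.eq.symm, hab2.eq, rfl])
  have hWmem : ∀ y ∈ H, (y ^ N = 1 → y ∈ W) ∧ (y ^ N ≠ 1 → a⁻¹ * y ∈ W) := by
    intro y hy
    have ha2W : ∀ l : ℕ, a ^ (2 * l) ∈ W := fun l => by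
      rw [pow_mul]; exact pow_mem haW l
    have hbW : b ∈ W := Subgroup.subset_closure (Or.inr rfl)
    have hpar : ∀ i : ℕ, ∀ w : G, (w = 1 ∨ w = b) → (a ^ i * w) ^ N = z ^ i := by
      rintro i w (rfl | rfl)
      · rw [mul_one, hz, ← pow_mul, ← pow_mul, mul_comm]
      · obtain ⟨M, hM⟩ := hNeven
        have hMe : ∃ l, M = 2 * l := by
          refine ⟨2 ^ (n - 3), ?_⟩
          have : N = 2 * (2 * 2 ^ (n - 3)) := by
            rw [hN, ← pow_succ', ← pow_succ', show n - 3 + 1 + 1 = n - 1 by omega]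
          omega
        obtain ⟨l, hl⟩ := hMe
        conv_lhs => rw [hM, pow_mul, hsqb, ← pow_mul]
        rw [show i * (N + 2) * M = (2 * N) * (i * l) + N * i by rw [hM, hl]; ring, pow_add, pow_mul,
          ha2N, one_pow, one_mul, pow_mul]
    have key : ∀ i : ℕ, ∀ w : G, (w = 1 ∨ w = b) → y = a ^ i * w →
        (y ^ N = 1 → y ∈ W) ∧ (y ^ N ≠ 1 → a⁻¹ * y ∈ W) := by
      intro i w hw hyw
      have hwW : w ∈ W := by rcases hw with rfl | rfl; exacts [one_mem W, hbW]
      rw [hyw, hpar i w hw]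
      rcases Nat.even_or_odd i with ⟨l, rfl⟩ | ⟨l, rfl⟩
      · refine ⟨fun _ => ?_, fun h => absurd ?_ h⟩
        · exact mul_mem (by rw [← two_mul]; exact ha2W l) hwW
        · rw [← two_mul, pow_mul, sq, hz2, one_pow]
      · refine ⟨fun h => absurd ?_ hz1, fun _ => ?_⟩
        · rwa [pow_succ, pow_mul, sq, hz2, one_pow, one_mul] at h
        · rw [pow_succ', mul_assoc, inv_mul_cancel_left]
          exact mul_mem (ha2W l) hwW
    obtain ⟨i, h | h⟩ := hform y hy
    · exact key i 1 (Or.inl rfl) (by rw [h, mul_one])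
    · exact key i b (Or.inr rfl) h
  -- conjugation by `g`
  have hgQ : ∀ y ∈ Q, g * y * g⁻¹ ∈ Q := fun y hy => (Subgroup.mem_normalizer_iff.mp hg y).mp hy
  have hginj : ∀ y w : G, g * y * g⁻¹ = g * w * g⁻¹ → y = w := fun y w h => by simpa using h
  -- `g` centralizes `z` as soon as `z ∈ Q`
  have hgz : z ∈ Q → Commute g z := by
    intro hzQ
    suffices h : g * z * g⁻¹ = z from mul_inv_eq_iff_eq_mul.mp h
    by_cases hsqQ : ∃ y ∈ Q, y ^ 2 ≠ 1
    · obtain ⟨y, hy, hy2⟩ := hsqQ
      obtain ⟨k, hk⟩ := IsPGroup.iff_orderOf.mp (S.isPGroup'.to_le hQ) ⟨y, hy⟩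
      rw [Subgroup.orderOf_mk] at hk
      have hk2 : 2 ≤ k := by
        by_contra hc
        apply hy2
        have : orderOf y ∣ 2 := hk ▸ (pow_dvd_pow 2 (by omega : k ≤ 1))
        exact orderOf_dvd_iff_pow_eq_one.mp this
      set r := y ^ 2 ^ (k - 2) with hr
      have hrQ : r ∈ Q := pow_mem hy _
      have hr4 : (r ^ 2) ^ 2 = 1 := by
        rw [hr, ← pow_mul, ← pow_mul, ← mul_assoc, ← pow_succ, ← pow_succ,
          show k - 2 + 1 + 1 = k by omega, ← hk,
          pow_orderOf_eq_one]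
      have hr2 : r ^ 2 ≠ 1 := by
        rw [hr, ← pow_mul, ← pow_succ]
        intro h
        have := Nat.le_of_dvd (Nat.two_pow_pos _) (orderOf_dvd_of_pow_eq_one h)
        rw [hk] at this
        have := (Nat.pow_le_pow_iff_right (by norm_num)).mp this
        omega
      have hrz := hsqz r (hQ hrQ) hr2 hr4
      calc g * z * g⁻¹ = (g * r * g⁻¹) ^ 2 := by rw [← hrz, conj_pow]
        _ = z := hsqz _ (hQ (hgQ r hrQ)) (by rwa [conj_pow, ne_eq, conj_eq_one_iff])
              (by rw [conj_pow, conj_pow, hr4]; simp)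
    · push Not at hsqQ
      by_contra hne
      have hQV : ∀ q ∈ Q, q = 1 ∨ q = z ∨ q = b ∨ q = z * b := fun q hq =>
        hinv q (hQ hq) (by rw [← sq]; exact hsqQ q hq)
      have hbQ : b ∈ Q := by
        rcases hQV _ (hgQ z hzQ) with h | h | h | h
        · exact absurd (conj_eq_one_iff.mp h) hz1
        · exact absurd h hne
        · exact h ▸ hgQ z hzQ
        · have := mul_mem (inv_mem hzQ) (h ▸ hgQ z hzQ)
          rwa [inv_mul_cancel_left] at this
      set C := Subgroup.centralizer (Q : Set G)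
      have hHQ : H ≤ Subgroup.normalizer (Q : Set G) := by
        intro s hs
        rw [Subgroup.mem_normalizer_iff]
        have hstep : ∀ s ∈ H, ∀ q ∈ Q, s * q * s⁻¹ ∈ Q := by
          intro s hs q hq
          rcases hinv (s * q * s⁻¹) (mul_mem (mul_mem hs (hQ hq)) (inv_mem hs))
            (by rw [conj_mul, ← sq, hsqQ q hq]; simp) with h | h | h | h <;> rw [h]
          exacts [one_mem Q, hzQ, hbQ, mul_mem hzQ hbQ]
        exact fun q => ⟨hstep s hs q, fun h => by
          have := hstep s⁻¹ (inv_mem hs) _ h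
          simpa [mul_assoc] using this⟩
      have hHC : H ≤ Subgroup.normalizer (C : Set G) :=
        hHQ.trans (normalizer_le_normalizer_centralizer_of _)
      set r := a ^ (N / 2) with hr
      have hr2 : r ^ 2 = z := by rw [hr, ← pow_mul, Nat.div_mul_cancel hNeven]
      have hrC : r ∈ C := by
        rw [Subgroup.mem_centralizer_iff]
        intro q hq
        have h4 : 2 ∣ N / 2 := by
          refine ⟨2 ^ (n - 3), ?_⟩
          rw [hN, ← pow_succ', show n - 1 = n - 3 + 1 + 1 by omega, pow_succ 2 (n - 3 + 1),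
            Nat.mul_div_cancel _ two_pos]
        obtain ⟨l, hl⟩ := h4
        have hrW : r ∈ W := by
          rw [hr, hl, pow_mul]; exact pow_mem haW l
        have hqW : q ∈ W := (hWmem q (hQ hq)).1 (by
          obtain ⟨l, hl⟩ := hNeven
          rw [hl, pow_mul, hsqQ q hq, one_pow])
        exact setLike_mul_comm hqW hrW
      have hgrC : g * r * g⁻¹ ∈ C :=
        (Subgroup.mem_normalizer_iff.mp (normalizer_le_normalizer_centralizer_of _ hg) r).mp hrC
      set D := Subgroup.zpowers (g * r * g⁻¹)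
      have hD : IsPGroup 2 D := by
        refine IsPGroup.of_card (n := Nat.log 2 (orderOf r)) ?_
        rw [Nat.card_zpowers, show g * r * g⁻¹ = MulAut.conj g r from rfl, MulEquiv.orderOf_eq]
        obtain ⟨k, hk⟩ := IsPGroup.iff_orderOf.mp S.isPGroup' ⟨r, pow_mem ha _⟩
        rw [Subgroup.orderOf_mk] at hk
        rw [hk, Nat.log_pow Nat.one_lt_two]
      obtain ⟨m, hm, hmle⟩ := exists_conj_le_sylow S (N := H ⊔ C) le_sup_left
        ((Subgroup.zpowers_le.mpr hgrC).trans le_sup_right) hD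
      rw [← SetLike.mem_coe, Subgroup.coe_mul_of_left_le_normalizer_right H C hHC] at hm
      obtain ⟨s, hs, c, hc, rfl⟩ := hm
      have hmem : c * (g * r * g⁻¹) * c⁻¹ ∈ H := by
        have := hmle ⟨_, Subgroup.mem_zpowers _, rfl⟩
        simp only [MulEquiv.coe_toMonoidHom, MulAut.conj_apply] at this
        have h2 := mul_mem (mul_mem (inv_mem hs) this) hs
        convert h2 using 1
        group
      apply hne
      have hgzQ := hgQ z hzQ
      have hcz : c * (g * z * g⁻¹) * c⁻¹ = g * z * g⁻¹ := by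
        rw [← Subgroup.mem_centralizer_iff.mp hc _ hgzQ, mul_inv_cancel_right]
      have h2 : (c * (g * r * g⁻¹) * c⁻¹) ^ 2 = g * z * g⁻¹ := by
        rw [conj_pow, conj_pow, hr2, hcz]
      have h3 := hsqz _ hmem (by rw [h2, ne_eq, conj_eq_one_iff]; exact hz1)
        (by rw [h2, sq, conj_mul, hz2]; simp)
      rw [← h2, h3]
  -- involutions
  have hfix : ∀ y ∈ Q, y * y = 1 → Commute g y := by
    intro y hy hyy
    rcases hinv y (hQ hy) hyy with hyc | hyc | hyc | hyc <;> rw [hyc] at hy hyy ⊢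
    · exact Commute.one_right g
    · exact hgz hy
    · by_cases hyb : g * b * g⁻¹ = b
      · exact mul_inv_eq_iff_eq_mul.mp hyb
      rcases hinv _ (hQ (hgQ b hy)) (by rw [conj_mul, hbb]; simp) with h | h | h | h
      · rw [conj_eq_one_iff] at h
        rw [h]; exact Commute.one_right g
      · exfalso
        have hzQ : z ∈ Q := h ▸ hgQ b hy
        have hbz : b = z := hginj _ _ (h.trans (mul_inv_eq_iff_eq_mul.mpr (hgz hzQ).eq).symm)
        exact hbnot (hbz ▸ pow_mem (Subgroup.mem_zpowers a) N)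
      · exact absurd h hyb
      · have hzQ : z ∈ Q := by
          have := mul_mem (h ▸ hgQ b hy) (inv_mem hy)
          rwa [mul_inv_cancel_right] at this
        apply commute_of_sq_of_odd hgo
        rw [Commute, SemiconjBy, ← mul_inv_eq_iff_eq_mul]
        have hzg : g * z * g⁻¹ = z := mul_inv_eq_iff_eq_mul.mpr (hgz hzQ).eq
        calc g ^ 2 * b * (g ^ 2)⁻¹ = g * (g * b * g⁻¹) * g⁻¹ := by rw [sq]; group
          _ = g * (z * b) * g⁻¹ := by rw [h]
          _ = (g * z * g⁻¹) * (g * b * g⁻¹) := by group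
          _ = b := by rw [hzg, h, ← mul_assoc, hz2, one_mul]
    · by_cases hyb : g * (z * b) * g⁻¹ = z * b
      · exact mul_inv_eq_iff_eq_mul.mp hyb
      rcases hinv _ (hQ (hgQ _ hy)) (by rw [conj_mul, hyy]; simp) with h | h | h | h
      · rw [conj_eq_one_iff] at h
        rw [h]; exact Commute.one_right g
      · exfalso
        have hzQ : z ∈ Q := h ▸ hgQ _ hy
        have hbz : z * b = z := hginj _ _ (h.trans (mul_inv_eq_iff_eq_mul.mpr (hgz hzQ).eq).symm)
        exact hbnot (by rw [mul_eq_left.mp hbz]; exact one_mem _)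
      · have hzQ : z ∈ Q := by
          have hbQ : b ∈ Q := h ▸ hgQ _ hy
          have := mul_mem hy (inv_mem hbQ)
          rwa [mul_inv_cancel_right] at this
        apply commute_of_sq_of_odd hgo
        rw [Commute, SemiconjBy, ← mul_inv_eq_iff_eq_mul]
        have hzg : g * z * g⁻¹ = z := mul_inv_eq_iff_eq_mul.mpr (hgz hzQ).eq
        have hgb : g * b * g⁻¹ = z * b := by
          calc g * b * g⁻¹ = (g * z * g⁻¹) * ((g * z * g⁻¹) * (g * b * g⁻¹)) := by
                rw [← mul_assoc, conj_mul, hz2]; group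
            _ = (g * z * g⁻¹) * (g * (z * b) * g⁻¹) := by group
            _ = z * b := by rw [h, hzg]
        calc g ^ 2 * (z * b) * (g ^ 2)⁻¹ = g * (g * (z * b) * g⁻¹) * g⁻¹ := by rw [sq]; group
          _ = z * b := by rw [h, hgb]
      · exact absurd h hyb
  -- elements of `W`
  have hfixW : ∀ m : ℕ, ∀ y ∈ Q, y ^ N = 1 → y ^ 2 ^ m = 1 → Commute g y := by
    intro m
    induction m with
    | zero => intro y _ _ h; rw [pow_zero, pow_one] at h; rw [h]; exact Commute.one_right g
    | succ m ih =>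
      intro y hy hyN hym
      have h2 : Commute g (y ^ 2) := ih _ (pow_mem hy 2)
        (by rw [← pow_mul, mul_comm, pow_mul, hyN, one_pow]) (by rw [← pow_mul, ← pow_succ']; exact hym)
      have hyW := (hWmem y (hQ hy)).1 hyN
      have hgyW := (hWmem _ (hQ (hgQ y hy))).1 (by rw [conj_pow, hyN]; simp)
      set u := y⁻¹ * (g * y * g⁻¹) with hu
      have hc : Commute y⁻¹ (g * y * g⁻¹) := setLike_mul_comm (inv_mem hyW) hgyW
      have hu2 : u * u = 1 := by
        rw [← sq, hu, hc.mul_pow, conj_pow, h2.eq, mul_inv_cancel_right, inv_pow, inv_mul_cancel]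
      exact commute_of_conj_eq_mul hgo (u := u) (by rw [hu, mul_inv_cancel_left])
        (hfix u (mul_mem (inv_mem hy) (hgQ y hy)) hu2) (m := 1) (by rw [pow_one, sq]; exact hu2)
  intro y hy
  obtain ⟨m, hm⟩ := (S.isPGroup'.to_le hQ) ⟨y, hy⟩
  have hm' : y ^ 2 ^ m = 1 := congrArg Subtype.val hm
  by_cases hyN : y ^ N = 1
  · exact hfixW m y hy hyN hm'
  have hgyN : (g * y * g⁻¹) ^ N ≠ 1 := by rwa [conj_pow, ne_eq, conj_eq_one_iff]
  have h1 := (hWmem y (hQ hy)).2 hyN
  have h2 := (hWmem _ (hQ (hgQ y hy))).2 hgyN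
  set u := y⁻¹ * (g * y * g⁻¹) with hu
  have huW : u ∈ W := by
    have := mul_mem (inv_mem h1) h2
    rwa [mul_inv_rev, inv_inv, mul_assoc, mul_inv_cancel_left] at this
  have huN : u ^ N = 1 := by
    refine Subgroup.closure_induction (p := fun x _ => x ^ N = 1) ?_ ?_ ?_ ?_ huW
    · rintro x (rfl | rfl)
      · rw [← pow_mul, ha2N]
      · obtain ⟨l, hl⟩ := hNeven
        rw [hl, pow_mul, sq, hbb, one_pow]
    · exact one_pow _
    · intro x y hx hy h1 h2
      rw [Commute.mul_pow (setLike_mul_comm hx hy), h1, h2, one_mul]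
    · intro x _ h1
      rw [inv_pow, h1, inv_one]
  have huQ : u ∈ Q := mul_mem (inv_mem hy) (hgQ y hy)
  exact commute_of_conj_eq_mul hgo (u := u) (by rw [hu, mul_inv_cancel_left])
    (hfixW (n - 1) u huQ huN huN) huN

end Modular

end CfsgLib.InvChar
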