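import Mathlib.GroupTheory.Perm.Cycle.Type
import Mathlib.GroupTheory.Perm.ViaEmbedding
import Mathlib.GroupTheory.Perm.Fin

/-!
Two involutions of a symmetric group with supports of equal size have a third such involution
whose products with both have odd order, unless they live on four points.
-/

set_option autoImplicit false

namespace CfsgLib.OddGraphSym

open Equiv Equiv.Perm

variable {α : Type*} [Fintype α] [DecidableEq α]

/-- The product has odd order. -/
abbrev O (g : Perm α) : Prop := Odd (orderOf g)

/-- A three-cycle with pivot `p`. -/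
def T (p q r : α) : Perm α := swap p q * swap p r

/-- Adding a fixed point to a cycle. -/
theorem isCycle_swap_mul {k : Perm α} (hk : k.IsCycle) {a q : α} (ha : k a ≠ a) (hq : k q = q) :
    (swap a q * k).IsCycle ∧ (swap a q * k).support.card = k.support.card + 1 := by
  have haq : a ≠ q := fun e => ha (e ▸ hq)
  set K := swap a q * k with hK
  have hKq : K q = a := by simp [hK, hq]
  have hsupp : K.support = insert q k.support := by
    ext u
    simp only [Finset.mem_insert, mem_support, hK, Perm.mul_apply]
    by_cases hu : u = q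
    · subst hu; simp [hq, haq]
    simp only [hu, false_or]
    by_cases h1 : k u = a
    · rw [h1, swap_apply_left]
      refine ⟨fun _ e => ?_, fun _ e => hu e.symm⟩
      exact ha (by subst e; exact h1)
    · rw [swap_apply_of_ne_of_ne h1 (fun e => hu (k.injective (e.trans hq.symm)))]
  refine ⟨⟨q, by rw [hKq]; exact haq, fun u hu => ?_⟩, ?_⟩
  · have hqa : K.SameCycle q a := ⟨1, by simpa using hKq⟩
    have hmem := mem_support.2 hu
    rw [hsupp, Finset.mem_insert, mem_support] at hmem
    rcases hmem with rfl | hu'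
    · exact SameCycle.refl _ _
    · obtain ⟨i, rfl⟩ := hk.exists_pow_eq ha hu'
      clear hu hu'
      induction i with
      | zero => simpa using hqa
      | succ i ih =>
        rw [pow_succ', Perm.mul_apply]
        by_cases h1 : k ((k ^ i) a) = a
        · rw [h1]; exact hqa
        · have h2 : k ((k ^ i) a) ≠ q := fun e => by
            have h3 : (k ^ i) a = q := k.injective (e.trans hq.symm)
            have : (k ^ i) q = q := Perm.pow_apply_eq_self_of_apply_eq_self hq i
            exact haq ((k ^ i).injective (h3.trans this.symm))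
          have : K ((k ^ i) a) = k ((k ^ i) a) := by
            rw [hK, Perm.mul_apply, swap_apply_of_ne_of_ne h1 h2]
          rw [← this]
          exact sameCycle_apply_right.2 ih
  · rw [hsupp, Finset.card_insert_of_notMem (by simpa using hq)]

theorem odd_orderOf_mul {g h : Perm α} (hc : Commute g h) (hg : O g) (hh : O h) : O (g * h) :=
  Odd.of_dvd_nat (hg.mul hh) hc.orderOf_mul_dvd_mul_orderOf

theorem O_conj {g : Perm α} (c : Perm α) (h : O g) : O (c * g * c⁻¹) := by
  show Odd _
  rwa [← MulAut.conj_apply, MulEquiv.orderOf_eq]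

theorem O_swap_mul {g h : Perm α} (hh : O (g * h)) : O (h * g) := by
  have := O_conj g⁻¹ hh
  simpa [mul_assoc] using this

theorem O_inv {g : Perm α} (h : O g) : O g⁻¹ := by show Odd _; rwa [orderOf_inv]

theorem O_one : O (1 : Perm α) := by show Odd _; simp

theorem O_T {p q r : α} (hpq : p ≠ q) (hpr : p ≠ r) (hqr : q ≠ r) : O (T p q r) := by
  have h := isThreeCycle_swap_mul_swap_same hpq hpr hqr
  show Odd _
  rw [T, h.orderOf]
  decide

/-- Left insertion of two fixed points. -/
theorem O_T_mul {g : Perm α} (hg : O g) {a q r : α} (hq : g q = q) (hr : g r = r) (haq : a ≠ q)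
    (har : a ≠ r) (hqr : q ≠ r) : O (swap a r * swap a q * g) := by
  by_cases ha : g a = a
  · refine odd_orderOf_mul (Disjoint.commute fun u => ?_) (O_T har haq hqr.symm) hg
    by_cases h1 : u = a
    · exact Or.inr (by rw [h1, ha])
    by_cases h2 : u = q
    · exact Or.inr (by rw [h2, hq])
    by_cases h3 : u = r
    · exact Or.inr (by rw [h3, hr])
    exact Or.inl (by rw [Perm.mul_apply, swap_apply_of_ne_of_ne h1 h2, swap_apply_of_ne_of_ne h1 h3])
  · set k := g.cycleOf a with hk
    have hkcyc : k.IsCycle := isCycle_cycleOf g ha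
    have hka : k a ≠ a := by rwa [hk, cycleOf_apply_self]
    have hkfix : ∀ {u}, g u = u → k u = u := fun {u} hu => by
      rw [hk, cycleOf_apply]; split_ifs <;> simp [hu]
    obtain ⟨h1, h1c⟩ := isCycle_swap_mul hkcyc hka (hkfix hq)
    have h1a : (swap a q * k) a ≠ a := by
      rw [Perm.mul_apply]
      intro e
      have : k a = q := by
        have := congrArg (swap a q) e
        rwa [swap_apply_self, swap_apply_left] at this
      exact haq (k.injective (this.trans (hkfix hq).symm))
    have h1r : (swap a q * k) r = r := by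
      rw [Perm.mul_apply, hkfix hr, swap_apply_of_ne_of_ne har.symm hqr.symm]
    obtain ⟨h2, h2c⟩ := isCycle_swap_mul h1 h1a h1r
    have hodd : O k := by
      refine Odd.of_dvd_nat hg (orderOf_dvd_of_pow_eq_one ?_)
      refine hkcyc.pow_eq_one_iff.2 ⟨a, hka, ?_⟩
      rw [hk, cycleOf_pow_apply_self, pow_orderOf_eq_one, Perm.one_apply]
    have hsplit : swap a r * swap a q * g = (swap a r * (swap a q * k)) * (k⁻¹ * g) := by
      simp [mul_assoc]
    rw [hsplit]
    refine odd_orderOf_mul (Disjoint.commute fun u => ?_) ?_ ?_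
    · by_cases hu : g.SameCycle a u
      · refine Or.inr ?_
        rw [Perm.mul_apply, Perm.inv_eq_iff_eq, hk, hu.cycleOf_apply]
      · have hku : k u = u := cycleOf_apply_of_not_sameCycle hu
        have hua : u ≠ a := fun e => hu (e ▸ SameCycle.refl _ _)
        by_cases h2 : u = q
        · exact Or.inr (by rw [Perm.mul_apply, Perm.inv_eq_iff_eq, hku, h2, hq])
        by_cases h3 : u = r
        · exact Or.inr (by rw [Perm.mul_apply, Perm.inv_eq_iff_eq, hku, h3, hr])
        refine Or.inl ?_
        rw [Perm.mul_apply, Perm.mul_apply, hku, swap_apply_of_ne_of_ne hua h2,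
          swap_apply_of_ne_of_ne hua h3]
    · show Odd _
      rw [h2.orderOf, h2c, h1c, ← hkcyc.orderOf]
      obtain ⟨m, hm⟩ := hodd
      exact ⟨m + 1, by omega⟩
    · refine Odd.of_dvd_nat (hg.mul hodd) ?_
      have hc : Commute k g := Perm.ext fun u => by
        simp only [hk, Perm.mul_apply, cycleOf_apply, sameCycle_apply_right]
        split_ifs <;> rfl
      exact (orderOf_inv k ▸ (hc.inv_left.orderOf_mul_dvd_mul_orderOf)).trans (dvd_of_eq (mul_comm _ _))

/-- Right insertion of two fixed points. -/
theorem O_mul_T {g : Perm α} (hg : O g) {p q r : α} (hq : g q = q) (hr : g r = r) (hpq : p ≠ q)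
    (hpr : p ≠ r) (hqr : q ≠ r) : O (g * T p q r) := by
  have h := O_inv (O_T_mul (O_inv hg) (Perm.inv_eq_iff_eq.2 hq.symm) (Perm.inv_eq_iff_eq.2 hr.symm)
    hpq hpr hqr)
  simpa [T, mul_assoc] using h

theorem T_apply_of_ne {p q r u : α} (h1 : u ≠ p) (h2 : u ≠ q) (h3 : u ≠ r) : T p q r u = u := by
  rw [T, Perm.mul_apply, swap_apply_of_ne_of_ne h1 h3, swap_apply_of_ne_of_ne h1 h2]

/-- Inserting four fixed points. -/
theorem O_mul_T_T {g : Perm α} (hg : O g) {p q r p' q' r' : α} (hq : g q = q) (hr : g r = r)
    (hq' : g q' = q') (hr' : g r' = r') (hnd : [p, q, r, q', r'].Nodup)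
    (hp' : p' ≠ q' ∧ p' ≠ r') : O (g * (T p q r * T p' q' r')) := by
  simp only [List.nodup_cons, List.mem_cons, List.not_mem_nil, or_false, not_or,
    List.nodup_nil, and_true, not_false_eq_true] at hnd
  obtain ⟨⟨hpq, hpr, hpq', hpr'⟩, ⟨hqr, hqq', hqr'⟩, ⟨hrq', hrr'⟩, hq'r'⟩ := hnd
  rw [← mul_assoc]
  refine O_mul_T (O_mul_T hg hq hr hpq hpr hqr) ?_ ?_ hp'.1 hp'.2 hq'r'
  · rw [Perm.mul_apply, T_apply_of_ne (Ne.symm hpq') (Ne.symm hqq') (Ne.symm hrq'), hq']
  · rw [Perm.mul_apply, T_apply_of_ne (Ne.symm hpr') (Ne.symm hqr') (Ne.symm hrr'), hr']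

/-! ### identities between products of transpositions -/

omit [Fintype α] in
theorem via_swap {m : ℕ} (e : Fin m ↪ α) (i j : Fin m) :
    viaEmbeddingHom e (swap i j) = swap (e i) (e j) := by
  refine Perm.ext fun u => ?_
  rw [viaEmbeddingHom_apply]
  by_cases hu : u ∈ Set.range e
  · obtain ⟨k, rfl⟩ := hu
    rw [viaEmbedding_apply, e.injective.swap_apply]
  · rw [viaEmbedding_apply_of_notMem _ _ _ hu,
      swap_apply_of_ne_of_ne (fun h => hu ⟨i, h.symm⟩) (fun h => hu ⟨j, h.symm⟩)]

/-- An embedding from a list without duplicates. -/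
def emb (l : List α) (h : l.Nodup) : Fin l.length ↪ α :=
  ⟨l.get, List.nodup_iff_injective_get.1 h⟩

theorem id_contract {a b c d e f : α} (h : [a, b, c, d, e, f].Nodup) :
    swap a f * (swap a b * swap c d * swap e f * (swap b c * swap d e)) =
      T a d b * T f c e := by
  have this0 :
    swap (0 : Fin 6) 5 * (swap 0 1 * swap 2 3 * swap 4 5 * (swap 1 2 * swap 3 4)) =
      swap 0 3 * swap 0 1 * (swap 5 2 * swap 5 4) := by decide
  have := congrArg (viaEmbeddingHom (emb _ h)) this0
  simp only [map_mul, List.length_cons, List.length_nil, via_swap] at this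
  exact this

theorem id_path {a b c : α} (h : [a, b, c].Nodup) : swap b c * swap a b = T c a b := by
  have this0 :
    swap (1 : Fin 3) 2 * swap 0 1 = swap 2 0 * swap 2 1 := by decide
  have := congrArg (viaEmbeddingHom (emb _ h)) this0
  simp only [map_mul, List.length_cons, List.length_nil, via_swap] at this
  exact this

theorem id_pair {a b c d : α} (h : [a, b, c, d].Nodup) :
    swap a b * swap a c = T a b c ∧ swap c d * swap a c = T a c d := by
  have this0 :
    swap (2 : Fin 4) 3 * swap 0 2 = swap 0 2 * swap 0 3 := by decide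
  have := congrArg (viaEmbeddingHom (emb _ h)) this0
  simp only [map_mul, List.length_cons, List.length_nil, via_swap] at this
  exact ⟨rfl, this⟩

theorem id_point {a b c d p : α} (h : [a, b, c, d, p].Nodup) :
    swap a b * swap c d * (swap a p * swap b d) = T p a b * T b d c ∧
      swap a d * swap b c * (swap a p * swap b d) = T p a b * T p c d := by
  have h10 :
    swap (0 : Fin 5) 1 * swap 2 3 * (swap 0 4 * swap 1 3) =
      swap 4 0 * swap 4 1 * (swap 1 3 * swap 1 2) := by decide
  have h1 := congrArg (viaEmbeddingHom (emb _ h)) h10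
  have h20 :
    swap (0 : Fin 5) 3 * swap 1 2 * (swap 0 4 * swap 1 3) =
      swap 4 0 * swap 4 1 * (swap 4 2 * swap 4 3) := by decide
  have h2 := congrArg (viaEmbeddingHom (emb _ h)) h20
  simp only [map_mul, List.length_cons, List.length_nil, via_swap] at h1 h2
  exact ⟨h1, h2⟩

theorem id_edge {a b c d u v : α} (h : [a, b, c, d, u, v].Nodup) :
    swap u v * (swap a b * swap c d * (swap a u * swap b d * swap c v)) = T u c b * T v a d ∧
      swap u v * (swap a d * swap b c * (swap a u * swap b d * swap c v)) =
        T u c d * T v a b := by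
  have h10 :
    swap (4 : Fin 6) 5 * (swap 0 1 * swap 2 3 * (swap 0 4 * swap 1 3 * swap 2 5)) =
      swap 4 2 * swap 4 1 * (swap 5 0 * swap 5 3) := by decide
  have h1 := congrArg (viaEmbeddingHom (emb _ h)) h10
  have h20 :
    swap (4 : Fin 6) 5 * (swap 0 3 * swap 1 2 * (swap 0 4 * swap 1 3 * swap 2 5)) =
      swap 4 2 * swap 4 3 * (swap 5 0 * swap 5 1) := by decide
  have h2 := congrArg (viaEmbeddingHom (emb _ h)) h20
  simp only [map_mul, List.length_cons, List.length_nil, via_swap] at h1 h2
  exact ⟨h1, h2⟩

theorem id_two_squares {a b c d e f g k : α} (h : [a, b, c, d, e, f, g, k].Nodup) :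
    swap a b * swap c d * (swap e f * swap g k) * (swap a b * swap e k * swap c f * swap d g) =
        T c g e * T k d f ∧
      swap a d * swap b c * (swap e k * swap f g) * (swap a b * swap e k * swap c f * swap d g) =
        T a g c * T d b f := by
  have h10 :
    swap (0 : Fin 8) 1 * swap 2 3 * (swap 4 5 * swap 6 7) *
        (swap 0 1 * swap 4 7 * swap 2 5 * swap 3 6) =
      swap 2 6 * swap 2 4 * (swap 7 3 * swap 7 5) := by decide
  have h1 := congrArg (viaEmbeddingHom (emb _ h)) h10
  have h20 :
    swap (0 : Fin 8) 3 * swap 1 2 * (swap 4 7 * swap 5 6) *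
        (swap 0 1 * swap 4 7 * swap 2 5 * swap 3 6) =
      swap 0 6 * swap 0 2 * (swap 3 1 * swap 3 5) := by decide
  have h2 := congrArg (viaEmbeddingHom (emb _ h)) h20
  simp only [map_mul, List.length_cons, List.length_nil, via_swap] at h1 h2
  exact ⟨h1, h2⟩

theorem id_octagon {a b c d e f g k : α} (h : [a, b, c, d, e, f, g, k].Nodup) :
    swap b c * swap d e * (swap f g * swap k a) * (swap b c * swap e f * swap d k * swap g a) =
        T a d f * T g e k ∧
      swap a b * swap c d * (swap e f * swap g k) * (swap b c * swap e f * swap d k * swap g a) =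
        T a c k * T d b g := by
  have h10 :
    swap (1 : Fin 8) 2 * swap 3 4 * (swap 5 6 * swap 7 0) *
        (swap 1 2 * swap 4 5 * swap 3 7 * swap 6 0) =
      swap 0 3 * swap 0 5 * (swap 6 4 * swap 6 7) := by decide
  have h1 := congrArg (viaEmbeddingHom (emb _ h)) h10
  have h20 :
    swap (0 : Fin 8) 1 * swap 2 3 * (swap 4 5 * swap 6 7) *
        (swap 1 2 * swap 4 5 * swap 3 7 * swap 6 0) =
      swap 0 2 * swap 0 7 * (swap 3 1 * swap 3 6) := by decide
  have h2 := congrArg (viaEmbeddingHom (emb _ h)) h20
  simp only [map_mul, List.length_cons, List.length_nil, via_swap] at h1 h2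
  exact ⟨h1, h2⟩

end CfsgLib.OddGraphSym
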