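import Cfsg.Agent.InvChar.OddGraphSym

/-!
The induction for the odd product graph of a class of involutions of a symmetric group.
-/

set_option autoImplicit false

namespace CfsgLib.OddGraphSym

open Equiv Equiv.Perm

variable {α : Type*} [Fintype α] [DecidableEq α]

theorem invol_apply {x : Perm α} (hx : x * x = 1) (u : α) : x (x u) = u := by
  rw [← Perm.mul_apply, hx, Perm.one_apply]

theorem peel {x : Perm α} (hx : x * x = 1) {b : α} (hb : x b ≠ b) :
    ∃ x' : Perm α, x' * x' = 1 ∧ x = swap b (x b) * x' ∧ Commute (swap b (x b)) x' ∧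
      x'.support = x.support \ {b, x b} ∧ x'.support.card + 2 = x.support.card ∧
      (∀ u, u ≠ b → u ≠ x b → x' u = x u) := by
  set x' := swap b (x b) * x with hx'
  have hfix : ∀ u, u = b ∨ u = x b → x' u = u := by
    rintro u (rfl | rfl)
    · rw [hx', Perm.mul_apply, swap_apply_right]
    · rw [hx', Perm.mul_apply, invol_apply hx, swap_apply_left]
  have hoth : ∀ u, u ≠ b → u ≠ x b → x' u = x u := fun u h1 h2 => by
    rw [hx', Perm.mul_apply, swap_apply_of_ne_of_ne]
    · exact fun e => h2 (by rw [← invol_apply hx u, e])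
    · exact fun e => h1 (x.injective e)
  have hc : Commute (swap b (x b)) x := by
    have h1 := (mul_swap_eq_swap_mul x b (x b))
    rw [invol_apply hx, swap_comm (x b) b] at h1
    exact h1.symm
  have hsupp : x'.support = x.support \ {b, x b} := by
    ext u
    simp only [mem_support, Finset.mem_sdiff, Finset.mem_insert, Finset.mem_singleton]
    by_cases h : u = b ∨ u = x b
    · simp [hfix u h, h]
    · rw [not_or] at h
      simp [hoth u h.1 h.2, h.1, h.2]
  refine ⟨x', ?_, by rw [hx', ← mul_assoc, swap_mul_self, one_mul], ?_, hsupp, ?_, hoth⟩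
  · show swap b (x b) * x * (swap b (x b) * x) = 1
    rw [hc.symm.mul_mul_mul_comm, swap_mul_self, hx, one_mul]
  · show Commute _ _
    exact (Commute.refl _).mul_right hc
  · rw [hsupp, ← Finset.card_pair (Ne.symm hb)]
    refine Finset.card_sdiff_add_card_eq_card ?_
    intro u hu
    simp only [Finset.mem_insert, Finset.mem_singleton] at hu
    rcases hu with rfl | rfl
    · exact mem_support.2 hb
    · exact mem_support.2 fun e => hb (x.injective e)

theorem add_swap {z : Perm α} (hz : z * z = 1) {u v : α} (hu : z u = u) (hv : z v = v)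
    (huv : u ≠ v) :
    (z * swap u v) * (z * swap u v) = 1 ∧ (z * swap u v).support = z.support ∪ {u, v} ∧
      (z * swap u v).support.card = z.support.card + 2 := by
  have hd : Disjoint z (swap u v) := fun w => by
    by_cases h1 : w = u
    · exact Or.inl (h1 ▸ hu)
    by_cases h2 : w = v
    · exact Or.inl (h2 ▸ hv)
    exact Or.inr (swap_apply_of_ne_of_ne h1 h2)
  refine ⟨by rw [hd.commute.symm.mul_mul_mul_comm, hz, swap_mul_self, one_mul],
    by rw [hd.support_mul, support_swap huv], ?_⟩
  rw [hd.card_support_mul, card_support_swap huv]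

theorem comm_swap {g : Perm α} {u v : α} (hu : g u = u) (hv : g v = v) :
    Commute (swap u v) g := by
  have h := mul_swap_eq_swap_mul g u v
  rw [hu, hv] at h
  exact h.symm

/-- The goal. -/
def Good (S : Finset α) (x y : Perm α) : Prop :=
  ∃ z : Perm α, z * z = 1 ∧ z.support ⊆ S ∧ z.support.card = x.support.card ∧
    O (x * z) ∧ O (y * z)

/-- The only exception: two distinct fixed-point-free involutions on four points. -/
def Bad (S : Finset α) (x y : Perm α) : Prop :=
  S.card = 4 ∧ x ≠ y ∧ x.support = S ∧ y.support = S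

/-- The hypotheses. -/
structure Pre (S : Finset α) (x y : Perm α) : Prop where
  xx : x * x = 1
  yy : y * y = 1
  xS : x.support ⊆ S
  yS : y.support ⊆ S
  card : x.support.card = y.support.card

theorem Good.symm {S : Finset α} {x y : Perm α} (hp : Pre S x y) (h : Good S x y) :
    Good S y x := by
  obtain ⟨z, h1, h2, h3, h4, h5⟩ := h
  exact ⟨z, h1, h2, h3.trans hp.card, h5, h4⟩

theorem fix_of_subset {z : Perm α} {S : Finset α} (h : z.support ⊆ S) {u : α} (hu : u ∉ S) :
    z u = u :=
  notMem_support.1 fun h' => hu (h h')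

theorem bad_struct {S : Finset α} {x y : Perm α} (hx : x * x = 1) (hy : y * y = 1)
    (h : Bad S x y) {e : α} (he : e ∈ S) :
    ∃ g : α, [e, x e, g, y e].Nodup ∧ S = {e, x e, g, y e} ∧ g ∈ S ∧
      x = swap e (x e) * swap g (y e) ∧ y = swap e (y e) * swap (x e) g := by
  obtain ⟨h4, hne, hxS, hyS⟩ := h
  have hxm : ∀ u ∈ S, x u ≠ u := fun u hu => mem_support.1 (hxS.symm ▸ hu)
  have hym : ∀ u ∈ S, y u ≠ u := fun u hu => mem_support.1 (hyS.symm ▸ hu)
  have hxc : ∀ u ∈ S, x u ∈ S := fun u hu => by rw [← hxS] at hu ⊢; exact apply_mem_support.2 hu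
  have hyc : ∀ u ∈ S, y u ∈ S := fun u hu => by rw [← hyS] at hu ⊢; exact apply_mem_support.2 hu
  have hout : ∀ u, u ∉ S → x u = y u := fun u hu => by
    rw [fix_of_subset hxS.le hu, fix_of_subset hyS.le hu]
  have hef := (hxm e he).symm
  have hxy : x e ≠ y e := by
    intro heq
    refine hne (Perm.ext fun u => ?_)
    by_cases hu : u ∈ S
    swap
    · exact hout u hu
    by_cases h1 : u = e
    · exact h1 ▸ heq
    by_cases h2 : u = x e
    · rw [h2, invol_apply hx, heq, invol_apply hy]
    -- `u` and the fourth point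
    by_contra hne'
    have hsub : ({e, x e, u, x u, y u} : Finset α) ⊆ S := by
      intro w hw
      simp only [Finset.mem_insert, Finset.mem_singleton] at hw
      rcases hw with rfl | rfl | rfl | rfl | rfl
      exacts [he, hxc e he, hu, hxc u hu, hyc u hu]
    have hnd : [e, x e, u, x u, y u].Nodup := by
      simp only [List.nodup_cons, List.mem_cons, List.not_mem_nil, or_false, not_or,
        List.nodup_nil, and_true, not_false_eq_true]
      refine ⟨⟨hef, Ne.symm h1, ?_, ?_⟩, ⟨Ne.symm h2, ?_, ?_⟩,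
        ⟨(hxm u hu).symm, (hym u hu).symm⟩, hne'⟩
      · exact fun e1 => h2 (by rw [e1, invol_apply hx])
      · exact fun e1 => h2 (by rw [heq, e1, invol_apply hy])
      · exact fun e1 => h1 (x.injective e1).symm
      · exact fun e1 => h1 (y.injective (heq ▸ e1)).symm
    have hcard := Finset.card_le_card hsub
    rw [show ({e, x e, u, x u, y u} : Finset α) = [e, x e, u, x u, y u].toFinset by simp,
      List.toFinset_card_of_nodup hnd] at hcard
    simp [h4] at hcard
  have hey := (hym e he).symm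
  set g := x (y e) with hg
  have hgS : g ∈ S := hxc _ (hyc e he)
  have hge : g ≠ e := fun h => hxy (by rw [← h, hg, invol_apply hx, ← hg, h])
  have hgf : g ≠ x e := fun h => hey (x.injective h).symm
  have hgy : g ≠ y e := hxm _ (hyc e he)
  have hnd : [e, x e, g, y e].Nodup := by
    simp only [List.nodup_cons, List.mem_cons, List.not_mem_nil, or_false, not_or,
      List.nodup_nil, and_true, not_false_eq_true]
    exact ⟨⟨hef, hge.symm, hey⟩, ⟨hgf.symm, hxy⟩, hgy⟩
  have hS : S = {e, x e, g, y e} := by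
    refine (Finset.eq_of_subset_of_card_le ?_ ?_).symm
    · intro w hw
      simp only [Finset.mem_insert, Finset.mem_singleton] at hw
      rcases hw with rfl | rfl | rfl | rfl
      exacts [he, hxc e he, hgS, hyc e he]
    · rw [show ({e, x e, g, y e} : Finset α) = [e, x e, g, y e].toFinset by simp,
        List.toFinset_card_of_nodup hnd, h4]
      simp
  have hyf : y (x e) = g := by
    have h1 := hyc _ (hxc e he)
    rw [hS] at h1
    simp only [Finset.mem_insert, Finset.mem_singleton] at h1
    rcases h1 with h1 | h1 | h1 | h1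
    · exact absurd (by rw [← invol_apply hy (x e), h1] : x e = y e) hxy
    · exact absurd h1 (hym _ (hxc e he))
    · exact h1
    · exact absurd (y.injective h1) hef.symm
  refine ⟨g, hnd, hS, hgS, ?_, ?_⟩
  · refine Perm.ext fun u => ?_
    by_cases hu : u ∈ S
    · rw [hS] at hu
      simp only [Finset.mem_insert, Finset.mem_singleton] at hu
      rcases hu with rfl | rfl | rfl | rfl
      · rw [Perm.mul_apply, swap_apply_of_ne_of_ne hge.symm hey, swap_apply_left]
      · rw [Perm.mul_apply, swap_apply_of_ne_of_ne hgf.symm hxy, swap_apply_right, invol_apply hx]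
      · rw [Perm.mul_apply, swap_apply_left, swap_apply_of_ne_of_ne hey.symm hxy.symm, hg,
          invol_apply hx]
      · rw [Perm.mul_apply, swap_apply_right, swap_apply_of_ne_of_ne hge hgf, hg]
    · rw [fix_of_subset hxS.le hu, Perm.mul_apply]
      rw [hS] at hu
      simp only [Finset.mem_insert, Finset.mem_singleton, not_or] at hu
      rw [swap_apply_of_ne_of_ne hu.2.2.1 hu.2.2.2, swap_apply_of_ne_of_ne hu.1 hu.2.1]
  · refine Perm.ext fun u => ?_
    by_cases hu : u ∈ S
    · rw [hS] at hu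
      simp only [Finset.mem_insert, Finset.mem_singleton] at hu
      rcases hu with rfl | rfl | rfl | rfl
      · rw [Perm.mul_apply, swap_apply_of_ne_of_ne hef hge.symm, swap_apply_left]
      · rw [Perm.mul_apply, swap_apply_left, swap_apply_of_ne_of_ne hge hgy, hyf]
      · rw [Perm.mul_apply, swap_apply_right, swap_apply_of_ne_of_ne hef.symm hxy, ← hyf,
          invol_apply hy]
      · rw [Perm.mul_apply, swap_apply_of_ne_of_ne hxy.symm hgy.symm, swap_apply_right,
          invol_apply hy]
    · rw [fix_of_subset hyS.le hu, Perm.mul_apply]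
      rw [hS] at hu
      simp only [Finset.mem_insert, Finset.mem_singleton, not_or] at hu
      rw [swap_apply_of_ne_of_ne hu.2.1 hu.2.2.1, swap_apply_of_ne_of_ne hu.1 hu.2.2.2]

/-- The induction hypothesis. -/
def IH (α : Type*) [Fintype α] [DecidableEq α] (n : ℕ) : Prop :=
  ∀ (S : Finset α) (x y : Perm α), S.card < n → Pre S x y → ¬ Bad S x y → Good S x y

theorem step_square {n : ℕ} (ih : IH α n) {S : Finset α} {x y : Perm α} (hn : S.card = n)
    (hp : Pre S x y) (hb : ¬ Bad S x y) {a : α} (hxa : x a ≠ a) (hya : y a ≠ a)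
    (hxy : x a ≠ y a) (hcl : x (y a) = y (x a)) : Good S x y := by
  obtain ⟨hx, hy, hxS, hyS, hcard⟩ := hp
  set b := x a with hbdef
  set d := y a with hddef
  set c := x d with hcdef
  have hcd : c ≠ d := fun e => hxa.symm (y.injective (hddef.symm.trans (e.symm.trans hcl)))
  have hab : a ≠ b := hxa.symm
  have had : a ≠ d := hya.symm
  have hbd : b ≠ d := hxy
  have hac : a ≠ c := fun e => hbd (by rw [hbdef, e, hcdef, invol_apply hx])
  have hbc : b ≠ c := fun e => had (x.injective (hbdef.symm.trans e))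
  have hxc : x c = d := invol_apply hx d
  have hyb : y b = c := hcl.symm
  obtain ⟨x1, hx1, ex1, cx1, sx1, nx1, ox1⟩ := peel hx hxa
  have hx1d : x1 d = c := ox1 d (Ne.symm had) (Ne.symm hbd)
  obtain ⟨x2, hx2, ex2, cx2, sx2, nx2, ox2⟩ := peel hx1 (b := d) (by rw [hx1d]; exact hcd)
  rw [hx1d] at ex2 cx2 sx2 ox2
  obtain ⟨y1, hy1, ey1, cy1, sy1, ny1, oy1⟩ := peel hy hya
  have hy1b : y1 b = c := by rw [oy1 b hab.symm hbd, hyb]
  obtain ⟨y2, hy2, ey2, cy2, sy2, ny2, oy2⟩ := peel hy1 (b := b) (by rw [hy1b]; exact hbc.symm)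
  rw [hy1b] at ey2 cy2 sy2 oy2
  rw [← hbdef] at ex1 cx1 sx1
  rw [← hddef] at ey1 cy1 sy1
  have ex : x = swap a b * swap c d * x2 := by rw [mul_assoc, swap_comm c d, ← ex2, ← ex1]
  have ey : y = swap a d * swap b c * y2 := by rw [mul_assoc, ← ey2, ← ey1]
  set R := S \ {a, b, c, d} with hR
  have haS : a ∈ S := hxS (mem_support.2 hxa)
  have hbS : b ∈ S := hxS (apply_mem_support.2 (mem_support.2 hxa))
  have hdS : d ∈ S := hyS (apply_mem_support.2 (mem_support.2 hya))
  have hcS : c ∈ S := hxS (apply_mem_support.2 (mem_support.2 fun e => hcd e))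
  have hnd : [a, b, c, d].Nodup := by
    simp only [List.nodup_cons, List.mem_cons, List.not_mem_nil, or_false, not_or,
      List.nodup_nil, and_true, not_false_eq_true]
    exact ⟨⟨hab, hac, had⟩, ⟨hbc, hbd⟩, hcd⟩
  have hq : ({a, b, c, d} : Finset α).card = 4 := by
    rw [show ({a, b, c, d} : Finset α) = [a, b, c, d].toFinset by simp,
      List.toFinset_card_of_nodup hnd]
    rfl
  have hqS : ({a, b, c, d} : Finset α) ⊆ S := by
    intro u hu
    simp only [Finset.mem_insert, Finset.mem_singleton] at hu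
    rcases hu with rfl | rfl | rfl | rfl <;> assumption
  have hRc : R.card + 4 = S.card := by
    rw [hR, ← hq]; exact Finset.card_sdiff_add_card_eq_card hqS
  have hpR : Pre R x2 y2 := by
    refine ⟨hx2, hy2, ?_, ?_, by omega⟩
    · intro u hu
      rw [sx2, sx1] at hu
      simp only [hR, Finset.mem_sdiff, Finset.mem_insert, Finset.mem_singleton, not_or] at hu ⊢
      exact ⟨hxS hu.1.1, hu.1.2.1, hu.1.2.2, hu.2.2, hu.2.1⟩
    · intro u hu
      rw [sy2, sy1] at hu
      simp only [hR, Finset.mem_sdiff, Finset.mem_insert, Finset.mem_singleton, not_or] at hu ⊢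
      exact ⟨hyS hu.1.1, hu.1.2.1, hu.2.1, hu.2.2, hu.1.2.2⟩
  have hout : ∀ u ∈ R, u ≠ a ∧ u ≠ b ∧ u ≠ c ∧ u ≠ d := fun u hu => by
    simp only [hR, Finset.mem_sdiff, Finset.mem_insert, Finset.mem_singleton, not_or] at hu
    exact hu.2
  have hRS : R ⊆ S := Finset.sdiff_subset
  by_cases hbR : Bad R x2 y2
  · have h4 : R.card = 4 := hbR.1
    have hxR : x2.support = R := hbR.2.2.1
    obtain ⟨e, he⟩ := Finset.card_pos.1 (by omega : 0 < R.card)
    obtain ⟨g, hnd', hR', hgR, exR, eyR⟩ := bad_struct hx2 hy2 hbR he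
    have hfR : x2 e ∈ R := by rw [hR']; simp
    have hkR : y2 e ∈ R := by rw [hR']; simp
    set f := x2 e
    set k := y2 e
    obtain ⟨n1, n2, n3, n4⟩ := hout e he
    obtain ⟨f1, f2, f3, f4⟩ := hout f hfR
    obtain ⟨g1, g2, g3, g4⟩ := hout g hgR
    obtain ⟨k1, k2, k3, k4⟩ := hout k hkR
    simp only [List.nodup_cons, List.mem_cons, List.not_mem_nil, or_false, not_or,
      List.nodup_nil, and_true, not_false_eq_true] at hnd'
    obtain ⟨⟨hef, heg, hek⟩, ⟨hfg, hfk⟩, hgk⟩ := hnd'
    replace hef := Ne.intro hef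
    replace heg := Ne.intro heg
    replace hek := Ne.intro hek
    replace hfg := Ne.intro hfg
    replace hfk := Ne.intro hfk
    replace hgk := Ne.intro hgk
    have hnd8 : [a, b, c, d, e, f, g, k].Nodup := by
      simp only [List.nodup_cons, List.mem_cons, List.not_mem_nil, or_false, not_or,
        List.nodup_nil, and_true, not_false_eq_true]
      exact ⟨⟨hab, hac, had, n1.symm, f1.symm, g1.symm, k1.symm⟩,
        ⟨hbc, hbd, n2.symm, f2.symm, g2.symm, k2.symm⟩,
        ⟨hcd, n3.symm, f3.symm, g3.symm, k3.symm⟩, ⟨n4.symm, f4.symm, g4.symm, k4.symm⟩,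
        ⟨hef, heg, hek⟩, ⟨hfg, hfk⟩, hgk⟩
    obtain ⟨i1, i2⟩ := id_two_squares hnd8
    obtain ⟨z1, s1, c1⟩ := add_swap (z := swap a b) (swap_mul_self a b) (u := e) (v := k)
      (swap_apply_of_ne_of_ne n1 n2) (swap_apply_of_ne_of_ne k1 k2) hek
    obtain ⟨z2, s2, c2⟩ := add_swap z1 (u := c) (v := f)
      (notMem_support.1 (by simp [s1, support_swap hab, hac.symm, hbc.symm, n3.symm, k3.symm]))
      (notMem_support.1 (by simp [s1, support_swap hab, f1, f2, hef.symm, hfk])) f3.symm
    obtain ⟨z3, s3, c3⟩ := add_swap z2 (u := d) (v := g)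
      (notMem_support.1 (by
        simp [s2, s1, support_swap hab, had.symm, hbd.symm, hcd.symm, n4.symm, k4.symm, f4.symm]))
      (notMem_support.1 (by
        simp [s2, s1, support_swap hab, g1, g2, g3, heg.symm, hgk, hfg.symm])) g4.symm
    refine ⟨_, z3, ?_, ?_, ?_, ?_⟩
    · rw [s3, s2, s1, support_swap hab]
      intro u hu
      simp only [Finset.mem_union, Finset.mem_insert, Finset.mem_singleton] at hu
      rcases hu with (((rfl | rfl) | rfl | rfl) | rfl | rfl) | rfl | rfl
      exacts [haS, hbS, hRS he, hRS hkR, hcS, hRS hfR, hdS, hRS hgR]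
    · rw [c3, c2, c1, card_support_swap hab]
      rw [hxR, h4] at nx2
      omega
    · rw [ex, exR, i1, ← one_mul (T c g e * _)]
      exact O_mul_T_T O_one rfl rfl rfl rfl
        (by simp [g3.symm, n3.symm, hcd, f3.symm, heg.symm, g4, n4, hfg.symm, hef, f4.symm])
        ⟨k4, hfk.symm⟩
    · rw [ey, eyR, i2, ← one_mul (T a g c * _)]
      exact O_mul_T_T O_one rfl rfl rfl rfl
        (by simp [hab, hac, g1.symm, f1.symm, g3, g2, hfg.symm, hbc.symm, f3.symm, f2.symm])
        ⟨hbd.symm, f4.symm⟩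
  · have hne : R.card ≠ 0 := fun h0 => hb <| by
      refine ⟨by omega, fun e => hbd (by rw [hbdef, hddef, e]), ?_, ?_⟩
      · refine Finset.eq_of_subset_of_card_le hxS ?_; omega
      · refine Finset.eq_of_subset_of_card_le hyS ?_; omega
    obtain ⟨z', hz', hzR, hzc, ho1, ho2⟩ := ih R x2 y2 (by omega) hpR hbR
    have za : z' a = a := fix_of_subset hzR fun h => (hout a h).1 rfl
    have zb : z' b = b := fix_of_subset hzR fun h => (hout b h).2.1 rfl
    have zc : z' c = c := fix_of_subset hzR fun h => (hout c h).2.2.1 rfl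
    have zd : z' d = d := fix_of_subset hzR fun h => (hout d h).2.2.2 rfl
    have xa' : x2 a = a := fix_of_subset hpR.xS fun h => (hout a h).1 rfl
    have xb' : x2 b = b := fix_of_subset hpR.xS fun h => (hout b h).2.1 rfl
    have xc' : x2 c = c := fix_of_subset hpR.xS fun h => (hout c h).2.2.1 rfl
    have xd' : x2 d = d := fix_of_subset hpR.xS fun h => (hout d h).2.2.2 rfl
    have ya' : y2 a = a := fix_of_subset hpR.yS fun h => (hout a h).1 rfl
    have yb' : y2 b = b := fix_of_subset hpR.yS fun h => (hout b h).2.1 rfl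
    have yc' : y2 c = c := fix_of_subset hpR.yS fun h => (hout c h).2.2.1 rfl
    have yd' : y2 d = d := fix_of_subset hpR.yS fun h => (hout d h).2.2.2 rfl
    have cX : Commute (swap a b * swap c d) x2 :=
      (comm_swap xa' xb').mul_left (comm_swap xc' xd')
    have cY : Commute (swap a d * swap b c) y2 :=
      (comm_swap ya' yd').mul_left (comm_swap yb' yc')
    -- rearrangement
    have key : ∀ {u w z v : Perm α}, Commute u w → Commute u z →
        u * w * (z * v) = w * z * (u * v) := fun {u w z v} h1 h2 => by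
      rw [h1.eq, mul_assoc, ← mul_assoc u z v, h2.eq]
      simp [mul_assoc]
    by_cases hfix : ∃ p ∈ R, z' p = p
    · obtain ⟨p, hpR', hzp⟩ := hfix
      obtain ⟨p1, p2, p3, p4⟩ := hout p hpR'
      obtain ⟨w1, s1, c1⟩ := add_swap hz' za hzp p1.symm
      obtain ⟨w2, s2, c2⟩ := add_swap w1 (u := b) (v := d)
        (by rw [Perm.mul_apply, swap_apply_of_ne_of_ne hab.symm p2.symm, zb])
        (by rw [Perm.mul_apply, swap_apply_of_ne_of_ne had.symm p4.symm, zd]) hbd
      refine ⟨_, w2, ?_, by omega, ?_, ?_⟩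
      · rw [s2, s1]
        intro u hu
        simp only [Finset.mem_union, Finset.mem_insert, Finset.mem_singleton] at hu
        rcases hu with (h | rfl | rfl) | rfl | rfl
        exacts [hRS (hzR h), haS, hRS hpR', hbS, hdS]
      · obtain ⟨i1, -⟩ := id_point (a := a) (b := b) (c := c) (d := d) (p := p) (by
          simp [hab, hac, had, hbc, hbd, hcd, p1.symm, p2.symm, p3.symm, p4.symm])
        rw [ex, mul_assoc z', key cX ((comm_swap za zb).mul_left (comm_swap zc zd)), i1]
        refine O_mul_T_T ho1 (by rw [Perm.mul_apply, za, xa']) (by rw [Perm.mul_apply, zb, xb'])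
          (by rw [Perm.mul_apply, zd, xd']) (by rw [Perm.mul_apply, zc, xc'])
          (by simp [p1, p2, p3, p4, hab, had, hac, hbd, hbc, hcd.symm]) ⟨hbd, hbc⟩
      · obtain ⟨-, i2⟩ := id_point (a := a) (b := b) (c := c) (d := d) (p := p) (by
          simp [hab, hac, had, hbc, hbd, hcd, p1.symm, p2.symm, p3.symm, p4.symm])
        rw [ey, mul_assoc z', key cY ((comm_swap za zd).mul_left (comm_swap zb zc)), i2]
        refine O_mul_T_T ho2 (by rw [Perm.mul_apply, za, ya']) (by rw [Perm.mul_apply, zb, yb'])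
          (by rw [Perm.mul_apply, zc, yc']) (by rw [Perm.mul_apply, zd, yd'])
          (by simp [p1, p2, p3, p4, hab, had, hac, hbd, hbc, hcd]) ⟨p3, p4⟩
    · simp only [not_exists, not_and] at hfix
      obtain ⟨u, huR⟩ := Finset.card_pos.1 (Nat.pos_of_ne_zero hne)
      have hzu : z' u ≠ u := hfix u huR
      obtain ⟨z'', hz'', ez, cz, sz, nz, -⟩ := peel hz' hzu
      set v := z' u
      have hvR : v ∈ R := hzR (apply_mem_support.2 (mem_support.2 hzu))
      obtain ⟨u1, u2, u3, u4⟩ := hout u huR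
      obtain ⟨v1, v2, v3, v4⟩ := hout v hvR
      have hz2 : z''.support ⊆ R \ {u, v} := by rw [sz]; exact Finset.sdiff_subset_sdiff hzR le_rfl
      have fz : ∀ w, w ∉ R ∨ w = u ∨ w = v → z'' w = w := fun w hw => fix_of_subset hz2 (by
        simp only [Finset.mem_sdiff, Finset.mem_insert, Finset.mem_singleton]; tauto)
      have na : a ∉ R := fun h => (hout a h).1 rfl
      have nb : b ∉ R := fun h => (hout b h).2.1 rfl
      have nc : c ∉ R := fun h => (hout c h).2.2.1 rfl
      have nd : d ∉ R := fun h => (hout d h).2.2.2 rfl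
      obtain ⟨w1, s1, c1⟩ := add_swap hz'' (u := a) (v := u) (fz a (Or.inl na))
        (fz u (Or.inr (Or.inl rfl))) u1.symm
      obtain ⟨w2, s2, c2⟩ := add_swap w1 (u := b) (v := d)
        (by rw [Perm.mul_apply, swap_apply_of_ne_of_ne hab.symm u2.symm, fz b (Or.inl nb)])
        (by rw [Perm.mul_apply, swap_apply_of_ne_of_ne had.symm u4.symm, fz d (Or.inl nd)]) hbd
      obtain ⟨w3, s3, c3⟩ := add_swap w2 (u := c) (v := v)
        (by rw [Perm.mul_apply, swap_apply_of_ne_of_ne hbc.symm hcd, Perm.mul_apply,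
          swap_apply_of_ne_of_ne hac.symm u3.symm, fz c (Or.inl nc)])
        (by rw [Perm.mul_apply, swap_apply_of_ne_of_ne v2 v4, Perm.mul_apply,
          swap_apply_of_ne_of_ne v1 hzu, fz v (Or.inr (Or.inr rfl))]) v3.symm
      obtain ⟨i1, i2⟩ := id_edge (a := a) (b := b) (c := c) (d := d) (u := u) (v := v) (by
        simp [hab, hac, had, hbc, hbd, hcd, u1.symm, u2.symm, u3.symm, u4.symm, v1.symm,
          v2.symm, v3.symm, v4.symm, Ne.symm hzu])
      have ez' : z'' = z' * swap u v := by rw [ez, cz.eq, mul_assoc, swap_mul_self, mul_one]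
      refine ⟨_, w3, ?_, by omega, ?_, ?_⟩
      · rw [s3, s2, s1]
        intro w hw
        simp only [Finset.mem_union, Finset.mem_insert, Finset.mem_singleton] at hw
        rcases hw with ((h | rfl | rfl) | rfl | rfl) | rfl | rfl
        exacts [hRS (Finset.sdiff_subset (hz2 h)), haS, hRS huR, hbS, hdS, hcS, hRS hvR]
      · rw [ex, mul_assoc z'' (swap a u) (swap b d), mul_assoc z'' _ (swap c v),
          key cX ((comm_swap (fz a (Or.inl na)) (fz b (Or.inl nb))).mul_left
            (comm_swap (fz c (Or.inl nc)) (fz d (Or.inl nd)))),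
          show x2 * z'' = x2 * z' * swap u v by rw [ez', mul_assoc], mul_assoc (x2 * z'), i1]
        exact O_mul_T_T ho1 (by rw [Perm.mul_apply, zc, xc']) (by rw [Perm.mul_apply, zb, xb'])
          (by rw [Perm.mul_apply, za, xa']) (by rw [Perm.mul_apply, zd, xd'])
          (by simp [u1, u2, u3, u4, hbc.symm, hac.symm, hab.symm, had, hbd, hcd]) ⟨v1, v4⟩
      · rw [ey, mul_assoc z'' (swap a u) (swap b d), mul_assoc z'' _ (swap c v),
          key cY ((comm_swap (fz a (Or.inl na)) (fz d (Or.inl nd))).mul_left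
            (comm_swap (fz b (Or.inl nb)) (fz c (Or.inl nc)))),
          show y2 * z'' = y2 * z' * swap u v by rw [ez', mul_assoc], mul_assoc (y2 * z'), i2]
        exact O_mul_T_T ho2 (by rw [Perm.mul_apply, zc, yc']) (by rw [Perm.mul_apply, zd, yd'])
          (by rw [Perm.mul_apply, za, ya']) (by rw [Perm.mul_apply, zb, yb'])
          (by simp [u1, u2, u3, u4, hbc.symm, hac.symm, hab, had.symm, hbd.symm, hcd]) ⟨v1, v2⟩

theorem step_path {n : ℕ} (ih : IH α n) {S : Finset α} {x y : Perm α} (hn : S.card = n)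
    (hp : Pre S x y) {a : α} (hxa : x a = a) (hya : y a ≠ a) (hxb : x (y a) ≠ y a) :
    Good S x y := by
  obtain ⟨hx, hy, hxS, hyS, hcard⟩ := hp
  set b := y a with hbdef
  set c := x b with hcdef
  have hac : a ≠ c := fun e => hya (by
    rw [← invol_apply hx b, ← hcdef, ← e, hxa])
  obtain ⟨x1, hx1, ex1, cx1, sx1, nx1, -⟩ := peel hx hxb
  obtain ⟨y1, hy1, ey1, cy1, sy1, ny1, -⟩ := peel hy hya
  rw [← hcdef] at ex1 cx1 sx1
  rw [← hbdef] at ey1 cy1 sy1
  set R := S \ {a, b} with hR
  have haS : a ∈ S := hyS (mem_support.2 hya)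
  have hbS : b ∈ S := hxS (mem_support.2 hxb)
  have hcS : c ∈ S := hxS (apply_mem_support.2 (mem_support.2 hxb))
  have hRc : R.card + 2 = S.card := by
    rw [hR, ← Finset.card_pair (Ne.symm hya)]
    exact Finset.card_sdiff_add_card_eq_card (by simp [Finset.insert_subset_iff, haS, hbS])
  have hpR : Pre R x1 y1 := by
    refine ⟨hx1, hy1, ?_, ?_, by omega⟩
    · intro u hu
      rw [sx1] at hu
      simp only [hR, Finset.mem_sdiff, Finset.mem_insert, Finset.mem_singleton, not_or] at hu ⊢
      exact ⟨hxS hu.1, fun e => mem_support.1 hu.1 (e ▸ hxa), hu.2.1⟩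
    · rw [sy1]; exact Finset.sdiff_subset_sdiff hyS le_rfl
  have hbR : ¬ Bad R x1 y1 := fun h => by
    have hc : c ∈ R := by simp [hR, hcS, hac.symm, hxb]
    rw [← h.2.2.1, sx1] at hc
    simp at hc
  obtain ⟨z', hz', hzR, hzc, ho1, ho2⟩ := ih R x1 y1 (by omega) hpR hbR
  have za : z' a = a := fix_of_subset hzR (by simp [hR])
  have zb : z' b = b := fix_of_subset hzR (by simp [hR])
  have xa' : x1 a = a := fix_of_subset hpR.xS (by simp [hR])
  have xb' : x1 b = b := fix_of_subset hpR.xS (by simp [hR])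
  obtain ⟨w1, s1, c1⟩ := add_swap hz' za zb (Ne.symm hya)
  refine ⟨_, w1, ?_, by omega, ?_, ?_⟩
  · rw [s1]
    exact Finset.union_subset (hzR.trans Finset.sdiff_subset)
      (by simp [Finset.insert_subset_iff, haS, hbS])
  · rw [ex1, show swap b c * x1 * (z' * swap a b) = swap b c * (x1 * z' * swap a b) by
      simp [mul_assoc]]
    refine O_swap_mul ?_
    have hi : swap a b * swap b c = T c b a := by
      have h := congrArg (·⁻¹) (id_path (a := a) (b := b) (c := c)
        (by simp [Ne.symm hya, hac, Ne.symm hxb]))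
      simpa [T, swap_inv] using h
    rw [mul_assoc _ (swap a b), hi]
    exact O_mul_T ho1 (by rw [Perm.mul_apply, zb, xb']) (by rw [Perm.mul_apply, za, xa'])
      hxb hac.symm hya
  · rw [ey1, show swap a b * y1 * (z' * swap a b) = swap a b * (y1 * z') * (swap a b)⁻¹ by
      simp [mul_assoc]]
    exact O_conj _ ho2

theorem step_pair {n : ℕ} (ih : IH α n) {S : Finset α} {x y : Perm α} (hn : S.card = n)
    (hp : Pre S x y)
    (hsq : ∀ u, x u ≠ u → y u ≠ u → x u ≠ y u → x (y u) ≠ y (x u))
    {a c : α} (hxa : x a = a) (hya : y a ≠ a) (hxb : x (y a) = y a)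
    (hyc : y c = c) (hxc : x c ≠ c) (hyd : y (x c) = x c) : Good S x y := by
  obtain ⟨hx, hy, hxS, hyS, hcard⟩ := hp
  set b := y a with hbdef
  set d := x c with hddef
  have h1 : a ≠ c := fun e => hxc (by rw [hddef, ← e, hxa])
  have h2 : a ≠ d := fun e => hya (by rw [hbdef, e, hyd])
  have h3 : b ≠ c := fun e => hxc (by rw [hddef, ← e, hxb])
  have h4 : b ≠ d := fun e => hya (y.injective (by rw [← hbdef, e, hyd]))
  have h5 : a ≠ b := Ne.symm hya
  have h6 : c ≠ d := Ne.symm hxc
  obtain ⟨x1, hx1, ex1, cx1, sx1, nx1, ox1⟩ := peel hx hxc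
  obtain ⟨y1, hy1, ey1, cy1, sy1, ny1, oy1⟩ := peel hy hya
  rw [← hddef] at ex1 cx1 sx1 ox1
  rw [← hbdef] at ey1 cy1 sy1 oy1
  set R := S \ {a, b, c, d} with hR
  have haS : a ∈ S := hyS (mem_support.2 hya)
  have hbS : b ∈ S := hyS (apply_mem_support.2 (mem_support.2 hya))
  have hcS : c ∈ S := hxS (mem_support.2 hxc)
  have hdS : d ∈ S := hxS (apply_mem_support.2 (mem_support.2 hxc))
  have hRS : R.card < S.card :=
    Finset.card_lt_card (Finset.ssubset_iff_subset_ne.2 ⟨Finset.sdiff_subset, fun e => by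
      have := e.symm ▸ haS; simp [hR] at this⟩)
  have hpR : Pre R x1 y1 := by
    refine ⟨hx1, hy1, ?_, ?_, by omega⟩
    · intro u hu
      rw [sx1] at hu
      simp only [hR, Finset.mem_sdiff, Finset.mem_insert, Finset.mem_singleton, not_or] at hu ⊢
      exact ⟨hxS hu.1, fun e => mem_support.1 hu.1 (by rw [e, hxa]),
        fun e => mem_support.1 hu.1 (by rw [e, hxb]), hu.2.1, hu.2.2⟩
    · intro u hu
      rw [sy1] at hu
      simp only [hR, Finset.mem_sdiff, Finset.mem_insert, Finset.mem_singleton, not_or] at hu ⊢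
      exact ⟨hyS hu.1, hu.2.1, hu.2.2, fun e => mem_support.1 hu.1 (by rw [e, hyc]),
        fun e => mem_support.1 hu.1 (by rw [e, hyd])⟩
  have hbR : ¬ Bad R x1 y1 := fun h => by
    obtain ⟨e, he⟩ := Finset.card_pos.1 (by rw [h.1]; omega : 0 < R.card)
    obtain ⟨g, hnd, hR', hgR, exR, eyR⟩ := bad_struct hx1 hy1 h he
    have hout : ∀ u ∈ R, x1 u = x u ∧ y1 u = y u := fun u hu => by
      simp only [hR, Finset.mem_sdiff, Finset.mem_insert, Finset.mem_singleton, not_or] at hu
      exact ⟨ox1 u hu.2.2.2.1 hu.2.2.2.2, oy1 u hu.2.1 hu.2.2.1⟩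
    have hfR : x1 e ∈ R := by rw [hR']; simp
    have hkR : y1 e ∈ R := by rw [hR']; simp
    simp only [List.nodup_cons, List.mem_cons, List.not_mem_nil, or_false, not_or,
      List.nodup_nil, and_true, not_false_eq_true] at hnd
    obtain ⟨⟨hef, heg, hek⟩, ⟨hfg, hfk⟩, hgk⟩ := hnd
    replace hef := Ne.intro hef
    replace heg := Ne.intro heg
    replace hek := Ne.intro hek
    replace hfg := Ne.intro hfg
    replace hfk := Ne.intro hfk
    replace hgk := Ne.intro hgk
    refine hsq e (by rw [← (hout e he).1]; exact hef.symm) (by rw [← (hout e he).2]; exact hek.symm)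
      (by rw [← (hout e he).1, ← (hout e he).2]; exact hfk) ?_
    have e1 : x (y e) = g := by
      rw [← (hout e he).2, ← (hout _ hkR).1]
      conv_lhs => arg 1; rw [exR]
      rw [Perm.mul_apply, swap_apply_right, swap_apply_of_ne_of_ne heg.symm hfg.symm]
    have e2 : y (x e) = g := by
      rw [← (hout e he).1, ← (hout _ hfR).2]
      conv_lhs => arg 1; rw [eyR]
      rw [Perm.mul_apply, swap_apply_left, swap_apply_of_ne_of_ne heg.symm hgk]
    rw [e1, e2]
  obtain ⟨z', hz', hzR, hzc, ho1, ho2⟩ := ih R x1 y1 (by omega) hpR hbR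
  have za : z' a = a := fix_of_subset hzR (by simp [hR])
  have zb : z' b = b := fix_of_subset hzR (by simp [hR])
  have zc : z' c = c := fix_of_subset hzR (by simp [hR])
  have zd : z' d = d := fix_of_subset hzR (by simp [hR])
  have xa' : x1 a = a := fix_of_subset hpR.xS (by simp [hR])
  have xd' : x1 d = d := fix_of_subset hpR.xS (by simp [hR])
  have ya' : y1 a = a := fix_of_subset hpR.yS (by simp [hR])
  have yb' : y1 b = b := fix_of_subset hpR.yS (by simp [hR])
  obtain ⟨i1, i2⟩ := id_pair (a := c) (b := d) (c := a) (d := b)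
    (by simp [h6, h1.symm, h3.symm, h2.symm, h4.symm, h5])
  obtain ⟨w1, s1, c1⟩ := add_swap hz' zc za h1.symm
  refine ⟨_, w1, ?_, by omega, ?_, ?_⟩
  · rw [s1]
    exact Finset.union_subset (hzR.trans Finset.sdiff_subset)
      (by simp [Finset.insert_subset_iff, haS, hcS])
  · rw [ex1, cx1.eq, mul_assoc x1, ← mul_assoc (swap c d), (comm_swap zc zd).eq, mul_assoc z',
      ← mul_assoc x1, i1]
    exact O_mul_T ho1 (by rw [Perm.mul_apply, zd, xd']) (by rw [Perm.mul_apply, za, xa'])
      h6 h1.symm h2.symm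
  · rw [ey1, cy1.eq, mul_assoc y1, ← mul_assoc (swap a b), (comm_swap za zb).eq, mul_assoc z',
      ← mul_assoc y1, i2]
    exact O_mul_T ho2 (by rw [Perm.mul_apply, za, ya']) (by rw [Perm.mul_apply, zb, yb'])
      h1.symm h3.symm h5

theorem step_contract {n : ℕ} (ih : IH α n) {S : Finset α} {x y : Perm α} (hn : S.card = n)
    (hp : Pre S x y) (hsupp : ∀ u, x u = u ↔ y u = u)
    {b : α} (hxy : x b ≠ y b) (hnsq : x (y b) ≠ y (x b)) : Good S x y := by
  obtain ⟨hx, hy, hxS, hyS, hcard⟩ := hp
  have hxb : x b ≠ b := fun e => hxy (by rw [e, (hsupp b).1 e])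
  have hyb : y b ≠ b := fun e => hxb ((hsupp b).2 e)
  set a := y b with hadef
  set c := x b with hcdef
  set d := y c with hddef
  set e := x d with hedef
  set f := y e with hfdef
  have hxc : x c = b := invol_apply hx b
  have hya : y a = b := invol_apply hy b
  have hdc : d ≠ c := fun h => hxb (x.injective ((hsupp c).2 h))
  have hxd : x d ≠ d := fun h => hdc (y.injective ((hsupp d).1 h))
  have hye : y e ≠ e := fun h => hxd (x.injective ((hsupp e).2 h))
  have hab : a ≠ b := hyb
  have hac : a ≠ c := Ne.symm hxy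
  have hbc : b ≠ c := Ne.symm hxb
  have hdb : d ≠ b := fun h => hac (by rw [hadef, ← h, hddef, invol_apply hy])
  have hda : d ≠ a := fun h => hbc (y.injective h).symm
  have hed : e ≠ d := hxd
  have heb : e ≠ b := fun h => hdc (x.injective (h.trans hxc.symm))
  have hec : e ≠ c := fun h => hdb (x.injective (h.trans hcdef))
  have hea : e ≠ a := fun h => hnsq (by rw [← h, hedef, invol_apply hx])
  have hfe : f ≠ e := hye
  have hfb : f ≠ b := fun h => hea (y.injective (h.trans hya.symm))
  have hfa : f ≠ a := fun h => heb (y.injective h)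
  have hfc : f ≠ c := fun h => hed (y.injective (h.trans (invol_apply hy c).symm))
  have hfd : f ≠ d := fun h => hec (y.injective h)
  obtain ⟨x1, hx1, ex1, cx1, sx1, nx1, ox1⟩ := peel hx hxb
  rw [← hcdef] at ex1 cx1 sx1 ox1
  have hx1d : x1 d = e := ox1 d hdb hdc
  obtain ⟨x2, hx2, ex2, cx2, sx2, nx2, -⟩ := peel hx1 (b := d) (by rw [hx1d]; exact hed)
  rw [hx1d] at ex2 cx2 sx2
  obtain ⟨y1, hy1, ey1, cy1, sy1, ny1, oy1⟩ := peel hy (b := a) (by rw [hya]; exact hab.symm)
  rw [hya] at ey1 cy1 sy1 oy1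
  have hy1c : y1 c = d := oy1 c hac.symm hbc.symm
  obtain ⟨y2, hy2, ey2, cy2, sy2, ny2, oy2⟩ := peel hy1 (b := c) (by rw [hy1c]; exact hdc)
  rw [hy1c] at ey2 cy2 sy2 oy2
  have hy2e : y2 e = f := by rw [oy2 e hec hed, oy1 e hea heb]
  obtain ⟨y3, hy3, ey3, cy3, sy3, ny3, -⟩ := peel hy2 (b := e) (by rw [hy2e]; exact hfe)
  rw [hy2e] at ey3 cy3 sy3
  have ex : x = swap b c * swap d e * x2 := by rw [mul_assoc, ← ex2, ← ex1]
  have ey : y = swap a b * swap c d * swap e f * y3 := by
    rw [mul_assoc, ← ey3, mul_assoc, ← ey2, ← ey1]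
  set R := S \ {b, c, d, e} with hR
  have hbS : b ∈ S := hxS (mem_support.2 hxb)
  have hcS : c ∈ S := hxS (apply_mem_support.2 (mem_support.2 hxb))
  have hdS : d ∈ S := hxS (mem_support.2 hxd)
  have heS : e ∈ S := hxS (apply_mem_support.2 (mem_support.2 hxd))
  have haS : a ∈ S := hyS (apply_mem_support.2 (mem_support.2 hyb))
  have hfS : f ∈ S := hyS (apply_mem_support.2 (mem_support.2 hye))
  have hy3' : y3.support ⊆ S \ {a, b, c, d, e, f} := by
    intro u hu
    rw [sy3, sy2, sy1] at hu
    simp only [Finset.mem_sdiff, Finset.mem_insert, Finset.mem_singleton, not_or] at hu ⊢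
    exact ⟨hyS hu.1.1.1, hu.1.1.2.1, hu.1.1.2.2, hu.1.2.1, hu.1.2.2, hu.2.1, hu.2.2⟩
  have y3a : y3 a = a := fix_of_subset hy3' (by simp)
  have y3f : y3 f = f := fix_of_subset hy3' (by simp)
  obtain ⟨hy', sy', cy'⟩ := add_swap hy3 y3a y3f hfa.symm
  set y' := y3 * swap a f with hy'def
  have hRS : R.card < S.card :=
    Finset.card_lt_card (Finset.ssubset_iff_subset_ne.2 ⟨Finset.sdiff_subset, fun h => by
      have := h.symm ▸ hbS; simp [hR] at this⟩)
  have hpR : Pre R x2 y' := by
    refine ⟨hx2, hy', ?_, ?_, by omega⟩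
    · intro u hu
      rw [sx2, sx1] at hu
      simp only [hR, Finset.mem_sdiff, Finset.mem_insert, Finset.mem_singleton, not_or] at hu ⊢
      exact ⟨hxS hu.1.1, hu.1.2.1, hu.1.2.2, hu.2.1, hu.2.2⟩
    · rw [sy']
      intro u hu
      simp only [Finset.mem_union, Finset.mem_insert, Finset.mem_singleton] at hu
      simp only [hR, Finset.mem_sdiff, Finset.mem_insert, Finset.mem_singleton, not_or]
      rcases hu with h | rfl | rfl
      · have := hy3' h
        simp only [Finset.mem_sdiff, Finset.mem_insert, Finset.mem_singleton, not_or] at this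
        exact ⟨this.1, this.2.2.1, this.2.2.2.1, this.2.2.2.2.1, this.2.2.2.2.2.1⟩
      · exact ⟨haS, hab, hac, hda.symm, hea.symm⟩
      · exact ⟨hfS, hfb, hfc, hfd, hfe⟩
  have hRS' : R ⊆ S := Finset.sdiff_subset
  by_cases hbR : Bad R x2 y'
  · have hfR : f ∈ R := by simp [hR, hfS, hfb, hfc, hfd, hfe]
    obtain ⟨k, hnd, hR', hkR, exR, eyR⟩ := bad_struct hx2 hy' hbR hfR
    have hy'f : y' f = a := by rw [hy'def, Perm.mul_apply, swap_apply_right, y3a]
    rw [hy'f] at hnd hR' exR eyR
    have hgR : x2 f ∈ R := by rw [hR']; simp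
    set g := x2 f
    simp only [List.nodup_cons, List.mem_cons, List.not_mem_nil, or_false, not_or,
      List.nodup_nil, and_true, not_false_eq_true] at hnd
    obtain ⟨⟨hfg, hfk, -⟩, ⟨hgk, hga⟩, hka⟩ := hnd
    replace hfg := Ne.intro hfg
    replace hfk := Ne.intro hfk
    replace hgk := Ne.intro hgk
    replace hga := Ne.intro hga
    replace hka := Ne.intro hka
    have hgout := hgR
    have hkout := hkR
    simp only [hR, Finset.mem_sdiff, Finset.mem_insert, Finset.mem_singleton, not_or] at hgout hkout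
    obtain ⟨-, g2, g3, g4, g5⟩ := hgout
    obtain ⟨-, k2, k3, k4, k5⟩ := hkout
    replace g2 := Ne.intro g2
    replace g3 := Ne.intro g3
    replace g4 := Ne.intro g4
    replace g5 := Ne.intro g5
    replace k2 := Ne.intro k2
    replace k3 := Ne.intro k3
    replace k4 := Ne.intro k4
    replace k5 := Ne.intro k5
    have y3e : y3 = swap g k := by
      have : y3 = y' * swap a f := by rw [hy'def, mul_assoc, swap_mul_self, mul_one]
      rw [this, eyR, swap_comm f a, (comm_swap (g := swap g k)
        (swap_apply_of_ne_of_ne hga.symm hka.symm) (swap_apply_of_ne_of_ne hfg hfk)).eq,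
        mul_assoc, swap_mul_self, mul_one]
    obtain ⟨i1, i2⟩ := id_octagon (a := a) (b := b) (c := c) (d := d) (e := e) (f := f) (g := g)
      (k := k) (by simp [hab, hac, hda.symm, hea.symm, hfa.symm, hga.symm, hka.symm, hbc, hdb.symm,
        heb.symm, hfb.symm, g2.symm, k2.symm, hdc.symm, hec.symm, hfc.symm, g3.symm, k3.symm,
        hed.symm, hfd.symm, g4.symm, k4.symm, hfe.symm, g5.symm, k5.symm, hfg, hfk, hgk])
    obtain ⟨z1, s1, c1⟩ := add_swap (z := swap b c) (swap_mul_self b c) (u := e) (v := f)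
      (swap_apply_of_ne_of_ne heb hec) (swap_apply_of_ne_of_ne hfb hfc) hfe.symm
    obtain ⟨z2, s2, c2⟩ := add_swap z1 (u := d) (v := k)
      (notMem_support.1 (by simp [s1, support_swap hbc, hdb, hdc, hed.symm, hfd.symm]))
      (notMem_support.1 (by simp [s1, support_swap hbc, k2, k3, k5, hfk.symm])) k4.symm
    obtain ⟨z3, s3, c3⟩ := add_swap z2 (u := g) (v := a)
      (notMem_support.1 (by simp [s2, s1, support_swap hbc, g2, g3, g4, g5, hfg.symm, hgk]))
      (notMem_support.1 (by
        simp [s2, s1, support_swap hbc, hab, hac, hda.symm, hea.symm, hfa.symm, hka.symm])) hga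
    refine ⟨_, z3, ?_, ?_, ?_, ?_⟩
    · rw [s3, s2, s1, support_swap hbc]
      intro u hu
      simp only [Finset.mem_union, Finset.mem_insert, Finset.mem_singleton] at hu
      rcases hu with (((rfl | rfl) | rfl | rfl) | rfl | rfl) | rfl | rfl
      exacts [hbS, hcS, heS, hfS, hdS, hRS' hkR, hRS' hgR, haS]
    · rw [c3, c2, c1, card_support_swap hbc]
      rw [hbR.2.2.1, hbR.1] at nx2
      omega
    · rw [ex, exR, i1, ← one_mul (T a d f * _)]
      exact O_mul_T_T O_one rfl rfl rfl rfl
        (by simp [hda.symm, hfa.symm, hea.symm, hka.symm, hfd.symm, hed.symm, k4.symm, hfe, hfk,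
          k5.symm]) ⟨g5, hgk⟩
    · rw [ey, y3e, mul_assoc (swap a b * swap c d), i2, ← one_mul (T a c k * _)]
      exact O_mul_T_T O_one rfl rfl rfl rfl
        (by simp [hac, hab, hka.symm, hga.symm, k3.symm, hbc.symm, g3.symm, k2, g2.symm, hgk.symm])
        ⟨hdb, g4.symm⟩
  obtain ⟨z', hz', hzR, hzc, ho1, ho2⟩ := ih R x2 y' (by omega) hpR hbR
  have zb : z' b = b := fix_of_subset hzR (by simp [hR])
  have zc : z' c = c := fix_of_subset hzR (by simp [hR])
  have zd : z' d = d := fix_of_subset hzR (by simp [hR])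
  have ze : z' e = e := fix_of_subset hzR (by simp [hR])
  have yb' : y' b = b := fix_of_subset hpR.yS (by simp [hR])
  have yc' : y' c = c := fix_of_subset hpR.yS (by simp [hR])
  have yd' : y' d = d := fix_of_subset hpR.yS (by simp [hR])
  have ye' : y' e = e := fix_of_subset hpR.yS (by simp [hR])
  obtain ⟨w1, s1, c1⟩ := add_swap hz' zb zc hbc
  obtain ⟨w2, s2, c2⟩ := add_swap w1 (u := d) (v := e)
    (by rw [Perm.mul_apply, swap_apply_of_ne_of_ne hdb hdc, zd])
    (by rw [Perm.mul_apply, swap_apply_of_ne_of_ne heb hec, ze]) hed.symm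
  refine ⟨_, w2, ?_, by omega, ?_, ?_⟩
  · rw [s2, s1]
    exact Finset.union_subset (Finset.union_subset (hzR.trans Finset.sdiff_subset)
      (by simp [Finset.insert_subset_iff, hbS, hcS])) (by simp [Finset.insert_subset_iff, hdS, heS])
  · have hw : swap b c * swap d e = (swap b c * swap d e)⁻¹ := by
      rw [mul_inv_rev, swap_inv, swap_inv]
      exact (comm_swap (g := swap d e) (swap_apply_of_ne_of_ne hdb.symm heb.symm)
        (swap_apply_of_ne_of_ne hdc.symm hec.symm)).eq
    rw [ex, mul_assoc z', show swap b c * swap d e * x2 * (z' * (swap b c * swap d e)) =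
      swap b c * swap d e * (x2 * z') * (swap b c * swap d e)⁻¹ by rw [← hw]; simp [mul_assoc]]
    exact O_conj _ ho1
  · have c3 : Commute (swap a b * swap c d * swap e f) y3 :=
      ((comm_swap y3a (fix_of_subset hy3' (by simp))).mul_left
        (comm_swap (fix_of_subset hy3' (by simp)) (fix_of_subset hy3' (by simp)))).mul_left
        (comm_swap (fix_of_subset hy3' (by simp)) y3f)
    have cz : Commute (swap b c * swap d e) z' := (comm_swap zb zc).mul_left (comm_swap zd ze)
    have hyeq : y = y' * (swap a f * (swap a b * swap c d * swap e f)) := by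
      rw [← mul_assoc, hy'def, mul_assoc y3, swap_mul_self, mul_one, ← c3.eq, ← ey]
    have hW := id_contract (a := a) (b := b) (c := c) (d := d) (e := e) (f := f) (by
      simp [hab, hac, hda.symm, hea.symm, hfa.symm, hbc, hdb.symm, heb.symm, hfb.symm, hdc.symm,
        hec.symm, hfc.symm, hed.symm, hfd.symm, hfe.symm])
    rw [mul_assoc z', ← cz.eq, hyeq, show y' * (swap a f * (swap a b * swap c d * swap e f)) *
      (swap b c * swap d e * z') =
      (y' * (swap a f * (swap a b * swap c d * swap e f * (swap b c * swap d e)))) * z' by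
        simp [mul_assoc], hW]
    refine O_swap_mul ?_
    rw [← mul_assoc z']
    have hinv : z' * y' = (y' * z')⁻¹ := by
      rw [mul_inv_rev, inv_eq_of_mul_eq_one_left hy', inv_eq_of_mul_eq_one_left hz']
    refine O_mul_T_T (hinv ▸ O_inv ho2) (by rw [Perm.mul_apply, yd', zd])
      (by rw [Perm.mul_apply, yb', zb]) (by rw [Perm.mul_apply, yc', zc])
      (by rw [Perm.mul_apply, ye', ze])
      (by simp [hda.symm, hab, hac, hea.symm, hdb, hdc, hed.symm, hbc, heb.symm, hec.symm]) ⟨hfc, hfe⟩

theorem exists_odd_both {S : Finset α} {x y : Perm α} (hp : Pre S x y) (hb : ¬ Bad S x y) :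
    Good S x y := by
  suffices ∀ n, IH α n from this (S.card + 1) S x y (Nat.lt_succ_self _) hp hb
  intro n
  induction n with
  | zero => intro S x y h; omega
  | succ n ih =>
    intro S x y h hp hb
    rcases Nat.lt_succ_iff_lt_or_eq.1 h with h | h
    · exact ih S x y h hp hb
    by_cases hsq : ∃ u, x u ≠ u ∧ y u ≠ u ∧ x u ≠ y u ∧ x (y u) = y (x u)
    · obtain ⟨u, h1, h2, h3, h4⟩ := hsq
      exact step_square ih h hp hb h1 h2 h3 h4
    simp only [not_exists, not_and] at hsq
    have hp' : Pre S y x := ⟨hp.yy, hp.xx, hp.yS, hp.xS, hp.card.symm⟩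
    by_cases hP : ∃ a, x a = a ∧ y a ≠ a ∧ x (y a) ≠ y a
    · obtain ⟨a, h1, h2, h3⟩ := hP
      exact step_path ih h hp h1 h2 h3
    by_cases hP' : ∃ a, y a = a ∧ x a ≠ a ∧ y (x a) ≠ x a
    · obtain ⟨a, h1, h2, h3⟩ := hP'
      exact (step_path ih h hp' h1 h2 h3).symm hp'
    simp only [not_exists, not_and, not_not] at hP hP'
    by_cases hA : ∃ a, x a = a ∧ y a ≠ a
    · obtain ⟨a, h1, h2⟩ := hA
      obtain ⟨c, hc⟩ : ∃ c, c ∈ x.support ∧ c ∉ y.support := by
        by_contra hcon
        simp only [not_exists, not_and, not_not] at hcon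
        have := Finset.eq_of_subset_of_card_le hcon hp.card.ge
        exact mem_support.1 (this ▸ mem_support.2 h2) h1
      rw [mem_support, notMem_support] at hc
      exact step_pair ih h hp hsq h1 h2 (hP a h1 h2) hc.2 hc.1 (hP' c hc.2 hc.1)
    simp only [not_exists, not_and, not_not] at hA
    have hsupp : ∀ u, x u = u ↔ y u = u := by
      have h1 : y.support ⊆ x.support := fun u hu =>
        mem_support.2 fun e => mem_support.1 hu (hA u e)
      have h2 := Finset.eq_of_subset_of_card_le h1 hp.card.le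
      intro u
      rw [← notMem_support, ← notMem_support, h2]
    by_cases hxy : x = y
    · subst hxy
      exact ⟨x, hp.xx, hp.xS, rfl, by rw [hp.xx]; exact O_one, by rw [hp.xx]; exact O_one⟩
    obtain ⟨b, hb'⟩ : ∃ b, x b ≠ y b := by
      by_contra hcon
      simp only [not_exists, not_not] at hcon
      exact hxy (Perm.ext hcon)
    have hxb : x b ≠ b := fun e => hb' (by rw [e, (hsupp b).1 e])
    exact step_contract ih h hp hsupp hb'
      (hsq b hxb (fun e => hxb ((hsupp b).2 e)) hb')

end CfsgLib.OddGraphSym
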