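import Cfsg.Agent.S3183
import Cfsg.Agent.InvChar.Basic
import Cfsg.Prelude.Def_CaseTheorems
import Mathlib

/-!
Consequences of the Z* theorem, with that theorem as a hypothesis.
-/

namespace CfsgLib.InvChar

/-- The statement of the Z* theorem for a group. -/
def ZStarProperty (G : Type*) [Group G] : Prop :=
  ∀ (P : Sylow 2 G) (u : G), orderOf u = 2 → u ∈ P →
    (∀ g : G, g * u * g⁻¹ ∈ P → g * u * g⁻¹ = u) →
      ∃ N : Subgroup G, N.Normal ∧ Odd (Nat.card N) ∧ ∀ g : G, (u * g * u⁻¹ * g⁻¹) ∈ N

theorem cyclic_involution_unique {C : Type*} [Group C] [Finite C] [IsCyclic C] {x y : C}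
    (hx : orderOf x = 2) (hy : orderOf y = 2) : y = x := by
  classical
  haveI : Fintype C := Fintype.ofFinite C
  by_contra hne
  have h := IsCyclic.card_pow_eq_one_le (α := C) (n := 2) two_pos
  have hsub : ({1, x, y} : Finset C) ⊆ Finset.univ.filter (fun a : C => a ^ 2 = 1) := by
    intro a ha
    simp only [Finset.mem_insert, Finset.mem_singleton] at ha
    refine Finset.mem_filter.mpr ⟨Finset.mem_univ _, ?_⟩
    rcases ha with rfl | rfl | rfl
    · simp
    · rw [← hx]; exact pow_orderOf_eq_one _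
    · rw [← hy]; exact pow_orderOf_eq_one _
  have hx1 : x ≠ 1 := by rintro rfl; simp at hx
  have hy1 : y ≠ 1 := by rintro rfl; simp at hy
  have h3 : ({1, x, y} : Finset C).card = 3 := by
    rw [Finset.card_insert_of_notMem (by simp [hx1.symm, hy1.symm]),
      Finset.card_pair (Ne.symm hne)]
  have := (Finset.card_le_card hsub).trans h
  omega

theorem central_intersections_cyclic_characteristic {G : Type*} [Group G] [Finite G]
    (hZ : ZStarProperty G)
    (hCI : ∀ S T : Sylow 2 G, S ≠ T → ∃ U : Sylow 2 G,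
      (S : Subgroup G) ⊓ (T : Subgroup G) ≤ (Subgroup.center ↥(U : Subgroup G)).map (U : Subgroup G).subtype)
    (S : Sylow 2 G) (C : Subgroup ↥(S : Subgroup G)) (hCc : IsCyclic ↥C) (hCh : C.Characteristic)
    (c : ↥(S : Subgroup G)) (hc : c ∈ C) (hc2 : orderOf c = 2) :
    ∀ g : G, (QuotientGroup.mk (s := Cfsg.oddCore G) (g * (c : G) * g⁻¹)) =
      QuotientGroup.mk (s := Cfsg.oddCore G) (c : G) := by
  have : Fact (Nat.Prime 2) := ⟨Nat.prime_two⟩
  have hfix : ∀ φ : (↥(S : Subgroup G)) ≃* ↥(S : Subgroup G), φ c = c := by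
    intro φ
    have h1 : φ c ∈ C := by
      have := hCh.fixed φ
      rw [← this] at hc
      exact hc
    have := cyclic_involution_unique (C := C) (x := ⟨c, hc⟩) (y := ⟨φ c, h1⟩)
      (by rw [← Subgroup.orderOf_coe]; exact hc2) (by rw [← Subgroup.orderOf_coe]; exact (φ.orderOf_eq c).trans hc2)
    exact congrArg Subtype.val this
  have hnorm : ∀ n ∈ Subgroup.normalizer ((S : Subgroup G) : Set G), n * c.1 * n⁻¹ = c.1 := by
    intro n hn
    let φ : (↥(S : Subgroup G)) ≃* ↥(S : Subgroup G) :=
      { toFun := fun s => ⟨n * s.1 * n⁻¹, (Subgroup.mem_normalizer_iff.mp hn _).mp s.2⟩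
        invFun := fun s => ⟨n⁻¹ * s.1 * n, (Subgroup.mem_normalizer_iff.mp hn _).mpr (by simpa [mul_assoc] using s.2)⟩
        left_inv := fun s => Subtype.ext (by simp [mul_assoc])
        right_inv := fun s => Subtype.ext (by simp [mul_assoc])
        map_mul' := fun a b => Subtype.ext (by simp [mul_assoc]) }
    exact congrArg Subtype.val (hfix φ)
  have hcen : ∀ s ∈ (S : Subgroup G), s * c.1 = c.1 * s := fun s hs =>
    mul_inv_eq_iff_eq_mul.mp (hnorm s (Subgroup.le_normalizer hs))
  have hiso : ∀ g : G, g * c.1 * g⁻¹ ∈ (S : Subgroup G) → g * c.1 * g⁻¹ = c.1 := by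
    intro g hg
    by_cases hgS : g • S = S
    · exact hnorm g (Sylow.smul_eq_iff_mem_normalizer.mp hgS)
    · have hgT : g * c.1 * g⁻¹ ∈ ((g • S : Sylow 2 G) : Subgroup G) := ⟨c.1, c.2, rfl⟩
      have := ((Cfsg.Agent.S3183.result hCI S).2 (g • S) hgS ⟨hg, hgT⟩).1
      obtain ⟨w, hw, hwe⟩ := this
      have hcw : g * c.1 * g⁻¹ ∈ Subgroup.centralizer ((S : Subgroup G) : Set G) := by
        rw [Subgroup.mem_centralizer_iff]
        intro s hs
        rw [← hwe]
        exact congrArg Subtype.val (Subgroup.mem_center_iff.mp hw ⟨s, hs⟩)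
      obtain ⟨n, hn, hne⟩ := S.conj_eq_normalizer_conj_of_mem_centralizer c.1 g⁻¹
        (Subgroup.mem_centralizer_iff.mpr fun s hs => hcen s hs) (by simpa using hcw)
      rw [inv_inv] at hne
      rw [hne]
      simpa using hnorm n⁻¹ (inv_mem hn)
  obtain ⟨N, hN, hNo, hcomm⟩ := hZ S c.1 (by rw [Subgroup.orderOf_coe]; exact hc2) c.2 hiso
  intro g
  rw [QuotientGroup.eq]
  have hNle : N ≤ Cfsg.oddCore G := le_sSup ⟨hN, Nat.coprime_two_right.mpr hNo⟩
  apply hNle
  have h := hN.conj_mem _ (hcomm g) c.1⁻¹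
  convert h using 1
  group

theorem eq_of_orderOf_two_of_comm_simple {G : Type*} [Group G] [IsSimpleGroup G]
    (hab : ∀ a b : G, a * b = b * a) {x y : G} (hx : orderOf x = 2) (hy : orderOf y = 2) : y = x := by
  have hn : (Subgroup.zpowers x).Normal := ⟨fun n hn g => by
    rwa [hab g n, mul_assoc, mul_inv_cancel, mul_one]⟩
  have hx1 : x ≠ 1 := by rintro rfl; simp at hx
  have htop := hn.eq_bot_or_eq_top.resolve_left (by simpa using hx1)
  obtain ⟨i, hi⟩ : y ∈ Subgroup.zpowers x := htop ▸ Subgroup.mem_top y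
  rcases Int.even_or_odd i with ⟨j, rfl⟩ | ⟨j, rfl⟩
  · simp only [← two_mul, zpow_mul, zpow_two, mul_self_of_orderOf hx, one_zpow] at hi
    rw [← hi, orderOf_one] at hy; omega
  · simp only [zpow_add, zpow_mul, zpow_two, mul_self_of_orderOf hx, one_zpow, one_mul, zpow_one] at hi
    exact hi.symm

theorem few_involutions_in_centralizer {G : Type*} [Group G] [Finite G] [IsSimpleGroup G]
    (hZ : ZStarProperty G) (x : G) (hx : orderOf x = 2)
    (h3 : Nat.card {u : ↥(Subgroup.centralizer ({x} : Set G)) // orderOf u = 2} ≤ 3) :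
    (∃ S : Sylow 2 G, (S : Subgroup G) ≤ Subgroup.centralizer ({x} : Set G)) ∧
      ∀ u v : G, orderOf u = 2 → orderOf v = 2 → IsConj u v := by
  classical
  have : Fact (Nat.Prime 2) := ⟨Nat.prime_two⟩
  have hconjord : ∀ a b : G, IsConj a b → orderOf a = orderOf b := by
    intro a b h
    obtain ⟨c, hc⟩ := isConj_iff.mp h
    rw [← hc]
    exact ((MulAut.conj c).orderOf_eq a).symm
  -- at most three involutions commute with any conjugate of x
  have three : ∀ w : G, IsConj x w → ∀ s : Finset G,
      (∀ a ∈ s, orderOf a = 2 ∧ a * w = w * a) → s.card ≤ 3 := by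
    intro w hw s hs
    obtain ⟨c, rfl⟩ := isConj_iff.mp hw
    refine le_trans ?_ h3
    rw [← Nat.card_eq_finsetCard]
    refine Nat.card_le_card_of_injective (fun a : s => ⟨⟨c⁻¹ * a.1 * c, ?_⟩, ?_⟩) ?_
    · rw [Subgroup.mem_centralizer_singleton_iff]
      have := (hs a.1 a.2).2
      calc c⁻¹ * a.1 * c * x = c⁻¹ * (a.1 * (c * x * c⁻¹)) * c := by group
        _ = c⁻¹ * ((c * x * c⁻¹) * a.1) * c := by rw [this]
        _ = x * (c⁻¹ * a.1 * c) := by group
    · rw [← Subgroup.orderOf_coe]
      show orderOf (c⁻¹ * a.1 * c) = 2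
      rw [← (hs a.1 a.2).1]
      exact (hconjord _ _ (isConj_iff.mpr ⟨c⁻¹, by rw [inv_inv]⟩)).symm
    · intro a b h
      have h' : c⁻¹ * a.1 * c = c⁻¹ * b.1 * c := congrArg (fun z => z.1.1) h
      exact Subtype.ext (mul_left_cancel (mul_right_cancel h'))
  have hsimp : ∀ a : G, orderOf a = 2 → (∀ g : G, g * a * g⁻¹ * a = a * (g * a * g⁻¹)) →
      ∀ u v : G, orderOf u = 2 → orderOf v = 2 → v = u := by
    intro a ha hall
    have hn : Subgroup.normalClosure ({a} : Set G) = ⊤ :=
      (Subgroup.normalClosure_normal (s := ({a} : Set G))).eq_bot_or_eq_top.resolve_left (by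
        intro h
        have : a ∈ Subgroup.normalClosure ({a} : Set G) := Subgroup.subset_normalClosure rfl
        rw [h, Subgroup.mem_bot] at this
        rw [this, orderOf_one] at ha; omega)
    have hc : Subgroup.normalClosure ({a} : Set G) ≤ Subgroup.centralizer ({a} : Set G) := by
      rw [Subgroup.normalClosure, Subgroup.closure_le]
      intro b hb
      simp only [Group.mem_conjugatesOfSet_iff, Set.mem_singleton_iff, exists_eq_left, isConj_iff] at hb
      obtain ⟨g, rfl⟩ := hb
      exact Subgroup.mem_centralizer_singleton_iff.mpr (hall g)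
    have hz : a ∈ Subgroup.center G := by
      rw [Subgroup.mem_center_iff]
      intro g
      exact Subgroup.mem_centralizer_singleton_iff.mp (hc (hn ▸ Subgroup.mem_top g))
    have hct : Subgroup.center G = ⊤ :=
      (Subgroup.center G).normal_of_characteristic.eq_bot_or_eq_top.resolve_left (by
        intro h
        rw [h, Subgroup.mem_bot] at hz
        rw [hz, orderOf_one] at ha; omega)
    exact fun u v hu hv => eq_of_orderOf_two_of_comm_simple
      (fun p q => (Subgroup.mem_center_iff.mp (hct ▸ Subgroup.mem_top p) q).symm) hu hv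
  have one : ∀ v : G, orderOf v = 2 → IsConj x v := by
    by_contra hne
    push Not at hne
    obtain ⟨y, hy, hxy⟩ := hne
    obtain ⟨k, hw, hwx, hwy⟩ := exists_commuting_involution hx hy hxy
    -- some involution commuting with x is not conjugate to it
    obtain ⟨v, hv, hvx, hcv⟩ : ∃ v : G, orderOf v = 2 ∧ ¬ IsConj x v ∧ v * x = x * v := by
      by_contra hno
      push Not at hno
      set w := (x * y) ^ k
      have hxw : IsConj x w := by
        by_contra h; exact hno w hw h hwx
      obtain ⟨c, hc⟩ := isConj_iff.mp hxw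
      refine hno (c⁻¹ * y * c) ?_ ?_ ?_
      · rw [← hy]; exact hconjord _ _ (isConj_iff.mpr ⟨c, by group⟩)
      · intro h
        exact hxy (h.trans (isConj_iff.mpr ⟨c, by group⟩))
      · have := hwy.eq
        rw [← hc] at this
        calc c⁻¹ * y * c * x = c⁻¹ * (y * (c * x * c⁻¹)) * c := by group
          _ = c⁻¹ * ((c * x * c⁻¹) * y) * c := by rw [this]
          _ = x * (c⁻¹ * y * c) := by group
    have hvx' : v ≠ x := fun h => hvx (h ▸ IsConj.refl x)
    have hxv : orderOf (x * v) = 2 := by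
      refine orderOf_eq_prime ?_ ?_
      · rw [sq]
        calc x * v * (x * v) = x * (v * x) * v := by group
          _ = x * (x * v) * v := by rw [hcv]
          _ = (x * x) * (v * v) := by group
          _ = 1 := by rw [mul_self_of_orderOf hx, mul_self_of_orderOf hv, mul_one]
      · intro h
        exact hvx' (by rw [eq_inv_of_mul_eq_one_right h, inv_of_orderOf hx])
    have hne1 : x * v ≠ x := by
      intro h
      have : v = 1 := by simpa using h
      rw [this, orderOf_one] at hv; omega
    have hne2 : x * v ≠ v := by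
      intro h
      have : x = 1 := by simpa using h
      rw [this, orderOf_one] at hx; omega
    have only : ∀ a : G, orderOf a = 2 → a * x = x * a → a = x ∨ a = v ∨ a = x * v := by
      intro a ha hax
      by_contra hno
      push Not at hno
      have := three x (IsConj.refl x) ({a, x, v, x * v} : Finset G) (by
        intro b hb
        simp only [Finset.mem_insert, Finset.mem_singleton] at hb
        rcases hb with rfl | rfl | rfl | rfl
        · exact ⟨ha, hax⟩
        · exact ⟨hx, rfl⟩
        · exact ⟨hv, hcv⟩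
        · exact ⟨hxv, by rw [mul_assoc, hcv]⟩)
      rw [Finset.card_insert_of_notMem (by simp [hno.1, hno.2.1, hno.2.2]),
        Finset.card_insert_of_notMem (by simp [Ne.symm hvx', Ne.symm hne1]),
        Finset.card_pair (Ne.symm hne2)] at this
      omega
    by_cases hcase : IsConj x (x * v)
    · -- every conjugate of v commutes with v
      refine hvx' (hsimp v hv ?_ x v hx hv)
      intro g
      have hv' : orderOf (g * v * g⁻¹) = 2 := by
        rw [← hv]; exact (hconjord _ _ (isConj_iff.mpr ⟨g, rfl⟩)).symm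
      have hn' : ¬ IsConj x (g * v * g⁻¹) := fun h => hvx (h.trans (isConj_iff.mpr ⟨g, rfl⟩).symm)
      obtain ⟨k, hw, hwx, hwy⟩ := exists_commuting_involution hx hv' hn'
      rcases only _ hw hwx.eq with h | h | h
      · rw [h] at hwy
        rcases only _ hv' hwy.eq.symm with h' | h' | h'
        · exact absurd (h' ▸ IsConj.refl x) hn'
        · rw [h']
        · exact absurd (h' ▸ hcase) hn'
      · rw [h] at hwy; exact hwy.eq.symm
      · rw [h] at hwy
        by_contra hne'
        have h4 := three (x * v) hcase ({g * v * g⁻¹, x, v, x * v} : Finset G) (by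
          intro b hb
          simp only [Finset.mem_insert, Finset.mem_singleton] at hb
          rcases hb with e | e | e | e <;> rw [e]
          · exact ⟨hv', hwy.eq.symm⟩
          · exact ⟨hx, by rw [mul_assoc x v x, hcv]⟩
          · exact ⟨hv, by rw [← mul_assoc, hcv]⟩
          · exact ⟨hxv, rfl⟩)
        have n1 : g * v * g⁻¹ ≠ v := fun h' => hne' (by rw [h'])
        have n2 : g * v * g⁻¹ ≠ x := fun h' => hn' (h' ▸ IsConj.refl x)
        have n3 : g * v * g⁻¹ ≠ x * v := fun h' => hn' (h' ▸ hcase)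
        rw [Finset.card_insert_of_notMem (by simp [n1, n2, n3]),
          Finset.card_insert_of_notMem (by simp [Ne.symm hvx', Ne.symm hne1]),
          Finset.card_pair (Ne.symm hne2)] at h4
        omega
    · -- x is isolated
      have hisoc : ∀ g : G, g * x * g⁻¹ * x = x * (g * x * g⁻¹) → g * x * g⁻¹ = x := by
        intro g hg
        rcases only _ (by rw [← hx]; exact (hconjord _ _ (isConj_iff.mpr ⟨g, rfl⟩)).symm) hg with h | h | h
        · exact h
        · exact absurd (isConj_iff.mpr ⟨g, h⟩) hvx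
        · exact absurd (isConj_iff.mpr ⟨g, h⟩) hcase
      obtain ⟨R, hR⟩ := ((show IsPGroup 2 ↥(Subgroup.zpowers x) from
        IsPGroup.of_card (n := 1) (by rw [Nat.card_zpowers, hx, pow_one])).comap_subtype
          (K := Subgroup.centralizer ({x} : Set G))).exists_le_sylow
      obtain ⟨Q, hQ⟩ := (R.isPGroup'.map (Subgroup.centralizer ({x} : Set G)).subtype).exists_le_sylow
      have hxQ : x ∈ (Q : Subgroup G) := hQ
        ⟨⟨x, Subgroup.mem_centralizer_singleton_iff.mpr rfl⟩, hR (Subgroup.mem_zpowers x), rfl⟩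
      set D := (Subgroup.centralizer ({x} : Set G)).subgroupOf (Q : Subgroup G) with hD
      have hDtop : D = ⊤ := by
        by_contra hne'
        have := Q.isPGroup'.isNilpotent
        obtain ⟨s, hsN, hsD⟩ := SetLike.exists_of_lt
          (Group.normalizerCondition_of_isNilpotent D (lt_top_iff_ne_top.mpr hne'))
        apply hsD
        have hmem : (s * ⟨x, hxQ⟩ * s⁻¹ : (Q : Subgroup G)) ∈ D :=
          (Subgroup.mem_normalizer_iff.mp hsN _).mp (Subgroup.mem_centralizer_singleton_iff.mpr rfl)
        have := hisoc s.1 (Subgroup.mem_centralizer_singleton_iff.mp hmem)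
        exact Subgroup.mem_centralizer_singleton_iff.mpr (mul_inv_eq_iff_eq_mul.mp this)
      have hcQ : ∀ s ∈ (Q : Subgroup G), s * x = x * s := fun s hs => by
        have : (⟨s, hs⟩ : (Q : Subgroup G)) ∈ D := hDtop ▸ Subgroup.mem_top _
        exact Subgroup.mem_centralizer_singleton_iff.mp this
      obtain ⟨N, hN, hNo, hcomm⟩ := hZ Q x hx hxQ (fun g hg => hisoc g (hcQ _ hg))
      have hNbot : N = ⊥ := hN.eq_bot_or_eq_top.resolve_right (by
        intro h
        rw [h, Subgroup.card_top] at hNo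
        exact (Nat.not_even_iff_odd.mpr hNo) (even_iff_two_dvd.mpr (hx ▸ orderOf_dvd_natCard x)))
      refine hvx' (hsimp x hx ?_ x v hx hv)
      intro g
      have h := hcomm g
      rw [hNbot, Subgroup.mem_bot, mul_inv_eq_one] at h
      rw [mul_inv_eq_iff_eq_mul] at h
      have : g * x * g⁻¹ = x := by rw [← h]; group
      rw [this]
  refine ⟨?_, fun u v hu hv => (one u hu).symm.trans (one v hv)⟩
  obtain ⟨P⟩ := Sylow.nonempty (p := 2) (G := G)
  have hPne : Nontrivial (P : Subgroup G) := by
    rw [Subgroup.nontrivial_iff_ne_bot]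
    exact P.ne_bot_of_dvd_card (hx ▸ orderOf_dvd_natCard x)
  obtain ⟨z, hz⟩ := exists_prime_orderOf_dvd_card' 2 (G := ↥(Subgroup.center ↥(P : Subgroup G))) (by
    have := P.isPGroup'.center_nontrivial
    rcases (P.isPGroup'.to_subgroup (Subgroup.center ↥(P : Subgroup G))).card_eq_or_dvd with h | h
    · exact absurd h (Finite.one_lt_card.ne')
    · exact h)
  obtain ⟨c, hc⟩ := isConj_iff.mp (one z.1.1 (by rw [Subgroup.orderOf_coe, Subgroup.orderOf_coe, hz]))
  refine ⟨c⁻¹ • P, ?_⟩
  rintro _ ⟨s, hs, rfl⟩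
  rw [Subgroup.mem_centralizer_singleton_iff]
  have : s * z.1.1 = z.1.1 * s := congrArg Subtype.val (Subgroup.mem_center_iff.mp z.2 ⟨s, hs⟩)
  rw [← hc] at this
  show c⁻¹ * s * c⁻¹⁻¹ * x = x * (c⁻¹ * s * c⁻¹⁻¹)
  calc c⁻¹ * s * c⁻¹⁻¹ * x = c⁻¹ * (s * (c * x * c⁻¹)) * c := by group
    _ = c⁻¹ * ((c * x * c⁻¹) * s) * c := by rw [this]
    _ = x * (c⁻¹ * s * c⁻¹⁻¹) := by group

end CfsgLib.InvChar
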